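import Groth.Agent.MonoPtLib.LimSepScheme
/-!
# Separatedness in affine limits of algebraic spaces
-/

set_option autoImplicit false
set_option backward.isDefEq.respectTransparency false
set_option backward.isDefEq.respectTransparency.types false
universe u
open CategoryTheory CategoryTheory.Limits AlgebraicGeometry AlgSp

namespace Groth.Agent.MonoPtLib

variable {S : Scheme.{u}}

/-- The base change of the diagonal of `π : A ⟶ B` along a pair of maps. -/
theorem isPullback_lift_diagonal {A B E : Sp S} {π : A ⟶ B} {L : A ⟶ E} {κ : E ⟶ pullback π π}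
    (w : L ≫ κ = pullback.diagonal π) (hL : ∀ {Z : Sp S} (x : Z ⟶ A) (e : Z ⟶ E),
      x ≫ pullback.diagonal π = e ≫ κ → x ≫ L = e) :
    IsPullback (𝟙 A) L (pullback.diagonal π) κ := by
  refine ⟨⟨by rw [Category.id_comp, w]⟩, ⟨PullbackCone.IsLimit.mk _ (fun c => c.fst) (fun c => Category.comp_id _)
    (fun c => hL _ _ c.condition) (fun c m h1 _ => ?_)⟩⟩
  simpa using h1

variable [QuasiSeparatedSpace S] {I : Type u} [SmallCategory I] [IsCofiltered I]

/-- Eventual separatedness over a fixed base. -/
theorem eventually_separated (Y : Sp S) (hY : IsAlgSpace Y) (D : I ⥤ Sp S) (hD : ∀ i, IsAlgSpace (D.obj i))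
    (t : D ⟶ (Functor.const I).obj Y) (hDa : ∀ (i j : I) (φ : i ⟶ j), IsAffineMor (D.map φ))
    (c : Cone D) (hc : IsLimit c) (g : c.pt ⟶ Y) (hg : ∀ i, c.π.app i ≫ t.app i = g)
    (hqc : ∀ i, IsQuasiCompactSp (D.obj i)) (hqs : ∀ i, IsQuasiSeparatedSp (D.obj i))
    (hYqs : IsQuasiSeparatedSp Y) (hX : IsSeparatedMor g) :
    ∃ i₀ : I, ∀ (i : I) (_ : i ⟶ i₀), IsSeparatedMor (t.app i) := by
  have nat : ∀ {i j : I} (φ : i ⟶ j), D.map φ ≫ t.app j = t.app i := fun φ => by
    simpa using t.naturality φ
  have hDR : ∀ {i j : I} (φ : i ⟶ j), RepWith @IsAffineHom (D.map φ) := fun φ =>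
    AlgSpLib.isAffineMor_iff.1 (hDa _ _ φ)
  -- the system of self fibre products
  let M : I ⥤ Sp S :=
    { obj := fun i => pullback (t.app i) (t.app i)
      map := fun {i j} φ => pullback.lift (pullback.fst _ _ ≫ D.map φ) (pullback.snd _ _ ≫ D.map φ) (by
        rw [Category.assoc, Category.assoc, nat φ]
        exact pullback.condition)
      map_id := fun i => by apply pullback.hom_ext <;> simp
      map_comp := fun φ ψ => by apply pullback.hom_ext <;> simp }
  have hMmap : ∀ {i j : I} (φ : i ⟶ j), RepWith @IsAffineHom (M.map φ) := fun {i j} φ => by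
    have e : M.map φ = pullback.map (t.app i) (t.app i) (t.app j) (t.app j) (D.map φ) (D.map φ) (𝟙 _)
        ((Category.comp_id _).trans (nat φ).symm) ((Category.comp_id _).trans (nat φ).symm) := by
      apply pullback.hom_ext <;> simp [M]
    rw [e]
    exact MorphismProperty.pullbackMap (hDR φ) (hDR φ) (nat φ).symm (nat φ).symm
  let cM : Cone M :=
    { pt := pullback g g
      π :=
        { app := fun i => pullback.lift (pullback.fst _ _ ≫ c.π.app i) (pullback.snd _ _ ≫ c.π.app i) (by
            rw [Category.assoc, Category.assoc, hg]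
            exact pullback.condition)
          naturality := fun i j φ => by
            dsimp
            apply pullback.hom_ext <;> simp [M] } }
  let cD₁ : Cone M → Cone D := fun s =>
    { pt := s.pt
      π :=
        { app := fun i => s.π.app i ≫ pullback.fst _ _
          naturality := fun i j φ => by
            dsimp
            rw [Category.id_comp, ← s.w φ, Category.assoc, Category.assoc]
            exact congrArg _ (pullback.lift_fst _ _ _) } }
  let cD₂ : Cone M → Cone D := fun s =>
    { pt := s.pt
      π :=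
        { app := fun i => s.π.app i ≫ pullback.snd _ _
          naturality := fun i j φ => by
            dsimp
            rw [Category.id_comp, ← s.w φ, Category.assoc, Category.assoc]
            exact congrArg _ (pullback.lift_snd _ _ _) } }
  obtain ⟨i₀⟩ := (IsCofiltered.nonempty : Nonempty I)
  have hcM : IsLimit cM :=
    { lift := fun s => pullback.lift (hc.lift (cD₁ s)) (hc.lift (cD₂ s)) (by
        rw [← hg i₀, hc.fac_assoc, hc.fac_assoc]
        simp [cD₁, cD₂, pullback.condition])
      fac := fun s i => by
        apply pullback.hom_ext <;> simp [cM, cD₁, cD₂]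
      uniq := fun s m hm => by
        apply pullback.hom_ext
        · refine hc.hom_ext fun i => ?_
          rw [pullback.lift_fst, hc.fac]
          simp [cD₁, cM, ← hm i]
        · refine hc.hom_ext fun i => ?_
          rw [pullback.lift_snd, hc.fac]
          simp [cD₂, cM, ← hm i] }
  have hMA : ∀ i, IsAlgSpace (M.obj i) := fun i => AlgSpLib.isAlgSpace_pullback (hD i) (hD i) hY _ _
  have hMa : ∀ (i j : I) (φ : i ⟶ j), IsAffineMor (M.map φ) := fun i j φ =>
    AlgSpLib.isAffineMor_iff.2 (hMmap φ)
  have hMqc : ∀ i, IsQuasiCompactSp (M.obj i) := fun i =>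
    isQuasiCompactSp_self_pullback (hD i) hY (t.app i) (hqc i) hYqs
  have hMqs : ∀ i, IsQuasiSeparatedSp (M.obj i) := fun i =>
    AlgSpLib.isQuasiSeparatedSp_of_isPullback (IsPullback.of_hasPullback _ _) (hqs i) hYqs (hqs i)
  have δnat : ∀ {i j : I} (φ : i ⟶ j),
      D.map φ ≫ pullback.diagonal (t.app j) = pullback.diagonal (t.app i) ≫ M.map φ := fun φ => by
    apply pullback.hom_ext <;> simp [M]
  have δlim : ∀ i, pullback.diagonal g ≫ cM.π.app i = c.π.app i ≫ pullback.diagonal (t.app i) := fun i => by
    apply pullback.hom_ext <;> simp [cM]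
  -- eventually the diagonals are affine
  obtain ⟨⟨h1⟩, -, -⟩ := limit_over_data D hc i₀
  let τ : Over.forget i₀ ⋙ D ⟶ (Functor.const (Over i₀)).obj (M.obj i₀) :=
    { app := fun k => pullback.diagonal (t.app k.left) ≫ M.map k.hom
      naturality := fun k l φ => by
        dsimp
        rw [Category.comp_id, reassoc_of% δnat φ.left, ← M.map_comp, Over.w φ] }
  obtain ⟨k₁, hk₁⟩ := eventually_affine (M.obj i₀) (hMA i₀) _ (fun k => hD k.left) τ
    (fun k l φ => hDa _ _ φ.left) _ h1 (pullback.diagonal g ≫ cM.π.app i₀)
    (fun k => by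
      change c.π.app k.left ≫ pullback.diagonal (t.app k.left) ≫ M.map k.hom = _
      rw [← Category.assoc, ← δlim, Category.assoc, cM.w])
    (fun k => hqc k.left) (fun k => hqs k.left) (hMqc i₀) (hMqs i₀)
    (AlgSpLib.isAffineMor_iff.2 (AlgSpLib.repWith_comp (AlgSpLib.repWith_mono
      (fun _ _ u (_ : IsClosedImmersion u) => (inferInstance : IsAffineHom u)) hX)
      (AlgSpLib.isAffineMor_iff.1 (isAffineMor_proj M hMa hcM i₀))))
  have hδaff : ∀ k : Over k₁.left, RepWith @IsAffineHom (pullback.diagonal (t.app k.left)) := fun k => by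
    let k' : Over i₀ := Over.mk (k.hom ≫ k₁.hom)
    exact AlgSpLib.repWith_of_comp (fun _ _ u (_ : IsClosedImmersion u) => (inferInstance : IsAffineHom u))
      (AlgSpLib.isSeparatedMor_of_repWith (AlgSpLib.repWith_mono
        (fun _ _ u (_ : IsAffineHom u) => (inferInstance : IsSeparated u)) (hMmap k'.hom)))
      (AlgSpLib.isAffineMor_iff.1 (hk₁ k' (Over.homMk k.hom)))
  -- the chart
  let i₁ := k₁.left
  obtain ⟨Z, a, hZ, ha, has⟩ := AlgSpLib.exists_affine_chart (hMqc i₁)
  obtain ⟨⟨hM1⟩, ⟨hM2⟩, hM3⟩ := limit_over_data M hcM i₁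
  obtain ⟨W, cW, iW, fW, p, q, ⟨hcW⟩, hWaff, hW, sqW, hiW, hfW, hpW, sqWl⟩ :=
    exists_pullback_limit' (overNat M i₁) (fun k => hMa _ _ k.hom) hM1 hM2 (cM.π.app i₁) hM3 hZ a
  change ∀ k : Over i₁, (yon S).obj (W.obj k) ⟶ M.obj k.left at q
  have sqW' : ∀ k : Over i₁, IsPullback (q k) ((yon S).map (p k)) (M.map k.hom) a := fun k => by
    have h := sqW k
    change IsPullback _ _ _ (a ≫ 𝟙 _) at h
    rw [Category.comp_id] at h
    exact h
  obtain ⟨⟨hD1⟩, -, -⟩ := limit_over_data D hc i₁
  haveI : IsConnected (Over i₁) := IsCofiltered.isConnected _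
  let τ₁ : Over.forget i₁ ⋙ D ⟶ (Functor.const (Over i₁)).obj (M.obj i₁) :=
    { app := fun k => pullback.diagonal (t.app k.left) ≫ M.map k.hom
      naturality := fun k l φ => by
        dsimp
        rw [Category.comp_id, reassoc_of% δnat φ.left, ← M.map_comp, Over.w φ] }
  obtain ⟨T, cT, iT, fT, p', q', ⟨hcT⟩, -, hT, sqT, hiT, hfT, hpT, sqTl⟩ :=
    exists_pullback_limit' τ₁ (fun k => AlgSpLib.isAffineMor_iff.2 (AlgSpLib.repWith_comp (hδaff k) (hMmap k.hom)))
      hD1 (isLimitConstCone (Over i₁) (M.obj i₁)) (pullback.diagonal g ≫ cM.π.app i₁)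
      (fun k => by
        change (pullback.diagonal g ≫ cM.π.app i₁) ≫ 𝟙 _ =
          c.π.app k.left ≫ pullback.diagonal (t.app k.left) ≫ M.map k.hom
        rw [Category.comp_id, ← Category.assoc (c.π.app k.left), ← δlim, Category.assoc, cM.w]) hZ a
  change ∀ k : Over i₁, (yon S).obj (T.obj k) ⟶ D.obj k.left at q'
  have sqT' : ∀ k : Over i₁, IsPullback (q' k) ((yon S).map (p' k))
      (pullback.diagonal (t.app k.left) ≫ M.map k.hom) a := fun k => by
    have h := sqT k
    change IsPullback _ _ _ (a ≫ 𝟙 _) at h
    rw [Category.comp_id] at h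
    exact h
  choose h hh using fun k : Over i₁ => (yon S).map_surjective ((sqW' k).lift
    (q' k ≫ pullback.diagonal (t.app k.left)) ((yon S).map (p' k))
    ((Category.assoc _ _ _).trans (sqT' k).w))
  have hh1 : ∀ k, (yon S).map (h k) ≫ q k = q' k ≫ pullback.diagonal (t.app k.left) := fun k => by
    rw [hh, IsPullback.lift_fst]
  have hh2 : ∀ k, h k ≫ p k = p' k := fun k => (yon S).map_injective (by
    rw [Functor.map_comp, hh, IsPullback.lift_snd])
  have sqh : ∀ k, IsPullback (q' k) ((yon S).map (h k)) (pullback.diagonal (t.app k.left)) (q k) := fun k =>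
    IsPullback.of_bot (v₂₁ := (yon S).map (p k)) (v₂₂ := M.map k.hom) (h₃₁ := a)
      (by rw [← Functor.map_comp, hh2]; exact sqT' k) (hh1 k).symm (sqW' k)
  have hpT2 : ∀ {j k : Over i₁} (φ : j ⟶ k),
      (yon S).map (T.map φ) ≫ q' k = q' j ≫ D.map φ.left := fun φ => (hpT φ).2
  have hpW2 : ∀ {j k : Over i₁} (φ : j ⟶ k),
      (yon S).map (W.map φ) ≫ q k = q j ≫ M.map φ.left := fun φ => (hpW φ).2
  have Wext : ∀ {A : Over S} (k : Over i₁) (x y : A ⟶ W.obj k), (yon S).map x ≫ q k = (yon S).map y ≫ q k →
      x ≫ p k = y ≫ p k → x = y := fun k x y e1 e2 => (yon S).map_injective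
    ((sqW' k).hom_ext e1 (by rw [← Functor.map_comp, ← Functor.map_comp, e2]))
  let hN : T ⟶ W :=
    { app := h
      naturality := fun j k φ => Wext k _ _
        (by rw [Functor.map_comp, Functor.map_comp, Category.assoc, Category.assoc, hh1, hpW2, ← Category.assoc,
              hpT2, ← Category.assoc ((yon S).map (h j)), hh1, Category.assoc, Category.assoc, δnat])
        (by rw [Category.assoc, Category.assoc, hh2, (hpW φ).1, hh2, (hpT φ).1]) }
  obtain ⟨hi, hhi⟩ := (yon S).map_surjective (sqWl.lift (fT ≫ pullback.diagonal g) ((yon S).map iT)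
    (by rw [Category.assoc]; exact sqTl.w))
  have sqhi : IsPullback fT ((yon S).map hi) (pullback.diagonal g) fW :=
    IsPullback.of_bot (v₂₁ := (yon S).map iW) (v₂₂ := cM.π.app i₁) (h₃₁ := a)
      (by rw [hhi, IsPullback.lift_snd]; exact sqTl) (by rw [hhi, IsPullback.lift_fst]) sqWl
  haveI : IsClosedImmersion hi.left := hX.property _ _ _ sqhi
  haveI : IsAffine cW.pt.left := hWaff
  haveI : IsAffine ((Over.forget S).mapCone cW).pt := hWaff
  have hfW' : ∀ k, fW ≫ cM.π.app k.left = (yon S).map (cW.π.app k) ≫ q k := hfW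
  have hfT' : ∀ k, fT ≫ c.π.app k.left = (yon S).map (cT.π.app k) ≫ q' k := hfT
  have hcomp : ∀ k, hi ≫ cW.π.app k = cT.π.app k ≫ h k := fun k => Wext k _ _
    (by rw [Functor.map_comp, Functor.map_comp, Category.assoc, Category.assoc, hh1, ← hfW' k, ← Category.assoc,
          hhi, IsPullback.lift_fst, Category.assoc, δlim, ← Category.assoc, hfT', Category.assoc])
    (by rw [Category.assoc, Category.assoc, hh2, hiW, hiT]
        exact (yon S).map_injective (by rw [Functor.map_comp, hhi, IsPullback.lift_snd]))
  obtain ⟨hlT⟩ := scheme_isLimit hcT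
  obtain ⟨hlW⟩ := scheme_isLimit hcW
  obtain ⟨m, hm⟩ := exists_closedImmersion_sys (T := T ⋙ Over.forget S) (W := W ⋙ Over.forget S) hlT hlW hT hW
    (Functor.whiskerRight hN (Over.forget S))
    (fun k => (AlgSpLib.repWith_diagonal_properties (hD k.left) (t.app k.left)).2.1.property _ _ _ (sqh k))
    (fun {j k} φ => by
      let L : T.obj j ⟶ pullback (h k) (W.map φ) := pullback.lift (T.map φ) (h j) (hN.naturality φ)
      let κ : (yon S).obj (pullback (h k) (W.map φ)) ⟶ pullback (D.map φ.left) (D.map φ.left) :=
        pullback.lift ((yon S).map (pullback.snd (h k) (W.map φ)) ≫ q j ≫ pullback.fst _ _)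
          ((yon S).map (pullback.snd (h k) (W.map φ)) ≫ q j ≫ pullback.snd _ _) (by
            have e1 : M.map φ.left ≫ pullback.fst _ _ = pullback.fst _ _ ≫ D.map φ.left := pullback.lift_fst _ _ _
            have e2 : M.map φ.left ≫ pullback.snd _ _ = pullback.snd _ _ ≫ D.map φ.left := pullback.lift_snd _ _ _
            rw [Category.assoc, Category.assoc, Category.assoc, Category.assoc, ← e1, ← e2,
              ← Category.assoc (q j), ← hpW2 φ, ← Category.assoc (q j), ← hpW2 φ]
            simp only [← Category.assoc, ← Functor.map_comp]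
            rw [← pullback.condition]
            simp only [Functor.map_comp, Category.assoc, reassoc_of% hh1 k, pullback.diagonal_fst,
              pullback.diagonal_snd])
      have hκ : ∀ {A : Sp S} (e : A ⟶ (yon S).obj (pullback (h k) (W.map φ))),
          e ≫ κ ≫ pullback.fst _ _ = e ≫ (yon S).map (pullback.snd (h k) (W.map φ)) ≫ q j ≫ pullback.fst _ _ ∧
          e ≫ κ ≫ pullback.snd _ _ = e ≫ (yon S).map (pullback.snd (h k) (W.map φ)) ≫ q j ≫ pullback.snd _ _ :=
        fun e => ⟨congrArg _ (pullback.lift_fst _ _ _), congrArg _ (pullback.lift_snd _ _ _)⟩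
      have sqL : IsPullback (q' j) ((yon S).map L) (pullback.diagonal (D.map φ.left)) κ := by
        have w : q' j ≫ pullback.diagonal (D.map φ.left) = (yon S).map L ≫ κ := by
          apply pullback.hom_ext
          · rw [Category.assoc, Category.assoc, (hκ _).1, pullback.diagonal_fst, Category.comp_id,
              ← Functor.map_comp_assoc, pullback.lift_snd, reassoc_of% hh1 j, pullback.diagonal_fst, Category.comp_id]
          · rw [Category.assoc, Category.assoc, (hκ _).2, pullback.diagonal_snd, Category.comp_id,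
              ← Functor.map_comp_assoc, pullback.lift_snd, reassoc_of% hh1 j, pullback.diagonal_snd, Category.comp_id]
        have hd : ∀ {A : Sp S} (x : A ⟶ D.obj j.left) (e : A ⟶ (yon S).obj (pullback (h k) (W.map φ))),
            x ≫ pullback.diagonal (D.map φ.left) = e ≫ κ →
            x ≫ pullback.diagonal (t.app j.left) = (e ≫ (yon S).map (pullback.snd (h k) (W.map φ))) ≫ q j := by
          intro A x e he
          have he1 := congrArg (· ≫ pullback.fst _ _) he
          have he2 := congrArg (· ≫ pullback.snd _ _) he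
          simp only [Category.assoc, pullback.diagonal_fst, pullback.diagonal_snd, Category.comp_id] at he1 he2
          rw [(hκ e).1] at he1
          rw [(hκ e).2] at he2
          apply pullback.hom_ext
          · rw [Category.assoc, pullback.diagonal_fst, Category.comp_id, he1]
            simp only [Category.assoc]
          · rw [Category.assoc, pullback.diagonal_snd, Category.comp_id, he2]
            simp only [Category.assoc]
        refine ⟨⟨w⟩, ⟨PullbackCone.IsLimit.mk _
          (fun s => (sqh j).lift s.fst (s.snd ≫ (yon S).map (pullback.snd (h k) (W.map φ))) (hd _ _ s.condition))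
          (fun s => IsPullback.lift_fst _ _ _ _) (fun s => ?_) (fun s n h1 h2 => ?_)⟩⟩
        · refine ((IsPullback.of_hasPullback (h k) (W.map φ)).map (yon S)).hom_ext ?_ ?_
          · rw [Category.assoc, ← Functor.map_comp, pullback.lift_fst]
            refine (sqh k).hom_ext ?_ ?_
            · have hc' := congrArg (· ≫ pullback.fst _ _) (hd _ _ s.condition)
              simp only [Category.assoc, pullback.diagonal_fst, Category.comp_id] at hc'
              rw [Category.assoc, Category.assoc, hpT2, ← Category.assoc, IsPullback.lift_fst, hc', Category.assoc,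
                Category.assoc, Category.assoc]
              have e1 : M.map φ.left ≫ pullback.fst _ _ = pullback.fst _ _ ≫ D.map φ.left := pullback.lift_fst _ _ _
              rw [← e1, ← Category.assoc (q j), ← hpW2 φ, Category.assoc, ← Functor.map_comp_assoc,
                ← pullback.condition, Functor.map_comp_assoc, reassoc_of% hh1 k, pullback.diagonal_fst,
                Category.comp_id]
            · rw [Category.assoc, Category.assoc, ← Functor.map_comp, ← Functor.map_comp,
                show T.map φ ≫ h k = h j ≫ W.map φ from hN.naturality φ, pullback.condition,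
                Functor.map_comp, Functor.map_comp, ← Category.assoc, IsPullback.lift_snd, Category.assoc]
          · rw [Category.assoc, ← Functor.map_comp, pullback.lift_snd, IsPullback.lift_snd]
        · refine (sqh j).hom_ext ?_ ?_
          · rw [IsPullback.lift_fst]; exact h1
          · rw [IsPullback.lift_snd, ← h2, Category.assoc, ← Functor.map_comp, pullback.lift_snd]
      haveI hL : IsClosedImmersion L.left :=
        (AlgSpLib.isSeparatedMor_of_repWith (AlgSpLib.repWith_mono
          (fun _ _ u (_ : IsAffineHom u) => (inferInstance : IsSeparated u)) (hDR φ.left))).property κ (q' j) L sqL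
      let E := ((IsPullback.of_hasPullback (h k) (W.map φ)).map (Over.forget S)).isoPullback
      have e : L.left ≫ E.hom =
          pullback.lift (f := (h k).left) (g := (W.map φ).left) (T.map φ).left (h j).left
            (congrArg CommaMorphism.left (hN.naturality φ)) := by
        apply pullback.hom_ext
        · rw [Category.assoc, IsPullback.isoPullback_hom_fst]
          refine Eq.trans ?_ (pullback.lift_fst (f := (h k).left) (g := (W.map φ).left) (T.map φ).left (h j).left
            (congrArg CommaMorphism.left (hN.naturality φ))).symm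
          exact congrArg CommaMorphism.left (pullback.lift_fst (T.map φ) (h j) (hN.naturality φ))
        · rw [Category.assoc, IsPullback.isoPullback_hom_snd]
          refine Eq.trans ?_ (pullback.lift_snd (f := (h k).left) (g := (W.map φ).left) (T.map φ).left (h j).left
            (congrArg CommaMorphism.left (hN.naturality φ))).symm
          exact congrArg CommaMorphism.left (pullback.lift_snd (T.map φ) (h j) (hN.naturality φ))
      change IsClosedImmersion (pullback.lift (f := (h k).left) (g := (W.map φ).left) (T.map φ).left (h j).left _)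
      rw [← e]
      infer_instance)
    hi.left (fun k => congrArg CommaMorphism.left (hcomp k))
  -- conclusion
  refine ⟨m.left, fun n ψ => ?_⟩
  let k : Over i₁ := Over.mk (ψ ≫ m.hom)
  let φ : k ⟶ m := Over.homMk ψ
  have hm' : RepWith @IsClosedImmersion (pullback.diagonal (t.app m.left)) :=
    AlgSpLib.repWith_of_etale_cover (fun _ _ u (_ : IsClosedImmersion u) => (inferInstance : IsAffineHom u))
      (AlgSpLib.repWith_of_isPullback (sqW' m).flip ha) (AlgSpLib.repWith_of_isPullback (sqW' m).flip has)
      (sqh m) ((repWith_yon_map_iff _ _).2 hm)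
  have hsep : IsSeparatedMor (D.map ψ ≫ t.app m.left) := AlgSpLib.isSeparatedMor_comp
    (AlgSpLib.isSeparatedMor_of_repWith (AlgSpLib.repWith_mono
      (fun _ _ u (_ : IsAffineHom u) => (inferInstance : IsSeparated u)) (hDR ψ))) hm'
  rw [nat ψ] at hsep
  exact hsep

/-- The one point sheaf is terminal. -/
noncomputable def isTerminalOne : IsTerminal ((yon S).obj (Over.mk (𝟙 S))) :=
  IsTerminal.isTerminalObj (yon S) _ Over.mkIdTerminal

/-- If the limit is separated then so is a stage. -/
theorem exists_separated_stage (D : I ⥤ Sp S) (hD : ∀ i, IsAlgSpace (D.obj i))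
    (hDa : ∀ (i j : I) (φ : i ⟶ j), IsAffineMor (D.map φ)) (c : Cone D) (hc : IsLimit c)
    (hqc : ∀ i, IsQuasiCompactSp (D.obj i)) (hqs : ∀ i, IsQuasiSeparatedSp (D.obj i))
    (hX : IsSeparatedSp c.pt) : ∃ i, IsSeparatedSp (D.obj i) := by
  haveI : QuasiSeparatedSpace (Over.mk (𝟙 S)).left := inferInstanceAs (QuasiSeparatedSpace S)
  obtain ⟨i₀, h⟩ := eventually_separated _ (IsAlgSpace.yon_obj (Over.mk (𝟙 S))) D hD
    { app := fun i => isTerminalOne.from (D.obj i), naturality := fun _ _ _ => isTerminalOne.hom_ext _ _ }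
    hDa c hc (isTerminalOne.from c.pt) (fun i => isTerminalOne.hom_ext _ _) hqc hqs (isQuasiSeparatedSp_yon _)
    (AlgSpLib.repWith_diagonal_of_diag _ hX)
  refine ⟨i₀, ?_⟩
  have hsep := h i₀ (𝟙 _)
  let f := isTerminalOne.from (D.obj i₀)
  haveI : IsIso (prod.lift (pullback.fst f f) (pullback.snd f f)) :=
    ⟨pullback.lift prod.fst prod.snd (isTerminalOne.hom_ext _ _),
      by apply pullback.hom_ext <;> simp, by apply Limits.prod.hom_ext <;> simp⟩
  have e : Limits.diag (D.obj i₀) = pullback.diagonal f ≫ prod.lift (pullback.fst f f) (pullback.snd f f) := by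
    apply Limits.prod.hom_ext <;> simp [Category.assoc]
  unfold IsSeparatedSp
  rw [e]
  exact ((RepWith _).cancel_right_of_respectsIso _ _).2 hsep

end Groth.Agent.MonoPtLib
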