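import Groth.Agent.MonoPtLib.LimIso
import Groth.Agent.MonoPtLib.LimSepApps
/-!
# Monomorphisms into a limit are monomorphisms into a stage
-/

set_option autoImplicit false
set_option backward.isDefEq.respectTransparency false
set_option backward.isDefEq.respectTransparency.types false
universe u
open CategoryTheory CategoryTheory.Limits AlgebraicGeometry AlgSp

namespace Groth.Agent.MonoPtLib

variable {S : Scheme.{u}}

theorem closedImmersion_diagonal_of_affine {F G : Sp S} {f : F ⟶ G} (hf : IsAffineMor f) :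
    RepWith @IsClosedImmersion (pullback.diagonal f) :=
  (AlgSpLib.repWith_diagonal_iff (P := @IsClosedImmersion) (Q := @IsSeparated)
    (fun g => ⟨fun h => ⟨h⟩, fun h => h.1⟩) (AlgSpLib.representable_of_affine hf)).2
    (AlgSpLib.repWith_mono (fun _ _ g (_ : IsAffineHom g) => (inferInstance : IsSeparated g))
      (AlgSpLib.isAffineMor_iff.1 hf))

/-- Changing the base of a fibre square along a separated morphism gives a closed immersion. -/
theorem closedImmersion_pullback_lift {Y A B : Sp S} (a : Y ⟶ A) (π : A ⟶ B) (hπ : IsAffineMor π)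
    (m : pullback a a ⟶ pullback (a ≫ π) (a ≫ π)) (hm1 : m ≫ pullback.fst _ _ = pullback.fst _ _)
    (hm2 : m ≫ pullback.snd _ _ = pullback.snd _ _) : RepWith @IsClosedImmersion m := by
  let κ : pullback (a ≫ π) (a ≫ π) ⟶ pullback π π :=
    pullback.lift (pullback.fst _ _ ≫ a) (pullback.snd _ _ ≫ a) (by simpa using pullback.condition)
  have w : (pullback.fst a a ≫ a) ≫ pullback.diagonal π = m ≫ κ := by
    apply pullback.hom_ext <;>
      simp only [κ, Category.assoc, pullback.diagonal_fst, pullback.diagonal_snd, pullback.lift_fst,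
        pullback.lift_snd, Category.comp_id, reassoc_of% hm1, reassoc_of% hm2, pullback.condition]
  have h1 : ∀ s : PullbackCone (pullback.diagonal π) κ,
      s.snd ≫ pullback.fst _ _ ≫ a = s.fst := fun s => by
    simpa [κ] using (congrArg (· ≫ pullback.fst π π) s.condition).symm
  have h2 : ∀ s : PullbackCone (pullback.diagonal π) κ,
      s.snd ≫ pullback.snd _ _ ≫ a = s.fst := fun s => by
    simpa [κ] using (congrArg (· ≫ pullback.snd π π) s.condition).symm
  have sq : IsPullback (pullback.fst a a ≫ a) m (pullback.diagonal π) κ := by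
    refine ⟨⟨w⟩, ⟨PullbackCone.IsLimit.mk w
      (fun s => pullback.lift (s.snd ≫ pullback.fst _ _) (s.snd ≫ pullback.snd _ _)
        (by simpa using (h1 s).trans (h2 s).symm))
      (fun s => by simpa using h1 s)
      (fun s => by apply pullback.hom_ext <;> simp [hm1, hm2])
      (fun s l _ hl => ?_)⟩⟩
    apply pullback.hom_ext
    · rw [pullback.lift_fst, ← hl, Category.assoc, hm1]
    · rw [pullback.lift_snd, ← hl, Category.assoc, hm2]
  exact AlgSpLib.repWith_of_isPullback sq (closedImmersion_diagonal_of_affine hπ)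

variable {I : Type u} [SmallCategory I] [IsCofiltered I]

/-- Monomorphisms into a limit are monomorphisms into a stage. -/
theorem eventually_mono [QuasiSeparatedSpace S] (B : Sp S) (hB : IsAlgSpace B) (D : I ⥤ Sp S) (hD : ∀ i, IsAlgSpace (D.obj i))
    (hDa : ∀ (i j : I) (φ : i ⟶ j), IsAffineMor (D.map φ))
    (c : Cone D) (hc : IsLimit c) (Y : Sp S) (hY : IsAlgSpace Y) (hYqc : IsQuasiCompactSp Y)
    (y : Y ⟶ c.pt) [Mono y] (i₁ : I) (hqs : IsQuasiSeparatedSp (D.obj i₁)) (t₁ : D.obj i₁ ⟶ B)
    (hYB : LocP @LocallyOfFiniteType (y ≫ c.π.app i₁ ≫ t₁)) :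
    ∃ i₀ : I, ∀ (i : I) (_ : i ⟶ i₀), Mono (y ≫ c.π.app i) := by
  haveI : IsConnected (Over i₁) := IsCofiltered.isConnected _
  let yk : ∀ k : Over i₁, Y ⟶ D.obj k.left := fun k => y ≫ c.π.app k.left
  have hyk : ∀ {k l : Over i₁} (φ : k ⟶ l), yk k ≫ D.map φ.left = yk l := fun φ => by
    simp [yk, c.w]
  have hcond : ∀ {k l : Over i₁} (φ : k ⟶ l),
      pullback.fst (yk k) (yk k) ≫ yk l = pullback.snd (yk k) (yk k) ≫ yk l := fun φ => by
    rw [← hyk φ, pullback.condition_assoc]
  let P : Over i₁ ⥤ Sp S :=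
    { obj := fun k => pullback (yk k) (yk k)
      map := fun {k l} φ => pullback.lift (pullback.fst _ _) (pullback.snd _ _) (hcond φ)
      map_id := fun k => by apply pullback.hom_ext <;> simp
      map_comp := fun φ ψ => by apply pullback.hom_ext <;> simp }
  let cP : Cone P :=
    { pt := Y
      π :=
        { app := fun k => pullback.diagonal (yk k)
          naturality := fun k l φ => by apply pullback.hom_ext <;> simp [P] } }
  let k₀ : Over i₁ := Over.mk (𝟙 i₁)
  obtain ⟨⟨hw⟩, -, -⟩ := limit_over_data D hc i₁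
  let fstk : ∀ k, P.obj k ⟶ Y := fun k => pullback.fst _ _
  let sndk : ∀ k, P.obj k ⟶ Y := fun k => pullback.snd _ _
  have hfst : ∀ (s : Cone P) (k : Over i₁), s.π.app k ≫ fstk k = s.π.app k₀ ≫ fstk k₀ := fun s k => by
    rw [← s.w (Over.homMk k.hom : k ⟶ k₀)]
    simp [P, fstk]
  have hsnd : ∀ (s : Cone P) (k : Over i₁), s.π.app k ≫ sndk k = s.π.app k₀ ≫ sndk k₀ := fun s k => by
    rw [← s.w (Over.homMk k.hom : k ⟶ k₀)]
    simp [P, sndk]
  have heq : ∀ s : Cone P, s.π.app k₀ ≫ fstk k₀ = s.π.app k₀ ≫ sndk k₀ := fun s => by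
    rw [← cancel_mono y]
    refine hw.hom_ext fun k => ?_
    change ((s.π.app k₀ ≫ fstk k₀) ≫ y) ≫ c.π.app k.left = ((s.π.app k₀ ≫ sndk k₀) ≫ y) ≫ c.π.app k.left
    rw [← hfst s k, ← hsnd s k]
    simp only [Category.assoc]
    exact congrArg (s.π.app k ≫ ·) pullback.condition
  have hcP : IsLimit cP :=
    { lift := fun s => s.π.app k₀ ≫ fstk k₀
      fac := fun s k => by
        apply pullback.hom_ext
        · simp only [cP, Category.assoc, pullback.diagonal_fst, Category.comp_id]
          exact (hfst s k).symm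
        · simp only [cP, Category.assoc, pullback.diagonal_snd, Category.comp_id]
          rw [heq]
          exact (hsnd s k).symm
      uniq := fun s m hm => by
        rw [← hm k₀]
        simp [cP, fstk] }
  have hPA : ∀ k, IsAlgSpace (P.obj k) := fun k => AlgSpLib.isAlgSpace_pullback hY hY (hD k.left) _ _
  have hPc : ∀ (k l : Over i₁) (φ : k ⟶ l), RepWith @IsClosedImmersion (P.map φ) := fun k l φ => by
    have e : yk k ≫ D.map φ.left = yk l := hyk φ
    let iso : pullback (yk k ≫ D.map φ.left) (yk k ≫ D.map φ.left) ≅ pullback (yk l) (yk l) :=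
      pullback.congrHom e e
    have h := closedImmersion_pullback_lift (yk k) _ (hDa _ _ φ.left) (P.map φ ≫ iso.inv)
      (by simp [P, iso]) (by simp [P, iso])
    have h' := AlgSpLib.repWith_comp h (AlgSpLib.repWith_of_isIso (P := @IsClosedImmersion) iso.hom)
    rwa [Category.assoc, iso.inv_hom_id, Category.comp_id] at h'
  have hqck : IsQuasiCompactSp (P.obj k₀) :=
    AlgSpLib.isQuasiCompactSp_source hY (f := pullback.snd (yk k₀) (yk k₀))
      (AlgSpLib.isQuasiCompactMor_of_isPullback (IsPullback.of_hasPullback (yk k₀) (yk k₀))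
        (AlgSpLib.isQuasiCompactMor_of_qcSp_qsSp hY (hD _) _ hYqc hqs)) hYqc
  have hlft : LocP @LocallyOfFiniteType (yk k₀) :=
    AlgSpLib.locP_of_comp (fun h k => AlgSpLib.lft_of_comp h k) hY (hD _) hB (g := t₁)
      (by simpa [yk, k₀] using hYB)
  obtain ⟨k, hk⟩ := eventually_iso (P.obj k₀) (hPA k₀) P hPA hPc cP hcP k₀ hqck (𝟙 _)
    (AlgSpLib.locP_of_repWith (AlgSpLib.repWith_of_isIso _))
    (by
      rw [Category.comp_id]
      exact AlgSpLib.locP_of_repWith (AlgSpLib.repWith_lfp_diagonal hY (hD _) hlft))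
  haveI : IsIso (pullback.diagonal (yk k)) := hk k (𝟙 k)
  have hmono : Mono (yk k) := ⟨fun {T} u v huv => by
    have h : pullback.fst (yk k) (yk k) = pullback.snd (yk k) (yk k) := by
      rw [← cancel_epi (pullback.diagonal (yk k)), pullback.diagonal_fst, pullback.diagonal_snd]
    have h' := congrArg (pullback.lift u v huv ≫ ·) h
    simpa using h'⟩
  refine ⟨k.left, fun i φ => ?_⟩
  have e : (y ≫ c.π.app i) ≫ D.map φ = yk k := by simp [yk, c.w]
  rw [← e] at hmono
  exact mono_of_mono _ (D.map φ)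

end Groth.Agent.MonoPtLib
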