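import Groth.Agent.MonoPtLib.LimScheme
import Groth.Agent.MonoPtLib.LimMono
import Groth.Agent.AlgSpLib.ShriekSp
import Groth.Agent.AlgSpLib.ZarQsCover
/-!
# Representability is local on the base, tested on local rings
-/

set_option autoImplicit false
set_option backward.isDefEq.respectTransparency false
set_option backward.isDefEq.respectTransparency.types false
universe u
open CategoryTheory CategoryTheory.Limits AlgebraicGeometry AlgSp Opposite

namespace Groth.Agent.MonoPtLib

/-- The local scheme at a point is the limit of the affine open neighbourhoods. -/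
theorem exists_hom_fromSpecStalk {A : Scheme.{u}} [IsAffine A] (x : A) {T : Scheme.{u}} (f : T ⟶ A)
    (h : ∀ U : A.affineOpens, x ∈ U.1 → Set.range f ⊆ (U.1 : Set A)) :
    ∃ l : T ⟶ Spec (A.presheaf.stalk x), l ≫ A.fromSpecStalk x = f := by
  let hT := isAffineOpen_top A
  letI alg : Algebra Γ(A, ⊤) (A.presheaf.stalk x) := (A.presheaf.germ ⊤ x trivial).hom.toAlgebra
  have hloc : @IsLocalization Γ(A, ⊤) _ (hT.primeIdealOf ⟨x, trivial⟩).asIdeal.primeCompl
      (A.presheaf.stalk x) _ alg := hT.isLocalization_stalk ⟨x, trivial⟩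
  have hu : ∀ y : (hT.primeIdealOf ⟨x, trivial⟩).asIdeal.primeCompl, IsUnit (f.appTop.hom y.1) := fun y => by
    have hxy : x ∈ A.basicOpen y.1 :=
      (Scheme.mem_basicOpen (U := ⊤) A y.1 x trivial).2 (@IsLocalization.map_units Γ(A, ⊤) _ _ (A.presheaf.stalk x) _ alg hloc y)
    have hr := h ⟨A.basicOpen y.1, hT.basicOpen y.1⟩ hxy
    refine RingedSpace.isUnit_of_isUnit_germ T.toLocallyRingedSpace.toRingedSpace ⊤ _ fun t ht => ?_
    have ht' : t ∈ f ⁻¹ᵁ A.basicOpen y.1 := hr ⟨t, rfl⟩
    rw [Scheme.preimage_basicOpen] at ht'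
    exact (Scheme.mem_basicOpen (U := ⊤) T _ t ht).1 ht'
  refine ⟨T.toSpecΓ ≫ Spec.map (CommRingCat.ofHom (@IsLocalization.lift Γ(A, ⊤) _ _ (A.presheaf.stalk x) _ alg _ _ hloc _ hu)), ?_⟩
  rw [← hT.fromSpecStalk_eq_fromSpecStalk (x := x) trivial, IsAffineOpen.fromSpecStalk, IsAffineOpen.fromSpec_top,
    Category.assoc, ← Category.assoc (Spec.map _) (Spec.map _), ← Spec.map_comp]
  have e : A.presheaf.germ ⊤ x trivial ≫ CommRingCat.ofHom (@IsLocalization.lift Γ(A, ⊤) _ _ (A.presheaf.stalk x) _ alg _ _ hloc _ hu) = f.appTop :=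
    CommRingCat.hom_ext (@IsLocalization.lift_comp Γ(A, ⊤) _ _ (A.presheaf.stalk x) _ alg _ _ hloc _ hu)
  rw [e, ← Category.assoc, ← Scheme.toSpecΓ_naturality, Category.assoc]
  simp

/-- If the base change to a local ring of an affine base is representable, so is the base change to an
open neighbourhood. -/
theorem exists_open_nbhd_representable {A : Scheme.{u}} [IsAffine A] (F : Sp A) (hF : IsAlgSpace F)
    (hFqc : IsQuasiCompactSp F) (hFqs : IsQuasiSeparatedSp F)
    (qF : F ⟶ (yon A).obj (Over.mk (𝟙 A))) (x : A) (Q : Sp A) (fst : Q ⟶ F)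
    (snd : Q ⟶ (yon A).obj (Over.mk (A.fromSpecStalk x)))
    (sq : IsPullback fst snd qF ((yon A).map (Over.homMk (A.fromSpecStalk x)))) (T : Over A)
    (e : (yon A).obj T ≅ Q) :
    ∃ (U : A.Opens) (W : Over A) (a : (yon A).obj W ⟶ F) (b : (yon A).obj W ⟶ (yon A).obj (Over.mk U.ι)),
      x ∈ U ∧ RepWith @IsOpenImmersion a ∧ IsPullback a b qF ((yon A).map (Over.homMk U.ι)) := by
  classical
  let K := {U : A.affineOpens // x ∈ U.1}
  haveI : Nonempty K := ⟨⟨⟨⊤, isAffineOpen_top A⟩, trivial⟩⟩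
  haveI : IsCofiltered K := by
    haveI : IsCodirectedOrder K := ⟨fun U V => by
      obtain ⟨W, hW, hxW, hWsub⟩ :=
        TopologicalSpace.Opens.isBasis_iff_nbhd.mp A.isBasis_affineOpens
          (U := U.1.1 ⊓ V.1.1) (x := x) ⟨U.2, V.2⟩
      exact ⟨⟨⟨W, hW⟩, hxW⟩, le_trans (α := A.Opens) hWsub inf_le_left,
        le_trans (α := A.Opens) hWsub inf_le_right⟩⟩
    infer_instance
  let N : K ⥤ Over A :=
    { obj := fun U => Over.mk U.1.1.ι
      map := fun {U V} φ => Over.homMk (A.homOfLE (leOfHom φ : (U.1.1 : A.Opens) ≤ V.1.1)) (Scheme.homOfLE_ι A _)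
      map_id := fun U => Over.OverMorphism.ext (by
        rw [← cancel_mono U.1.1.ι]; simp)
      map_comp := fun φ ψ => Over.OverMorphism.ext (by simp) }
  have hxr : ∀ U : K, Set.range (A.fromSpecStalk x) ⊆ Set.range U.1.1.ι := fun U => by
    rw [Scheme.range_fromSpecStalk, Scheme.Opens.range_ι]
    exact fun y hy => hy.mem_open U.1.1.2 U.2
  let cN : Cone N :=
    { pt := Over.mk (A.fromSpecStalk x)
      π :=
        { app := fun U => Over.homMk (IsOpenImmersion.lift U.1.1.ι (A.fromSpecStalk x) (hxr U))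
            (IsOpenImmersion.lift_fac _ _ _)
          naturality := fun U V φ => Over.OverMorphism.ext (by
            rw [← cancel_mono V.1.1.ι]
            simp [N]) } }
  haveI : Mono (A.fromSpecStalk x) := inferInstance
  have hsub : ∀ {Z : Over A} (a b : Z ⟶ cN.pt), a = b := fun a b =>
    Over.OverMorphism.ext ((cancel_mono (A.fromSpecStalk x)).1 ((Over.w a).trans (Over.w b).symm))
  have hcN : IsLimit cN :=
    { lift := fun s => Over.homMk (exists_hom_fromSpecStalk x s.pt.hom (fun U hU => by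
          rintro _ ⟨t, rfl⟩
          let U' : K := ⟨U, hU⟩
          rw [show s.pt.hom = (s.π.app U').left ≫ U.1.ι from (Over.w (s.π.app U')).symm]
          exact ((s.π.app U').left t).2)).choose
        (exists_hom_fromSpecStalk x s.pt.hom (fun U hU => by
          rintro _ ⟨t, rfl⟩
          let U' : K := ⟨U, hU⟩
          rw [show s.pt.hom = (s.π.app U').left ≫ U.1.ι from (Over.w (s.π.app U')).symm]
          exact ((s.π.app U').left t).2)).choose_spec
      fac := fun s U => Over.OverMorphism.ext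
        ((cancel_mono U.1.1.ι).1 ((Over.w _).trans (Over.w (s.π.app U)).symm))
      uniq := fun s m _ => hsub _ _ }
  let t : N ⋙ yon A ⟶ (Functor.const K).obj ((yon A).obj (Over.mk (𝟙 A))) :=
    { app := fun U => (yon A).map (Over.homMk U.1.1.ι)
      naturality := fun U V φ => by
        change (yon A).map _ ≫ (yon A).map _ = (yon A).map _ ≫ 𝟙 _
        rw [Category.comp_id, ← Functor.map_comp]
        exact congrArg _ (Over.OverMorphism.ext
          (Scheme.homOfLE_ι A (leOfHom φ : (U.1.1 : A.Opens) ≤ V.1.1))) }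
  obtain ⟨P, cP, hcP, v, r, f, s, sqk, sqlim, sqtr, -, -, -⟩ :=
    exists_pullback_system t (isLimitOfPreserves (yon A) hcN)
      ((yon A).map (Over.homMk (A.fromSpecStalk x))) (fun U => by
        change (yon A).map _ ≫ (yon A).map _ = _
        rw [← Functor.map_comp]
        exact congrArg _ (Over.OverMorphism.ext (IsOpenImmersion.lift_fac _ _ _))) qF
  have hr : ∀ U, RepWith @IsOpenImmersion (r U) := fun U =>
    AlgSpLib.repWith_of_isPullback (sqk U)
      ((repWith_yon_map_iff _ _).2 (inferInstanceAs (IsOpenImmersion U.1.1.ι)))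
  have hPA : ∀ U, IsAlgSpace (P.obj U) := fun U =>
    AlgSpLib.isAlgSpace_of_representable hF (r U) (hr U).rep
  obtain ⟨U, W, ⟨eW⟩⟩ := exists_representable_stage P hPA
    (fun U V φ => by
      haveI : IsAffine (N.obj U).left := U.1.2
      haveI : IsAffine (N.obj V).left := V.1.2
      exact AlgSpLib.isAffineMor_iff.2 (AlgSpLib.repWith_of_isPullback (sqtr φ)
        ((repWith_yon_map_iff _ _).2 (inferInstanceAs (IsAffineHom (N.map φ).left)))))
    (fun U => by
      refine AlgSpLib.isQuasiCompactSp_of_mor hF (f := r U) ?_ hFqc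
      haveI : IsAffineHom U.1.1.ι :=
        haveI : IsAffine U.1.1.toScheme := U.1.2
        inferInstance
      exact AlgSpLib.isQuasiCompactMor_of_repWith (hPA U) hF
        (AlgSpLib.repWith_of_isPullback (sqk U) ((repWith_yon_map_iff _ _).2 (inferInstanceAs (QuasiCompact U.1.1.ι)))))
    (fun U => by
      haveI := AlgSpLib.mono_of_openImmersion (hr U)
      exact AlgSpLib.isQuasiSeparatedSp_of_mor (isQuasiSeparatedMor_of_mono (r U)) hFqs)
    cP hcP T (e ≪≫ sq.flip.isoIsPullback _ _ sqlim)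
  exact ⟨U.1.1, W, eW.hom ≫ r U, eW.hom ≫ v U, U.2,
    AlgSpLib.repWith_comp (AlgSpLib.repWith_of_isIso eW.hom) (hr U),
    (sqk U).flip.of_iso eW.symm (Iso.refl _) (Iso.refl _) (Iso.refl _) (by simp) (by simp)
      (Category.comp_id qF |>.trans (Category.id_comp qF).symm)
      (Category.comp_id _ |>.trans (Category.id_comp _).symm)⟩

variable {S : Scheme.{u}}

open AlgSpLib.Shriek in
/-- Around a point with representable local base change the space is a scheme. -/
theorem exists_openImmersion_scheme (X : Sp S) (hX : IsAlgSpace X) (q : X ⟶ (yon S).obj (Over.mk (𝟙 S)))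
    (hqc : IsQuasiCompactMor q) (hqs : IsQuasiSeparatedMor q) (x : Points X) (s : S)
    (hs : Points.map q x = Points.schemeHomeo (Over.mk (𝟙 S)) s)
    (h : ∀ (P : Sp S) (fst : P ⟶ X) (snd : P ⟶ (yon S).obj (Over.mk (S.fromSpecStalk s))),
      IsPullback fst snd q ((yon S).map (Over.homMk (S.fromSpecStalk s))) → P.obj.IsRepresentable) :
    ∃ (W : Over S) (f : (yon S).obj W ⟶ X), RepWith @IsOpenImmersion f ∧ x ∈ Set.range (Points.map f) := by
  obtain ⟨U₀, hU₀, hsU₀, -⟩ := exists_isAffineOpen_mem_and_subset (X := S) (U := ⊤) (x := s) trivial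
  haveI : IsAffine U₀.toScheme := hU₀
  let A : Scheme.{u} := U₀.toScheme
  let g : A ⟶ S := U₀.ι
  let x₀ : A := ⟨s, hsU₀⟩
  let m₀ : Over.mk g ⟶ Over.mk (𝟙 S) := Over.homMk g
  have sq₀ := IsPullback.of_hasPullback q ((yon S).map m₀)
  let P₀ := pullback q ((yon S).map m₀)
  let p : P₀ ⟶ (yon S).obj (Over.mk g) := pullback.snd _ _
  obtain ⟨e, he⟩ := exists_iso_of_over g p
  let F := fib g p
  have hP₀ : IsAlgSpace P₀ := AlgSpLib.isAlgSpace_pullback hX (IsAlgSpace.yon_obj _) (IsAlgSpace.yon_obj _) _ _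
  have hF : IsAlgSpace F := (isAlgSpace_shr_iff (g := g) F).1
    (AlgSpLib.isAlgSpace_of_representable hP₀ e.hom (AlgSpLib.repWith_of_isIso (P := @IsOpenImmersion) e.hom).rep)
  haveI : IsAffine (Over.mk g).left := hU₀
  have hP₀qc : IsQuasiCompactSp P₀ :=
    AlgSpLib.isQuasiCompactSp_source (IsAlgSpace.yon_obj _) (f := p)
      (AlgSpLib.isQuasiCompactMor_of_isPullback sq₀ hqc) (AlgSpLib.isQuasiCompactSp_yon _)
  obtain ⟨T', a', hT', ha', has'⟩ := AlgSpLib.exists_affine_chart hP₀qc
  have hqc' : RepWith @QuasiCompact a' := by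
    have hp : RepWith @QuasiCompact (pullback.diagonal p) := AlgSpLib.repWith_diagonal_of_isPullback sq₀ hqs
    obtain ⟨w, hw⟩ := (yon S).map_surjective (a' ≫ p)
    haveI := hT'
    haveI : IsAffineHom w.left := inferInstance
    have hap : RepWith @QuasiCompact (a' ≫ p) := by
      rw [← hw]
      exact (repWith_yon_map_iff _ _).2 (inferInstanceAs (QuasiCompact w.left))
    haveI : (RepWith (S := S) @QuasiCompact).HasOfPostcompProperty (RepWith (S := S) @QuasiCompact).diagonal :=
      MorphismProperty.hasOfPostcompProperty_iff_le_diagonal.2 le_rfl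
    exact MorphismProperty.of_postcomp (RepWith (S := S) @QuasiCompact) a' p
      (W' := (RepWith (S := S) @QuasiCompact).diagonal) hp hap
  obtain ⟨T₁, eT, ξ, hξ⟩ := exists_over_lift (a' ≫ e.inv)
  have tr : ∀ {P : MorphismProperty Scheme.{u}} [P.RespectsIso], RepWith P a' → RepWith P ξ := by
    intro P _ hP
    have h1 : RepWith P (a' ≫ e.inv) := MorphismProperty.RespectsIso.postcomp (RepWith P) _ _ hP
    rw [hξ, (RepWith (S := S) P).cancel_left_of_respectsIso,
      (RepWith (S := S) P).cancel_left_of_respectsIso, repWith_shr_map_iff] at h1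
    exact h1
  haveI : IsAffine T₁.left := by
    haveI : IsIso eT.inv.left := inferInstanceAs (IsIso ((Over.forget S).map eT.inv))
    haveI := hT'
    exact IsAffine.of_isIso (eT.inv.left : T₁.left ⟶ T'.left)
  have hFqc : IsQuasiCompactSp F := ⟨T₁, ξ, tr ha', tr has', inferInstance⟩
  have hFqs : IsQuasiSeparatedSp F :=
    AlgSpLib.isQuasiSeparatedSp_of_qc_affine_atlas hF (tr hqc') (tr ha') (tr has')
  let qF : F ⟶ (yon A).obj (Over.mk (𝟙 A)) := (isTerminalOne (S := A)).from F
  let k₁ : (shr g).obj ((yon A).obj (Over.mk (𝟙 A))) ⟶ (yon S).obj (Over.mk g) := π g _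
  haveI : IsIso k₁ := by
    change IsIso (π g _)
    rw [← yonMap_π]
    haveI : IsIso ((Over.forget S).map
        (Over.homMk (Over.mk (𝟙 A)).hom rfl : (Over.map g).obj (Over.mk (𝟙 A)) ⟶ Over.mk g)) :=
      inferInstanceAs (IsIso (𝟙 A))
    haveI := isIso_of_reflects_iso
      (Over.homMk (Over.mk (𝟙 A)).hom rfl : (Over.map g).obj (Over.mk (𝟙 A)) ⟶ Over.mk g) (Over.forget S)
    infer_instance
  have hk₁ : (shr g).map qF ≫ k₁ = e.hom ≫ p := by
    rw [he]
    exact π_natural qF
  -- squares over `A` give squares over `S`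
  have push : ∀ {Q : Sp A} {V : Over A} {a : Q ⟶ F} {b : Q ⟶ (yon A).obj V} {m : V ⟶ Over.mk (𝟙 A)},
      IsPullback a b qF ((yon A).map m) →
        IsPullback (((shr g).map a ≫ e.hom) ≫ pullback.fst q ((yon S).map m₀))
          ((shr g).map b ≫ yonMap g V) q
          ((yon S).map ((Over.homMk V.hom rfl : (Over.map g).obj V ⟶ Over.mk g) ≫ m₀)) := by
    intro Q V a b m sq
    have h1 := isPullback_map g sq
    have h2 : IsPullback ((shr g).map a ≫ e.hom) ((shr g).map b ≫ yonMap g V) p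
        ((yon S).map (Over.homMk V.hom rfl : (Over.map g).obj V ⟶ Over.mk g)) :=
      h1.of_iso (Iso.refl _) e (asIso (yonMap g V)) (asIso k₁) (by simp) (by simp)
        (by simpa using hk₁) (by
          simp only [asIso_hom]
          rw [yonMap_π]
          exact π_natural ((yon A).map m))
    rw [Functor.map_comp]
    exact h2.paste_horiz sq₀
  let m₁ : Over.mk (A.fromSpecStalk x₀) ⟶ Over.mk (𝟙 A) := Over.homMk (A.fromSpecStalk x₀)
  have hQ := IsPullback.of_hasPullback qF ((yon A).map m₁)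
  let i₀ : Over.mk (S.fromSpecStalk s) ≅ (Over.map g).obj (Over.mk (A.fromSpecStalk x₀)) :=
    Over.isoMk (Scheme.Spec.mapIso (asIso (g.stalkMap x₀)).op).symm (by
      haveI : IsIso (Spec.map (g.stalkMap x₀)) := inferInstance
      have e1 := Scheme.SpecMap_stalkMap_fromSpecStalk g (x := x₀)
      simp only [Iso.symm_hom, Functor.mapIso_inv, Iso.op_inv, asIso_inv, Over.map_obj_hom, Over.mk_hom]
      change Spec.map (inv (g.stalkMap x₀)) ≫ A.fromSpecStalk x₀ ≫ g = S.fromSpecStalk s
      rw [← e1, ← Category.assoc, ← Spec.map_comp, IsIso.hom_inv_id, Spec.map_id, Category.id_comp]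
      rfl)
  have sq2 := (push hQ).of_iso (Iso.refl _) (Iso.refl _) ((yon S).mapIso i₀.symm) (Iso.refl _)
    (g' := (yon S).map (Over.homMk (S.fromSpecStalk s) : Over.mk (S.fromSpecStalk s) ⟶ Over.mk (𝟙 S)))
    (f' := q) (snd' := ((shr g).map (pullback.snd qF ((yon A).map m₁)) ≫ yonMap g _) ≫ (yon S).map i₀.inv)
    (fst' := ((shr g).map (pullback.fst qF ((yon A).map m₁)) ≫ e.hom) ≫ pullback.fst q ((yon S).map m₀))
    (by simp) (by simp) (by simp) (by
      simp only [Iso.refl_hom, Category.comp_id, Functor.mapIso_hom, Iso.symm_hom, ← Functor.map_comp]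
      refine congrArg _ (Over.OverMorphism.ext ?_)
      exact (Over.w i₀.inv).symm)
  obtain ⟨T, ⟨eQ⟩⟩ := exists_iso_of_isRepresentable (h _ _ _ sq2)
  obtain ⟨T₂, e₂, ζ, hζ⟩ := exists_over_lift eQ.hom
  haveI : IsIso ((shr g).map ζ) := by
    have e3 : (shr g).map ζ = yonMap g T₂ ≫ (yon S).map e₂.inv ≫ eQ.hom := by
      rw [hζ, ← Category.assoc ((yon S).map e₂.inv), ← Functor.map_comp, Iso.inv_hom_id,
        CategoryTheory.Functor.map_id, Category.id_comp, IsIso.hom_inv_id_assoc]
    rw [e3]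
    infer_instance
  haveI : IsIso ζ := by
    haveI : IsIso ((Over.forget _).map ((toOver g).map ζ)) := inferInstanceAs (IsIso ((shr g).map ζ))
    haveI := isIso_of_reflects_iso ((toOver g).map ζ) (Over.forget _)
    exact isIso_of_fully_faithful (toOver g) ζ
  obtain ⟨U, W, a, b, hxU, ha, sqU⟩ :=
    exists_open_nbhd_representable F hF hFqc hFqs qF x₀ _ _ _ hQ T₂ (asIso ζ)
  have sq3 := push sqU
  refine ⟨(Over.map g).obj W, inv (yonMap g W) ≫ ((shr g).map a ≫ e.hom) ≫ pullback.fst q ((yon S).map m₀),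
    AlgSpLib.repWith_comp (AlgSpLib.repWith_of_isIso _) (AlgSpLib.repWith_comp (AlgSpLib.repWith_comp
      (repWith_shr_map ha) (AlgSpLib.repWith_of_isIso _)) (AlgSpLib.repWith_of_isPullback sq₀.flip
        ((repWith_yon_map_iff _ _).2 (inferInstanceAs (IsOpenImmersion U₀.ι))))), ?_⟩
  let m₂ := (Over.homMk (Over.mk U.ι).hom rfl : (Over.map g).obj (Over.mk U.ι) ⟶ Over.mk g) ≫ m₀
  obtain ⟨w, hw, -⟩ := AlgSpLib.exists_point_isPullback sq3 x
    (Points.schemeHomeo ((Over.map g).obj (Over.mk U.ι)) (⟨x₀, hxU⟩ : U.toScheme))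
    (hs.trans (Points.map_yon_map_apply m₂ (⟨x₀, hxU⟩ : U.toScheme)).symm)
  refine ⟨Points.map (yonMap g W) w, ?_⟩
  rw [← Points.map_comp, IsIso.hom_inv_id_assoc]
  exact hw

theorem isRepSh_of_local (X : Sp S) (hX : IsAlgSpace X) (q : X ⟶ (yon S).obj (Over.mk (𝟙 S)))
    (hqc : IsQuasiCompactMor q) (hqs : IsQuasiSeparatedMor q)
    (h : ∀ x : Points X, ∀ (P : Sp S) (fst : P ⟶ X)
      (snd : P ⟶ (yon S).obj (Over.mk (S.fromSpecStalk ((Points.schemeHomeo (Over.mk (𝟙 S))).symm (Points.map q x))))),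
      IsPullback fst snd q ((yon S).map (Over.homMk (S.fromSpecStalk _))) → P.obj.IsRepresentable) :
    AlgSpLib.IsRepSh X := by
  -- one chart for each point of an affine cover
  obtain ⟨U, a, ha, has⟩ := hX.atlas
  choose W f hf hx using fun u : U.left => exists_openImmersion_scheme X hX q hqc hqs (Points.ofPt a u)
    ((Points.schemeHomeo (Over.mk (𝟙 S))).symm (Points.map q (Points.ofPt a u)))
    (Homeomorph.apply_symm_apply _ _).symm (h _)
  refine AlgSpLib.isRepSh_of_openCover f hf fun T b t => ?_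
  obtain ⟨u, hu⟩ := AlgSpLib.surjective_ofPt has (Points.map b (Points.schemeHomeo T t))
  refine ⟨u, ?_⟩
  have h' : Points.schemeHomeo T t ∈
      Set.range (Points.map ((yon S).map ((hf u).rep.snd b))) := by
    rw [AlgSpLib.range_map_of_isPullback ((hf u).rep.isPullback b), Set.mem_preimage, ← hu]
    exact hx u
  obtain ⟨z, hz⟩ := h'
  obtain ⟨z, rfl⟩ := (Points.schemeHomeo _).surjective z
  exact ⟨z, (Points.schemeHomeo T).injective ((Points.map_yon_map_apply _ z).symm.trans hz)⟩

end Groth.Agent.MonoPtLib
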