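import Mathlib.AlgebraicGeometry.Morphisms.Etale
import Mathlib.AlgebraicGeometry.Morphisms.Affine
import Mathlib.AlgebraicGeometry.Morphisms.FinitePresentation
import Mathlib.RingTheory.Smooth.NoetherianDescent
import Mathlib.AlgebraicGeometry.PullbackCarrier
import Mathlib.AlgebraicGeometry.Morphisms.Flat
import Mathlib.AlgebraicGeometry.Morphisms.UniversallyOpen
/-!
# Models of etale surjective morphisms of affine schemes over finitely presented ℤ-schemes
-/

set_option autoImplicit false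
set_option backward.isDefEq.respectTransparency false
set_option backward.isDefEq.respectTransparency.types false
universe u
open CategoryTheory CategoryTheory.Limits AlgebraicGeometry TensorProduct

namespace Groth.Agent.MonoPtLib

theorem lfp_terminal_spec {R : Type u} [CommRing R] [Algebra.FiniteType ℤ R] :
    LocallyOfFinitePresentation (terminal.from (Spec (CommRingCat.of R))) := by
  have : Algebra.FinitePresentation ℤ R := Algebra.FinitePresentation.of_finiteType.1 ‹_›
  have h : LocallyOfFinitePresentation (specULiftZIsTerminal.from (Spec (CommRingCat.of R))) := by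
    let φ : ULift.{u} ℤ →+* R := (algebraMap ℤ R).comp ULift.ringEquiv.toRingHom
    have e : specULiftZIsTerminal.from (Spec (CommRingCat.of R)) = Spec.map (CommRingCat.ofHom φ) :=
      specULiftZIsTerminal.hom_ext _ _
    rw [e, HasRingHomProperty.Spec_iff (P := @LocallyOfFinitePresentation), CommRingCat.hom_ofHom]
    refine RingHom.FinitePresentation.of_comp_finiteType (ULift.ringEquiv.{0, u} (R := ℤ)).symm.toRingHom ?_
      (RingHom.FiniteType.of_surjective _ (RingEquiv.surjective _))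
    have e' : φ.comp (ULift.ringEquiv.{0, u} (R := ℤ)).symm.toRingHom = algebraMap ℤ R := RingHom.ext_int _ _
    rw [e', RingHom.finitePresentation_algebraMap]
    exact this
  have e : terminal.from (Spec (CommRingCat.of R)) = specULiftZIsTerminal.from (Spec (CommRingCat.of R)) ≫
      (specULiftZIsTerminal.uniqueUpToIso terminalIsTerminal).hom := terminal.hom_ext _ _
  rw [e]
  infer_instance

theorem exists_model_spec (A B : Type u) [CommRing A] [CommRing B] [Algebra A B] [Algebra.Etale A B]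
    (hs : Surjective (Spec.map (CommRingCat.ofHom (algebraMap A B)))) :
    ∃ (M U₁ : Scheme.{u}) (f₁ : U₁ ⟶ M) (τ : Spec (CommRingCat.of A) ⟶ M)
      (g : Spec (CommRingCat.of B) ⟶ U₁), IsAffine M ∧ IsAffine U₁ ∧
      LocallyOfFinitePresentation (terminal.from M) ∧ Etale f₁ ∧ Surjective f₁ ∧
      IsPullback g (Spec.map (CommRingCat.ofHom (algebraMap A B))) f₁ τ := by
  classical
  obtain ⟨A₀, B₀, _, _, hA₀, hB₀, ⟨e⟩⟩ := Algebra.Etale.exists_subalgebra_fg (R := ℤ) (A := A) (B := B)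
  let f₀ : Spec (CommRingCat.of B₀) ⟶ Spec (CommRingCat.of A₀) :=
    Spec.map (CommRingCat.ofHom (algebraMap A₀ B₀))
  haveI : Etale f₀ := by
    rw [HasRingHomProperty.Spec_iff (P := @Etale), CommRingCat.hom_ofHom, RingHom.etale_algebraMap]
    exact hB₀
  let τ₀ : Spec (CommRingCat.of A) ⟶ Spec (CommRingCat.of A₀) :=
    Spec.map (CommRingCat.ofHom (algebraMap A₀ A))
  have sqA : IsPushout (CommRingCat.ofHom (algebraMap A₀ A)) (CommRingCat.ofHom (algebraMap A₀ B₀))
      (CommRingCat.ofHom (algebraMap A B))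
      (CommRingCat.ofHom (e.symm.toAlgHom.toRingHom.comp
        (Algebra.TensorProduct.includeRight (R := A₀) (A := A) (B := B₀)).toRingHom)) :=
    (CommRingCat.isPushout_tensorProduct A₀ A B₀).of_iso (Iso.refl _) (Iso.refl _) (Iso.refl _)
      e.symm.toRingEquiv.toCommRingCatIso (by simp) (by simp)
      (by ext a; exact (e.symm.commutes a)) (by ext b; rfl)
  obtain ⟨g₀, sq₀⟩ : ∃ g₀, IsPullback g₀ (Spec.map (CommRingCat.ofHom (algebraMap A B))) f₀ τ₀ :=
    ⟨_, (isPullback_SpecMap_of_isPushout _ _ _ _ sqA).flip⟩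
  let s : Set A := (fun a : A₀ => algebraMap A₀ A a) ''
    {a : A₀ | (PrimeSpectrum.basicOpen a : Set (PrimeSpectrum A₀)) ⊆ Set.range f₀}
  have hspan : Ideal.span s = ⊤ := by
    by_contra h
    obtain ⟨m, hm, hle⟩ := Ideal.exists_le_maximal _ h
    obtain ⟨q, hq⟩ := hs.surj (⟨m, hm.isPrime⟩ : PrimeSpectrum A)
    have hmem : τ₀ (Spec.map (CommRingCat.ofHom (algebraMap A B)) q) ∈ Set.range f₀ :=
      ⟨g₀ q, by rw [← Scheme.Hom.comp_apply, sq₀.w, Scheme.Hom.comp_apply]⟩
    rw [hq] at hmem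
    obtain ⟨_, ⟨a, rfl⟩, hpa, hsub⟩ := PrimeSpectrum.isTopologicalBasis_basic_opens.exists_subset_of_mem_open
      hmem f₀.isOpenMap.isOpen_range
    exact hpa (hle (Ideal.subset_span ⟨a, hsub, rfl⟩))
  obtain ⟨n, r, v, hrv⟩ := Submodule.mem_span_set'.1 (show (1 : A) ∈ Submodule.span A s by
    rw [← Ideal.span, hspan]; trivial)
  let A₁ : Subalgebra ℤ A := A₀ ⊔ Algebra.adjoin ℤ (Set.range r)
  haveI : Algebra.FiniteType ℤ A₁ :=
    (Subalgebra.fg_iff_finiteType A₁).1 (hA₀.sup (Subalgebra.fg_adjoin_finset (Finset.univ.image r) |> fun h => by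
      rwa [Finset.coe_image, Finset.coe_univ, Set.image_univ] at h))
  let ι : A₀ →ₐ[ℤ] A₁ := Subalgebra.inclusion le_sup_left
  let ρ : Spec (CommRingCat.of A₁) ⟶ Spec (CommRingCat.of A₀) := Spec.map (CommRingCat.ofHom ι.toRingHom)
  let τ : Spec (CommRingCat.of A) ⟶ Spec (CommRingCat.of A₁) :=
    Spec.map (CommRingCat.ofHom (algebraMap A₁ A))
  have hτ : τ ≫ ρ = τ₀ := by
    rw [← Spec.map_comp]
    rfl
  let sq := IsPullback.of_hasPullback f₀ ρ
  refine ⟨_, _, pullback.snd f₀ ρ, τ, pullback.lift g₀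
    (Spec.map (CommRingCat.ofHom (algebraMap A B)) ≫ τ) (by rw [sq₀.w, Category.assoc, hτ]),
    inferInstance, inferInstance, lfp_terminal_spec, inferInstance, ⟨fun p => ?_⟩,
    IsPullback.of_right (by rw [pullback.lift_fst, hτ]; exact sq₀) (pullback.lift_snd _ _ _) sq⟩
  have hp : ∃ j, (⟨r j, (le_sup_right : Algebra.adjoin ℤ _ ≤ A₁) (Algebra.subset_adjoin ⟨j, rfl⟩)⟩ : A₁) *
      ι (v j).2.choose ∉ (p : PrimeSpectrum A₁).asIdeal := by
    by_contra hh
    push Not at hh
    refine (p : PrimeSpectrum A₁).2.ne_top ((Ideal.eq_top_iff_one _).2 ?_)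
    have : (1 : A₁) = ∑ j, (⟨r j, (le_sup_right : Algebra.adjoin ℤ _ ≤ A₁) (Algebra.subset_adjoin ⟨j, rfl⟩)⟩ : A₁) *
        ι (v j).2.choose := by
      refine Subtype.ext ?_
      rw [AddSubmonoidClass.coe_finsetSum, OneMemClass.coe_one, ← hrv]
      refine Finset.sum_congr rfl fun j _ => ?_
      rw [MulMemClass.coe_mul, smul_eq_mul]
      exact congrArg (r j * ·) (v j).2.choose_spec.2.symm
    rw [this]
    exact Ideal.sum_mem _ fun j _ => hh j
  obtain ⟨j, hj⟩ := hp
  have : ρ p ∈ Set.range f₀ := (v j).2.choose_spec.1 fun hc => hj (Ideal.mul_mem_left _ _ hc)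
  obtain ⟨b, hb⟩ := this
  obtain ⟨z, -, hz⟩ := Scheme.Pullback.exists_preimage_pullback b p hb
  exact ⟨z, hz⟩

/-- A model of an etale surjective morphism of affine schemes over a finitely presented base. -/
theorem exists_model {T U : Scheme.{u}} [IsAffine T] [IsAffine U] (m : U ⟶ T) [Etale m] [Surjective m] :
    ∃ (M U₁ : Scheme.{u}) (f₁ : U₁ ⟶ M) (τ : T ⟶ M) (g : U ⟶ U₁), IsAffine M ∧ IsAffine U₁ ∧
      LocallyOfFinitePresentation (terminal.from M) ∧ Etale f₁ ∧ Surjective f₁ ∧ IsPullback g m f₁ τ := by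
  letI := m.appTop.hom.toAlgebra
  haveI : Algebra.Etale Γ(T, ⊤) Γ(U, ⊤) :=
    RingHom.etale_algebraMap.1 (HasRingHomProperty.appTop (P := @Etale) m inferInstance)
  have e : m.appTop = CommRingCat.ofHom (algebraMap Γ(T, ⊤) Γ(U, ⊤)) := rfl
  have hs : Surjective (Spec.map (CommRingCat.ofHom (algebraMap Γ(T, ⊤) Γ(U, ⊤)))) := by
    rw [← e]
    exact (MorphismProperty.arrow_mk_iso_iff @Surjective (arrowIsoSpecΓOfIsAffine m)).1 ‹_›
  obtain ⟨M, U₁, f₁, τ, g, h1, h2, h3, h4, h5, sq⟩ := exists_model_spec Γ(T, ⊤) Γ(U, ⊤) hs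
  exact ⟨M, U₁, f₁, T.isoSpec.hom ≫ τ, U.isoSpec.hom ≫ g, h1, h2, h3, h4, h5,
    sq.of_iso U.isoSpec.symm (Iso.refl _) T.isoSpec.symm (Iso.refl _) (by simp) (by
      rw [← e]; exact Scheme.isoSpec_inv_naturality m) (by simp) (by simp)⟩

end Groth.Agent.MonoPtLib
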