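import Groth.Agent.MonoPtLib.LimDescendApps
import Groth.Agent.MonoPtLib.EtaleModelAffine
import Groth.Agent.RichLib.LimitDescentQA
import Groth.Agent.AlgSpLib.AffineDescent
import Groth.Agent.AlgSpLib.RepBase
import Groth.Agent.AlgSpLib.Descend
/-!
# A stage of an affine limit with affine limit is affine
-/

set_option autoImplicit false
set_option backward.isDefEq.respectTransparency false
set_option backward.isDefEq.respectTransparency.types false
universe u
open CategoryTheory CategoryTheory.Limits AlgebraicGeometry AlgSp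

namespace Groth.Agent.MonoPtLib

variable {S : Scheme.{u}}

theorem qaProp_of_affine_source {X Y : Scheme.{u}} (f : X ⟶ Y) [IsAffine X] [QuasiSeparatedSpace Y] :
    RichLib.LimBC.qaProp f := by
  haveI : QuasiCompact f := by
    haveI : QuasiSeparated (terminal.from Y) := (HasAffineProperty.iff_of_isAffine (P := @QuasiSeparated)).2 ‹_›
    haveI : QuasiCompact (f ≫ terminal.from Y) :=
      HasAffineProperty.iff_of_isAffine.2 (inferInstanceAs (CompactSpace X))
    exact QuasiCompact.of_comp f (terminal.from Y)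
  refine ⟨inferInstance, fun V hV => ?_⟩
  haveI : CompactSpace (f ⁻¹ᵁ V : Scheme.{u}) :=
    isCompact_iff_compactSpace.mp (f.isCompact_preimage hV.isCompact)
  exact Scheme.IsQuasiAffine.of_isImmersion (f ⁻¹ᵁ V).ι

theorem isEffClass_qaProp : AlgSpLib.IsEffClass S RichLib.LimBC.qaProp := by
  intro T T' W' q G π fst pW sq hT hT' hf hp hs h
  haveI := hT; haveI := hT'; haveI := hf; haveI := hp; haveI := hs
  haveI := RichLib.LimBC.isQuasiAffine_of_qaProp pW.left h
  exact AlgSpLib.Datum.isRepSh_of_quasiAffine sq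

variable (S) in
/-- The product of an absolute scheme with the base. -/
noncomputable def bcS (M : Scheme.{u}) : Over S :=
  Over.mk (pullback.snd (terminal.from M) (terminal.from S))

/-- The projection from the product with the base. -/
noncomputable def bcFst (M : Scheme.{u}) : (bcS S M).left ⟶ M := pullback.fst _ _

/-- A morphism to `M` as a morphism to the product with the base. -/
noncomputable def toBc {M : Scheme.{u}} {V : Over S} (u : V.left ⟶ M) : V ⟶ bcS S M :=
  Over.homMk (pullback.lift u V.hom (terminal.hom_ext _ _)) (pullback.lift_snd _ _ _)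

theorem toBc_fst {M : Scheme.{u}} {V : Over S} (u : V.left ⟶ M) : (toBc u).left ≫ bcFst M = u :=
  pullback.lift_fst _ _ _

theorem bc_ext {M : Scheme.{u}} {V : Over S} {a b : V ⟶ bcS S M}
    (h : a.left ≫ bcFst M = b.left ≫ bcFst M) : a = b :=
  Over.OverMorphism.ext (pullback.hom_ext h ((Over.w a).trans (Over.w b).symm))

theorem comp_toBc {M : Scheme.{u}} {V V' : Over S} (h : V' ⟶ V) (u : V.left ⟶ M) :
    h ≫ toBc u = toBc (h.left ≫ u) :=
  bc_ext (by rw [Over.comp_left, Category.assoc, toBc_fst, toBc_fst])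

/-- Functoriality of the product with the base. -/
noncomputable def bcMap {M N : Scheme.{u}} (f : N ⟶ M) : bcS S N ⟶ bcS S M := toBc (bcFst N ≫ f)

theorem toBc_bcMap {M N : Scheme.{u}} (f : N ⟶ M) {V : Over S} (v : V.left ⟶ N) :
    toBc v ≫ bcMap (S := S) f = toBc (v ≫ f) := by
  rw [bcMap, comp_toBc, ← Category.assoc, toBc_fst]

theorem isPullback_bc {M N : Scheme.{u}} (f : N ⟶ M) :
    IsPullback (bcFst (S := S) N) (bcMap (S := S) f).left f (bcFst M) := by
  refine IsPullback.of_bot (v₂₁ := (bcS S M).hom) (v₂₂ := terminal.from M) (h₃₁ := terminal.from S) ?_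
    (toBc_fst _).symm (IsPullback.of_hasPullback (terminal.from M) (terminal.from S))
  rw [Over.w, show f ≫ terminal.from M = terminal.from N from terminal.hom_ext _ _]
  exact IsPullback.of_hasPullback (terminal.from N) (terminal.from S)

theorem quasiSeparatedSpace_bc [QuasiSeparatedSpace S] (M : Scheme.{u}) [IsAffine M] :
    QuasiSeparatedSpace (bcS S M).left := by
  haveI : IsAffineHom (pullback.snd (terminal.from M) (terminal.from S)) :=
    MorphismProperty.pullback_snd _ _ (inferInstance : IsAffineHom (terminal.from M))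
  exact quasiSeparatedSpace_of_quasiSeparated (pullback.snd (terminal.from M) (terminal.from S))

theorem isQuasiSeparatedSp_yon [QuasiSeparatedSpace S] (V : Over S) [QuasiSeparatedSpace V.left] :
    IsQuasiSeparatedSp ((yon S).obj V) := by
  haveI : QuasiSeparated V.hom := by
    haveI : QuasiSeparated (V.hom ≫ terminal.from S) :=
      HasAffineProperty.iff_of_isAffine.2 (inferInstanceAs (QuasiSeparatedSpace V.left))
    exact QuasiSeparated.of_comp V.hom (terminal.from S)
  exact (repWith_diag_yon_iff _ V).2 ((quasiSeparated_iff _).1 inferInstance)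

variable {I : Type u} [SmallCategory I] [IsCofiltered I] (D : I ⥤ Sp S)
  (hDa : ∀ (i j : I) (φ : i ⟶ j), IsAffineMor (D.map φ)) (c : Cone D) (hc : IsLimit c)

include hDa hc in
/-- Two maps to a scheme of finite type agreeing on a limit agree at a stage. -/
theorem exists_stage_equalize {M : Scheme.{u}} [LocallyOfFiniteType (terminal.from M)] {k : I}
    {V O : Over S} (hO : IsAffine O.left) (qV : (yon S).obj V ⟶ D.obj k) (r₀ r₁ : O ⟶ V)
    (hr : (yon S).map r₀ ≫ qV = (yon S).map r₁ ≫ qV) {U : Over S} {fst : (yon S).obj U ⟶ c.pt}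
    {π : U ⟶ V} (sq : IsPullback fst ((yon S).map π) (c.π.app k) qV) (u : V.left ⟶ M)
    (hu : ∀ {Z : Over S} (a b : Z ⟶ U), (yon S).map a ≫ fst = (yon S).map b ≫ fst →
      (a ≫ π).left ≫ u = (b ≫ π).left ≫ u) :
    ∃ (l : I) (φ : l ⟶ k), ∀ {Z : Over S} (z : Z ⟶ O) (d : (yon S).obj Z ⟶ D.obj l),
      d ≫ D.map φ = (yon S).map (z ≫ r₀) ≫ qV → (z ≫ r₀).left ≫ u = (z ≫ r₁).left ≫ u := by
  obtain ⟨⟨h1⟩, ⟨h2⟩, h3⟩ := limit_over_data D hc k
  obtain ⟨W, cW, i, fst', p, q, ⟨hcW⟩, -, hW, sqj, hi, -, hp, sqW⟩ :=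
    exists_pullback_limit' (overNat D k) (fun l => hDa _ _ l.hom) h1 h2 (c.π.app k) h3 hO
      ((yon S).map r₀ ≫ qV)
  obtain ⟨hl⟩ := scheme_isLimit hcW
  haveI := affine_transitions (W := W ⋙ Over.forget S) hW
  haveI : ∀ l, IsAffine ((W ⋙ Over.forget S).obj l) := hW
  let k₁ : Over k := Over.mk (𝟙 k)
  obtain ⟨o₀, ho₀⟩ := (yon S).map_surjective (sq.lift fst' ((yon S).map (i ≫ r₀))
    (by rw [sqW.w, Functor.map_comp, Category.assoc]))
  obtain ⟨o₁, ho₁⟩ := (yon S).map_surjective (sq.lift fst' ((yon S).map (i ≫ r₁))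
    (by rw [sqW.w, Functor.map_comp, Category.assoc, hr]))
  have e₀ : o₀ ≫ π = i ≫ r₀ := (yon S).map_injective (by rw [Functor.map_comp, ho₀, sq.lift_snd])
  have e₁ : o₁ ≫ π = i ≫ r₁ := (yon S).map_injective (by rw [Functor.map_comp, ho₁, sq.lift_snd])
  have hlim := hu o₀ o₁ (by rw [ho₀, ho₁, sq.lift_fst, sq.lift_fst])
  rw [e₀, e₁, ← hi k₁] at hlim
  simp only [Over.comp_left, Category.assoc] at hlim
  obtain ⟨l, φ, hφ⟩ := Scheme.exists_hom_comp_eq_comp_of_locallyOfFiniteType (W ⋙ Over.forget S)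
    { app := fun _ => terminal.from _, naturality := fun _ _ _ => terminal.hom_ext _ _ }
    (terminal.from M) _ hl (i := k₁) ((p k₁ ≫ r₀).left ≫ u) ((p k₁ ≫ r₁).left ≫ u)
    (terminal.hom_ext _ _) (terminal.hom_ext _ _) (by simpa using hlim)
  refine ⟨l.left, l.hom, fun {Z} z d hd => ?_⟩
  have sql := sqj l
  change IsPullback _ _ (D.map l.hom) (((yon S).map r₀ ≫ qV) ≫ 𝟙 _) at sql
  rw [Category.comp_id] at sql
  obtain ⟨n, hn⟩ := (yon S).map_surjective (sql.lift d ((yon S).map z)
    (by rw [hd, Functor.map_comp, Category.assoc]))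
  have hnz : n ≫ W.map φ ≫ p k₁ = z := (yon S).map_injective (by
    rw [(hp φ).1, Functor.map_comp, hn, sql.lift_snd])
  have h := congrArg (n.left ≫ ·) hφ
  simp only [Functor.comp_map, Over.forget_map, ← Category.assoc, ← Over.comp_left] at h
  rw [Category.assoc n, hnz] at h
  exact h

variable [QuasiSeparatedSpace S] (hD : ∀ i, IsAlgSpace (D.obj i))
  (hqc : ∀ i, IsQuasiCompactSp (D.obj i)) (hqs : ∀ i, IsQuasiSeparatedSp (D.obj i))

include hDa hc hD hqc hqs in
/-- If the limit is an affine scheme, some stage is an affine scheme. -/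
theorem exists_affine_stage (T : Over S) (hT : IsAffine T.left) (e : (yon S).obj T ≅ c.pt) :
    ∃ (i : I) (T' : Over S), IsAffine T'.left ∧ Nonempty ((yon S).obj T' ≅ D.obj i) := by
  haveI := hT
  obtain ⟨i₀⟩ := (IsCofiltered.nonempty : Nonempty I)
  obtain ⟨E₀, a₀, hE₀, ha₀, has₀⟩ := AlgSpLib.exists_affine_chart (hqc i₀)
  obtain ⟨⟨h1⟩, ⟨h2⟩, h3⟩ := limit_over_data D hc i₀
  obtain ⟨W, cW, ι, fst, p, q, ⟨hcW⟩, haff, hW, sqj, hi, hfst, hp, sqW⟩ :=
    exists_pullback_limit' (overNat D i₀) (fun k => hDa _ _ k.hom) h1 h2 (c.π.app i₀) h3 hE₀ a₀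
  have sqj' : ∀ k : Over i₀, IsPullback (q k) ((yon S).map (p k)) (D.map k.hom) a₀ := fun k => by
    have h := sqj k
    change IsPullback _ _ _ (a₀ ≫ 𝟙 _) at h
    rw [Category.comp_id] at h
    exact h
  have hqe : ∀ k, RepWith @Etale (q k) := fun k => AlgSpLib.repWith_of_isPullback (sqj' k).flip ha₀
  have hqe' : ∀ k, RepWith @Surjective (q k) := fun k => AlgSpLib.repWith_of_isPullback (sqj' k).flip has₀
  have hfe : RepWith @Etale fst := AlgSpLib.repWith_of_isPullback sqW.flip ha₀
  have hfs : RepWith @Surjective fst := AlgSpLib.repWith_of_isPullback sqW.flip has₀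
  obtain ⟨m, hm⟩ := (yon S).map_surjective (fst ≫ e.inv)
  haveI : Etale m.left := AlgSpLib.etale_left (by
    rw [hm]
    exact AlgSpLib.repWith_comp hfe (AlgSpLib.repWith_of_isIso e.inv))
  haveI : Surjective m.left := AlgSpLib.surjective_left (by
    rw [hm]
    exact AlgSpLib.repWith_comp hfs (AlgSpLib.repWith_of_isIso e.inv))
  haveI := haff
  haveI := affine_transitions (W := W ⋙ Over.forget S) hW
  haveI : ∀ k, IsAffine ((W ⋙ Over.forget S).obj k) := hW
  obtain ⟨M, U₁, f₁, τ, g₁, hM, hU₁, hMfp, hf₁, hf₁s, sq₁⟩ := exists_model m.left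
  haveI := hM; haveI := hU₁; haveI := hMfp; haveI := hf₁; haveI := hf₁s
  haveI : LocallyOfFinitePresentation (terminal.from U₁) := by
    rw [show terminal.from U₁ = f₁ ≫ terminal.from M from terminal.hom_ext _ _]
    infer_instance
  obtain ⟨hl⟩ := scheme_isLimit hcW
  let t : W ⋙ Over.forget S ⟶ (Functor.const _).obj (⊤_ Scheme.{u}) :=
    { app := fun _ => terminal.from _, naturality := fun _ _ _ => terminal.hom_ext _ _ }
  obtain ⟨k₁, u₁, hu₁, -⟩ := Scheme.exists_π_app_comp_eq_of_locallyOfFinitePresentation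
    (W ⋙ Over.forget S) t (terminal.from M) _ hl (m.left ≫ τ)
    (NatTrans.ext (funext fun j => terminal.hom_ext _ _))
  obtain ⟨k₂, v₂, hv₂, -⟩ := Scheme.exists_π_app_comp_eq_of_locallyOfFinitePresentation
    (W ⋙ Over.forget S) t (terminal.from U₁) _ hl g₁
    (NatTrans.ext (funext fun j => terminal.hom_ext _ _))
  change (cW.π.app k₁).left ≫ u₁ = _ at hu₁
  change (cW.π.app k₂).left ≫ v₂ = _ at hv₂
  let a := IsCofiltered.minToLeft k₁ k₂
  let b := IsCofiltered.minToRight k₁ k₂
  obtain ⟨k, χ, hχ⟩ := Scheme.exists_hom_comp_eq_comp_of_locallyOfFiniteType (W ⋙ Over.forget S) t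
    (terminal.from M) _ hl (i := IsCofiltered.min k₁ k₂) ((W.map b).left ≫ v₂ ≫ f₁) ((W.map a).left ≫ u₁)
    (terminal.hom_ext _ _) (terminal.hom_ext _ _) (by
      change (cW.π.app _).left ≫ _ = (cW.π.app _).left ≫ _
      simp only [← Category.assoc, ← Over.comp_left]
      erw [cW.w b, cW.w a]
      rw [hu₁, hv₂, sq₁.w])
  let u : (W.obj k).left ⟶ M := (W.map (χ ≫ a)).left ≫ u₁
  let v : (W.obj k).left ⟶ U₁ := (W.map (χ ≫ b)).left ≫ v₂
  have huv : v ≫ f₁ = u := by
    change (W.map χ).left ≫ _ = (W.map χ).left ≫ _ at hχ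
    simp only [u, v, W.map_comp, Over.comp_left, Category.assoc]
    exact hχ
  have hulim : (cW.π.app k).left ≫ u = m.left ≫ τ := by
    simp only [u]
    rw [← Category.assoc, ← Over.comp_left, cW.w, hu₁]
  have hvlim : (cW.π.app k).left ≫ v = g₁ := by
    simp only [v]
    rw [← Category.assoc, ← Over.comp_left, cW.w, hv₂]
  have sqk : IsPullback fst ((yon S).map (cW.π.app k)) (c.π.app k.left) (q k) :=
    IsPullback.of_bot (v₂₁ := (yon S).map (p k)) (v₂₂ := D.map k.hom) (h₃₁ := a₀)
      (by rw [← Functor.map_comp, hi, c.w]; exact sqW) (hfst k) (sqj' k)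
  -- the kernel pair at stage `k`
  have hqqc : RepWith @QuasiCompact (q k) := by
    haveI : IsAffine (W.obj k).left := hW k
    exact (AlgSpLib.repWith_quasiCompact_iff (IsAlgSpace.yon_obj _) (hD _) (hqe k).rep).2
      (AlgSpLib.isQuasiCompactMor_of_qcSp_qsSp (IsAlgSpace.yon_obj _) (hD _) _
        (AlgSpLib.isQuasiCompactSp_yon _) (hqs _))
  obtain ⟨R, r₀, r₁, sqR⟩ := AlgSpLib.exists_isPullback_yon (q k) (q k) (hqe k).rep
  haveI : QuasiCompact r₁.left := hqqc.property (q k) ((yon S).map r₀) r₁ sqR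
  haveI : IsAffine (W.obj k).left := hW k
  haveI : CompactSpace R.left := QuasiCompact.compactSpace_of_compactSpace r₁.left
  obtain ⟨O, π', hO, hπe, hπs⟩ := AlgSpLib.exists_affine_chart (AlgSpLib.isQuasiCompactSp_yon R)
  obtain ⟨π, rfl⟩ := (yon S).map_surjective π'
  obtain ⟨l', φ, hφ⟩ := exists_stage_equalize D hDa c hc (M := M) hO (q k) (π ≫ r₀) (π ≫ r₁)
    (by rw [Functor.map_comp, Category.assoc, sqR.w, ← Category.assoc, ← Functor.map_comp]) sqk u
    (fun a' b' h => by
      have hab : a' ≫ m = b' ≫ m := (yon S).map_injective (by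
        rw [Functor.map_comp, Functor.map_comp, hm, reassoc_of% h])
      rw [Over.comp_left, Over.comp_left, Category.assoc, Category.assoc, hulim, ← Category.assoc,
        ← Over.comp_left, hab, Over.comp_left, Category.assoc])
  let l : Over i₀ := Over.mk (φ ≫ k.hom)
  let ψ : l ⟶ k := Over.homMk φ
  let ul : (W.obj l).left ⟶ M := (W.map ψ).left ≫ u
  let vl : (W.obj l).left ⟶ U₁ := (W.map ψ).left ≫ v
  have huvl : vl ≫ f₁ = ul := by simp [ul, vl, huv]
  obtain ⟨g, hg⟩ := AlgSpLib.exists_desc_of_atlas (hqe l) (hqe' l) ((yon S).map (toBc (S := S) ul))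
    (fun Z z z' h => by
      have hk : (yon S).map (z ≫ W.map ψ) ≫ q k = (yon S).map (z' ≫ W.map ψ) ≫ q k := by
        rw [Functor.map_comp, Functor.map_comp, Category.assoc, Category.assoc, (hp ψ).2]
        exact (Category.assoc _ _ _).symm.trans ((congrArg (· ≫ D.map ψ.left) h).trans (Category.assoc _ _ _))
      obtain ⟨rr, hrr⟩ := (yon S).map_surjective (sqR.lift ((yon S).map (z ≫ W.map ψ))
        ((yon S).map (z' ≫ W.map ψ)) hk)
      have h0 : rr ≫ r₀ = z ≫ W.map ψ := (yon S).map_injective (by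
        rw [Functor.map_comp, hrr, sqR.lift_fst])
      have h1' : rr ≫ r₁ = z' ≫ W.map ψ := (yon S).map_injective (by
        rw [Functor.map_comp, hrr, sqR.lift_snd])
      have sqZ : IsPullback ((yon S).map (pullback.fst rr π)) ((yon S).map (pullback.snd rr π))
          ((yon S).map rr) ((yon S).map π) := (IsPullback.of_hasPullback rr π).map (yon S)
      have hc0 : pullback.fst rr π ≫ z ≫ W.map ψ = pullback.snd rr π ≫ π ≫ r₀ := by
        rw [← h0, pullback.condition_assoc]
      have hc1 : pullback.fst rr π ≫ z' ≫ W.map ψ = pullback.snd rr π ≫ π ≫ r₁ := by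
        rw [← h1', pullback.condition_assoc]
      have key := hφ (pullback.snd rr π) ((yon S).map (pullback.fst rr π ≫ z) ≫ q l) (by
        rw [← hc0, Category.assoc]
        change _ ≫ q l ≫ D.map ψ.left = _
        rw [Functor.map_comp, Functor.map_comp, Functor.map_comp, Category.assoc, Category.assoc,
          Category.assoc, (hp ψ).2]
        rfl)
      rw [← hc0, ← hc1] at key
      refine AlgSpLib.hom_ext_of_atlas (AlgSpLib.repWith_of_isPullback sqZ.flip hπe)
        (AlgSpLib.repWith_of_isPullback sqZ.flip hπs) ?_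
      rw [← Functor.map_comp, ← Functor.map_comp, ← Functor.map_comp, ← Functor.map_comp]
      refine congrArg (yon S).map ?_
      rw [comp_toBc, comp_toBc, comp_toBc, comp_toBc]
      refine congrArg toBc ?_
      simpa [ul, Category.assoc] using key)
  -- the comparison morphism at stage `l`
  have hbc := isPullback_bc (S := S) f₁
  have hfS : RepWith @Etale ((yon S).map (bcMap (S := S) f₁)) :=
    (repWith_yon_map_iff _ _).2 (MorphismProperty.of_isPullback hbc hf₁)
  haveI : IsAffineHom (bcMap (S := S) f₁).left :=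
    MorphismProperty.of_isPullback hbc (inferInstance : IsAffineHom f₁)
  haveI : Surjective (bcMap (S := S) f₁).left := MorphismProperty.of_isPullback hbc hf₁s
  haveI : Flat (bcMap (S := S) f₁).left :=
    MorphismProperty.of_isPullback hbc (inferInstance : Flat f₁)
  haveI : LocallyOfFinitePresentation (bcMap (S := S) f₁).left :=
    MorphismProperty.of_isPullback hbc (inferInstance : LocallyOfFinitePresentation f₁)
  have sqQ := IsPullback.of_hasPullback g ((yon S).map (bcMap (S := S) f₁))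
  let Ψ : (yon S).obj (W.obj l) ⟶ pullback g ((yon S).map (bcMap (S := S) f₁)) :=
    pullback.lift (q l) ((yon S).map (toBc vl)) (by rw [hg, ← Functor.map_comp, toBc_bcMap, huvl])
  haveI := quasiSeparatedSpace_bc (S := S) M
  haveI := quasiSeparatedSpace_bc (S := S) U₁
  have hQA := AlgSpLib.isAlgSpace_pullback (hD l.left) (IsAlgSpace.yon_obj _) (IsAlgSpace.yon_obj _) g
    ((yon S).map (bcMap (S := S) f₁))
  have hQqs := AlgSpLib.isQuasiSeparatedSp_of_isPullback sqQ (hqs _) (isQuasiSeparatedSp_yon _)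
    (isQuasiSeparatedSp_yon _)
  have hQqc : IsQuasiCompactSp (pullback g ((yon S).map (bcMap (S := S) f₁))) :=
    AlgSpLib.isQuasiCompactSp_source (hD _) (AlgSpLib.isQuasiCompactMor_of_repWith hQA (hD _)
      (AlgSpLib.repWith_of_isPullback sqQ.flip ((repWith_yon_map_iff _ _).2
        (inferInstanceAs (QuasiCompact (bcMap (S := S) f₁).left))))) (hqc _)
  have hΨe : IsEtaleMor Ψ := AlgSpLib.isEtaleMor_of_comp (g := pullback.fst g _) hQA
    (by rw [pullback.lift_fst]; exact AlgSpLib.isEtaleMor_of_repWith (hqe l))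
    (AlgSpLib.isEtaleMor_of_repWith (AlgSpLib.repWith_of_isPullback sqQ.flip hfS))
  have hsl : IsPullback fst ((yon S).map (cW.π.app l)) (c.π.app l.left) (q l) :=
    IsPullback.of_bot (v₂₁ := (yon S).map (p l)) (v₂₂ := D.map l.hom) (h₃₁ := a₀)
      (by rw [← Functor.map_comp, hi, c.w]; exact sqW) (hfst l) (sqj' l)
  have hullim : (cW.π.app l).left ≫ ul = m.left ≫ τ := by
    simp only [ul]
    rw [← Category.assoc, ← Over.comp_left, cW.w ψ, hulim]
  have hvllim : (cW.π.app l).left ≫ vl = g₁ := by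
    simp only [vl]
    rw [← Category.assoc, ← Over.comp_left, cW.w ψ, hvlim]
  have hce : e.hom ≫ c.π.app l.left ≫ g = (yon S).map (toBc (S := S) τ) := by
    haveI : IsIso e.hom := inferInstance
    refine AlgSpLib.hom_ext_of_atlas (a := (yon S).map m) ?_ ?_ ?_
    · exact (repWith_yon_map_iff _ _).2 (inferInstanceAs (Etale m.left))
    · exact (repWith_yon_map_iff _ _).2 (inferInstanceAs (Surjective m.left))
    · have h : fst ≫ c.π.app l.left ≫ g = (yon S).map m ≫ (yon S).map (toBc (S := S) τ) := by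
        erw [reassoc_of% hsl.w, hg]
        rw [← Functor.map_comp, ← Functor.map_comp, comp_toBc, comp_toBc, hullim]
      refine Eq.trans ?_ h
      rw [hm, Category.assoc]
      erw [e.inv_hom_id_assoc]
  have sqS : IsPullback (toBc (S := S) g₁) m (bcMap f₁) (toBc τ) := by
    refine AlgSpLib.isPullback_over ?_
    refine IsPullback.of_right (h₁₂ := bcFst U₁) (h₂₂ := bcFst M) ?_ ?_ hbc
    · rw [toBc_fst, toBc_fst]; exact sq₁
    · rw [← Over.comp_left, ← Over.comp_left, toBc_bcMap, comp_toBc, sq₁.w]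
  have sqY : IsPullback ((yon S).map (toBc (S := S) g₁)) fst ((yon S).map (bcMap (S := S) f₁))
      (c.π.app l.left ≫ g) :=
    (sqS.map (yon S)).of_iso (Iso.refl _) (Iso.refl _) e (Iso.refl _) (by simp)
      (by simp [hm]) (by simp) (by simp [hce])
  let pY : (yon S).obj cW.pt ⟶ pullback g ((yon S).map (bcMap (S := S) f₁)) :=
    (yon S).map (cW.π.app l) ≫ Ψ
  have hY : IsPullback pY fst (pullback.fst g ((yon S).map (bcMap (S := S) f₁))) (c.π.app l.left) := by
    refine IsPullback.of_right ?_ ?_ sqQ.flip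
    · simp only [pY, Ψ, Category.assoc, pullback.lift_snd, ← Functor.map_comp, comp_toBc, hvllim]
      exact sqY
    · simp only [pY, Ψ, Category.assoc, pullback.lift_fst]
      exact hsl.w.symm
  have hX : IsPullback ((yon S).map (cW.π.app l)) (𝟙 _) Ψ pY :=
    IsPullback.of_bot (v₂₁ := fst) (v₂₂ := pullback.fst g ((yon S).map (bcMap (S := S) f₁)))
      (h₃₁ := c.π.app l.left) (by
        rw [Category.id_comp]
        simp only [Ψ, pullback.lift_fst]
        exact hsl.flip) (by rw [Category.id_comp]) hY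
  haveI : IsAffine (W.obj l).left := hW l
  haveI : IsIso (𝟙 ((yon S).obj cW.pt)) := IsIso.id _
  obtain ⟨i, φi, Hiso⟩ := descend_iso D hD hDa c hc l.left (IsAlgSpace.yon_obj (W.obj l)) hQA Ψ
    (pullback.fst g _) (AlgSpLib.isQuasiCompactSp_yon _) (isQuasiSeparatedSp_yon _) hQqc hQqs (𝟙 _)
    pY fst hY _ hX
    (AlgSpLib.locP_mono (fun _ _ g (_ : Etale g) => (inferInstance : LocallyOfFinitePresentation g))
      (AlgSpLib.locP_etale_of_isEtaleMor hΨe))
  -- the stage
  obtain ⟨W', iW, fW, sqW', hW'⟩ := hDa _ _ φi (hW l) (q l)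
  have hYi := IsPullback.of_hasPullback (pullback.fst g ((yon S).map (bcMap (S := S) f₁))) (D.map φi)
  let fi := hYi.lift ((yon S).map iW ≫ Ψ) fW (by
    simp only [Ψ, Category.assoc, pullback.lift_fst]
    exact sqW'.w.symm)
  have hXi : IsPullback ((yon S).map iW) fi Ψ (pullback.fst _ (D.map φi)) :=
    IsPullback.of_bot (v₂₁ := pullback.snd _ (D.map φi))
      (v₂₂ := pullback.fst g ((yon S).map (bcMap (S := S) f₁))) (h₃₁ := D.map φi) (by
        rw [hYi.lift_snd]
        simp only [Ψ, pullback.lift_fst]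
        exact sqW'.flip) (hYi.lift_fst _ _ _).symm hYi
  haveI : IsIso fi := Hiso _ _ fi _ _ hYi _ hXi
  have sqG := hYi.flip.paste_vert sqQ
  obtain ⟨pW, hpW⟩ := (yon S).map_surjective
    (fi ≫ pullback.fst _ (D.map φi) ≫ pullback.snd g ((yon S).map (bcMap (S := S) f₁)))
  have sqG' : IsPullback fW ((yon S).map pW) (D.map φi ≫ g) ((yon S).map (bcMap (S := S) f₁)) :=
    sqG.of_iso (asIso fi).symm (Iso.refl _) (Iso.refl _) (Iso.refl _)
      (by simp only [Iso.symm_hom, asIso_inv, Iso.refl_hom, Category.comp_id, IsIso.eq_inv_comp]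
          exact hYi.lift_snd _ _ _)
      (by simp [hpW]) (by simp) (by simp)
  haveI := hW'
  obtain ⟨Z, ⟨eZ⟩⟩ := AlgSpLib.isRepSh_of_fppf_base isEffClass_qaProp sqG'
    (qaProp_of_affine_source pW.left)
  obtain ⟨ρ, hρ⟩ := (yon S).map_surjective (eZ.hom ≫ D.map φi ≫ g)
  obtain ⟨z, hz⟩ := (yon S).map_surjective (fW ≫ eZ.inv)
  have sqZ : IsPullback z pW ρ (bcMap (S := S) f₁) := by
    have h : IsPullback ((yon S).map z) ((yon S).map pW) ((yon S).map ρ)
        ((yon S).map (bcMap (S := S) f₁)) :=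
      sqG'.of_iso (Iso.refl _) eZ.symm (Iso.refl _) (Iso.refl _) (by simp [hz]) (by simp) (by simp [hρ])
        (by simp)
    exact IsPullback.of_map (yon S) ((yon S).map_injective (by
      rw [Functor.map_comp, Functor.map_comp]; exact h.w)) h
  have big := (sqZ.map (Over.forget S)).paste_vert hbc.flip
  haveI : IsAffine ((Over.forget S).obj W') := hW'
  exact ⟨i, Z, AlgSpLib.isAffine_of_descent big, ⟨eZ⟩⟩

end Groth.Agent.MonoPtLib
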