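import Groth.Agent.MonoPtLib.LimLiftSurj
import Groth.Agent.FPColimLib.Algebra
import Groth.Agent.GerbeFlatLib.Retract
/-!
# Limit preservation characterises morphisms locally of finite presentation
-/

set_option autoImplicit false
set_option backward.isDefEq.respectTransparency false
set_option backward.isDefEq.respectTransparency.types false
universe u
open CategoryTheory CategoryTheory.Limits AlgebraicGeometry AlgSp Opposite

namespace Groth.Agent.MonoPtLib

variable {S : Scheme.{u}}

/-- Lifting of points of limits along a morphism of spaces. -/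
def LiftsLimits {X Y : Sp S} (f : X ⟶ Y) : Prop :=
  ∀ ⦃I : Type u⦄ [SmallCategory I] [IsCofiltered I] (D : I ⥤ Over S) (c : Cone D),
    IsLimit ((Over.forget S).mapCone c) → (∀ i, IsAffine (D.obj i).left) → IsAffine c.pt.left →
    ∀ (x : (yon S).obj c.pt ⟶ X) (i : I) (y : (yon S).obj (D.obj i) ⟶ Y),
      x ≫ f = (yon S).map (c.π.app i) ≫ y →
      ∃ (i' : I) (φ : i' ⟶ i) (x' : (yon S).obj (D.obj i') ⟶ X),
        (yon S).map (c.π.app i') ≫ x' = x ∧ x' ≫ f = (yon S).map (D.map φ) ≫ y

/-- On etale charts lifting of points of limits passes to the map of schemes. -/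
theorem exists_lift_chart {X Y : Sp S} (hY : IsAlgSpace Y) {f : X ⟶ Y} (hlift : LiftsLimits f)
    {U V : Over S} {a : (yon S).obj U ⟶ X} {b : (yon S).obj V ⟶ Y} {h : U ⟶ V}
    (ha : RepWith @Etale a) (hb : RepWith @Etale b) (e : a ≫ f = (yon S).map h ≫ b)
    {I : Type u} [SmallCategory I] [IsCofiltered I] (D : I ⥤ Over S) (c : Cone D)
    (hc : IsLimit ((Over.forget S).mapCone c)) (hD : ∀ i, IsAffine (D.obj i).left) (hT : IsAffine c.pt.left)
    (x : c.pt ⟶ U) (i : I) (y : D.obj i ⟶ V) (hxy : x ≫ h = c.π.app i ≫ y) :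
    ∃ (i' : I) (φ : i' ⟶ i) (x' : D.obj i' ⟶ U), c.π.app i' ≫ x' = x ∧ x' ≫ h = D.map φ ≫ y := by
  obtain ⟨i₁, φ₁, x₁, h1, h1'⟩ := hlift D c hc hD hT ((yon S).map x ≫ a) i ((yon S).map y ≫ b) (by
    rw [Category.assoc, e, ← Category.assoc, ← Functor.map_comp, hxy, Functor.map_comp, Category.assoc])
  obtain ⟨i₂, φ₂, x₂, h2, h2'⟩ := exists_lift_rep D c hc hD
    (AlgSpLib.repWith_mono (fun _ _ g (_ : Etale g) => (inferInstance : LocallyOfFinitePresentation g)) ha)
    ((yon S).map x) i₁ x₁ h1.symm
  obtain ⟨x₂, rfl⟩ := (yon S).map_surjective x₂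
  obtain ⟨j, ψ, hψ⟩ := exists_eq_stage D c hc hD (IsAlgSpace.yon_obj V) hY
    (AlgSpLib.locP_of_repWith
      (AlgSpLib.repWith_mono (fun _ _ g (_ : Etale g) => (inferInstance : LocallyOfFiniteType g)) hb))
    i₂ ((yon S).map (x₂ ≫ h)) ((yon S).map (D.map (φ₂ ≫ φ₁) ≫ y)) (by
      rw [Functor.map_comp, Category.assoc, ← e, ← Category.assoc, h2', Category.assoc, h1']
      simp only [Functor.map_comp, Category.assoc])
    (by
      rw [← Functor.map_comp, ← Functor.map_comp]
      refine congrArg _ ?_
      rw [← Category.assoc (c.π.app i₂) x₂, show c.π.app i₂ ≫ x₂ = x from (yon S).map_injective (by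
        rw [Functor.map_comp, h2]), hxy, ← Category.assoc (c.π.app i₂), c.w])
  refine ⟨j, ψ ≫ φ₂ ≫ φ₁, D.map ψ ≫ x₂, ?_, ?_⟩
  · rw [← Category.assoc, c.w]
    exact (yon S).map_injective (by rw [Functor.map_comp, h2])
  · refine (yon S).map_injective ?_
    rw [← Functor.map_comp, ← Functor.map_comp] at hψ
    rw [Category.assoc, hψ, D.map_comp ψ, Category.assoc]

/-- On affine etale charts lifting of points of limits gives finite presentation. -/
theorem lfp_of_lifts_affine {X Y : Sp S} (hY : IsAlgSpace Y) {f : X ⟶ Y} (hlift : LiftsLimits f)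
    {U V : Over S} [IsAffine U.left] [IsAffine V.left] {a : (yon S).obj U ⟶ X} {b : (yon S).obj V ⟶ Y}
    {h : U ⟶ V} (ha : RepWith @Etale a) (hb : RepWith @Etale b) (e : a ≫ f = (yon S).map h ≫ b) :
    LocallyOfFinitePresentation h.left := by
  classical
  let A : Type u := Γ(V.left, ⊤)
  let B : Type u := Γ(U.left, ⊤)
  letI : Algebra A B := h.left.appTop.hom.toAlgebra
  haveI : IsFiltered (FPColimLib.Stage A B) := inferInstance
  haveI : IsConnected (FPColimLib.Stage A B) := IsFiltered.isConnected _
  let F := FPColimLib.diagram (R := A) (A := B)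
  let q : ∀ k, Spec (F.obj k).right ⟶ V.left := fun k => Spec.map (F.obj k).hom ≫ V.left.isoSpec.inv
  have hq : ∀ {k l} (φ : k ⟶ l), Spec.map (F.map φ).right ≫ q k = q l := fun φ => by
    simp only [q]
    rw [← Category.assoc, ← Spec.map_comp, Under.w]
  let D : (FPColimLib.Stage A B)ᵒᵖ ⥤ Over S :=
    { obj := fun k => Over.mk (q k.unop ≫ V.hom)
      map := fun {k l} φ => Over.homMk (Spec.map (F.map φ.unop).right) (by
        change _ ≫ q l.unop ≫ V.hom = q k.unop ≫ V.hom
        rw [← Category.assoc, hq])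
      map_id := fun k => Over.OverMorphism.ext (by simp)
      map_comp := fun φ ψ => Over.OverMorphism.ext (by simp) }
  let cB := FPColimLib.cocone (R := A) (A := B)
  let c : Cone D :=
    { pt := Over.mk ((Spec.map cB.pt.hom ≫ V.left.isoSpec.inv) ≫ V.hom)
      π :=
        { app := fun k => Over.homMk (Spec.map (cB.ι.app k.unop).right) (by
            change _ ≫ q k.unop ≫ V.hom = _
            simp only [q]
            rw [← Category.assoc, ← Category.assoc (Spec.map _), ← Spec.map_comp, Under.w]
            rfl)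
          naturality := fun k l φ => Over.OverMorphism.ext (by
            change 𝟙 _ ≫ Spec.map (cB.ι.app l.unop).right = Spec.map _ ≫ Spec.map (F.map φ.unop).right
            rw [Category.id_comp, ← Spec.map_comp, ← Under.comp_right, cB.w]) } }
  have hc : IsLimit ((Over.forget S).mapCone c) :=
    (isLimitOfPreserves Scheme.Spec
      (isColimitOfPreserves (Under.forget (CommRingCat.of A)) FPColimLib.isColimit).op).ofIsoLimit
        (Cone.ext (Iso.refl _) fun k => (Category.id_comp _).symm)
  let x : c.pt ⟶ U := Over.homMk U.left.isoSpec.inv (by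
    change _ = (Spec.map cB.pt.hom ≫ V.left.isoSpec.inv) ≫ V.hom
    rw [← Over.w h, ← Category.assoc, ← Scheme.isoSpec_inv_naturality]
    rfl)
  obtain ⟨k₀⟩ := (inferInstance : Nonempty (FPColimLib.Stage A B))
  let y : D.obj (op k₀) ⟶ V := Over.homMk (q k₀)
  obtain ⟨k', φ, x', hx1, hx2⟩ := exists_lift_chart hY hlift ha hb e D c hc
    (fun k => inferInstanceAs (IsAffine (Spec _))) (inferInstanceAs (IsAffine (Spec _))) x (op k₀) y
    (Over.OverMorphism.ext (by
      change U.left.isoSpec.inv ≫ h.left = Spec.map (cB.ι.app k₀).right ≫ q k₀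
      simp only [q]
      rw [← Category.assoc, ← Spec.map_comp, Under.w, ← Scheme.isoSpec_inv_naturality]
      rfl))
  have hxh : x'.left ≫ h.left = q k'.unop := by
    have := congrArg (fun t => t.left) hx2
    change x'.left ≫ h.left = Spec.map (F.map φ.unop).right ≫ q k₀ at this
    rw [this, hq]
  haveI : LocallyOfFinitePresentation (x'.left ≫ h.left) := by
    rw [hxh]
    haveI : LocallyOfFinitePresentation (Spec.map (F.obj k'.unop).hom) := by
      rw [HasRingHomProperty.Spec_iff (P := @LocallyOfFinitePresentation)]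
      haveI : Algebra.FinitePresentation A (FPColimLib.Q k'.unop) :=
        Algebra.FinitePresentation.quotient ⟨k'.unop.t, rfl⟩
      change (algebraMap A (FPColimLib.Q k'.unop)).FinitePresentation
      exact RingHom.finitePresentation_algebraMap.2 ‹_›
    exact inferInstanceAs (LocallyOfFinitePresentation (Spec.map _ ≫ V.left.isoSpec.inv))
  refine GerbeFlatLib.lfp_of_retract x'.left h.left
    (U.left.isoSpec.hom ≫ Spec.map (cB.ι.app k'.unop).right) ?_
  have h1 := congrArg (fun t => t.left) hx1
  change Spec.map (cB.ι.app k'.unop).right ≫ x'.left = U.left.isoSpec.inv at h1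
  rw [Category.assoc]
  exact (congrArg (U.left.isoSpec.hom ≫ ·) h1).trans U.left.isoSpec.hom_inv_id

/-- Morphisms lifting points of limits are locally of finite presentation. -/
theorem locP_lfp_of_lifts {X Y : Sp S} (hX : IsAlgSpace X) (hY : IsAlgSpace Y) {f : X ⟶ Y}
    (hlift : LiftsLimits f) : LocP @LocallyOfFinitePresentation f := by
  obtain ⟨U, V, a, b, h, ha, has, hb, hbs, e⟩ := AlgSpLib.exists_chart hX hY f
  refine AlgSpLib.locP_of_chart ha has hb e ?_
  rw [IsZariskiLocalAtTarget.iff_of_openCover (P := @LocallyOfFinitePresentation) V.left.affineCover]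
  intro j
  rw [IsZariskiLocalAtSource.iff_of_openCover (P := @LocallyOfFinitePresentation)
    (pullback h.left (V.left.affineCover.f j)).affineCover]
  intro k
  let P := pullback h.left (V.left.affineCover.f j)
  let V' : Over S := Over.mk (V.left.affineCover.f j ≫ V.hom)
  let w : V' ⟶ V := Over.homMk (V.left.affineCover.f j)
  let U' : Over S := Over.mk ((P.affineCover.f k ≫ pullback.fst _ _) ≫ U.hom)
  let r : U' ⟶ U := Over.homMk (P.affineCover.f k ≫ pullback.fst _ _)
  let h' : U' ⟶ V' := Over.homMk (P.affineCover.f k ≫ pullback.snd _ _) (by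
    change (_ ≫ _) ≫ _ ≫ V.hom = (_ ≫ _) ≫ U.hom
    simp only [Category.assoc]
    rw [← pullback.condition_assoc, Over.w h])
  have hw : r ≫ h = h' ≫ w := Over.OverMorphism.ext (by simp [r, h', w, pullback.condition])
  haveI : IsAffine U'.left := inferInstanceAs (IsAffine (Spec _))
  haveI : IsAffine V'.left := inferInstanceAs (IsAffine (Spec _))
  exact lfp_of_lifts_affine hY hlift (a := (yon S).map r ≫ a) (b := (yon S).map w ≫ b) (h := h')
    (AlgSpLib.repWith_comp ((repWith_yon_map_iff _ _).2
      (inferInstanceAs (Etale (P.affineCover.f k ≫ pullback.fst _ _)))) ha)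
    (AlgSpLib.repWith_comp ((repWith_yon_map_iff _ _).2
      (inferInstanceAs (Etale (V.left.affineCover.f j)))) hb)
    (by rw [Category.assoc, e, ← Category.assoc, ← Functor.map_comp, hw, Functor.map_comp, Category.assoc])

theorem lifts_of_locP_lfp {X Y : Sp S} (hX : IsAlgSpace X) (hY : IsAlgSpace Y) {f : X ⟶ Y}
    (hf : LocP @LocallyOfFinitePresentation f) : LiftsLimits f :=
  fun _ _ _ D c hc hD hT x i y e => exists_lift_stage D c hc hD hT hX hY hf x i y e

theorem locP_lfp_iff_lifts {X Y : Sp S} (hX : IsAlgSpace X) (hY : IsAlgSpace Y) {f : X ⟶ Y} :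
    LocP @LocallyOfFinitePresentation f ↔ LiftsLimits f :=
  ⟨lifts_of_locP_lfp hX hY, locP_lfp_of_lifts hX hY⟩

end Groth.Agent.MonoPtLib
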