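import Groth.Agent.AlgSpLib.Coprod
import Groth.Agent.AlgSpLib.CoprodOpen
import Groth.Agent.AlgSpLib.Descend
import Groth.Agent.AlgSpLib.Points
import Groth.Agent.AlgSpLib.FormalLocal

/-!
# Descent of morphisms along jointly surjective etale families of charts
-/

set_option autoImplicit false
set_option backward.isDefEq.respectTransparency false
set_option backward.isDefEq.respectTransparency.types false

universe u

open CategoryTheory CategoryTheory.Limits AlgebraicGeometry Opposite AlgSp AlgSpLib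

namespace MonoPtLib

variable {S : Scheme.{u}}

theorem exists_unique_desc_of_family {X G : Sp S} {κ : Type u} {W : κ → Over S}
    (w : ∀ k, (yon S).obj (W k) ⟶ X) (hw : ∀ k, RepWith @Etale (w k))
    (hs : ∀ x : Points X, ∃ k, x ∈ Set.range (Points.ofPt (w k)))
    (x : ∀ k, (yon S).obj (W k) ⟶ G)
    (hx : ∀ (k l : κ) (Z : Over S) (g : Z ⟶ W k) (g' : Z ⟶ W l),
      (yon S).map g ≫ w k = (yon S).map g' ≫ w l → (yon S).map g ≫ x k = (yon S).map g' ≫ x l) :
    ∃! y : X ⟶ G, ∀ k, w k ≫ y = x k := by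
  let C : Over S := Over.mk (Sigma.desc fun k => (W k).hom)
  let s : ∀ k, W k ⟶ C := fun k => Over.homMk (Sigma.ι (fun k => (W k).left) k) (Sigma.ι_desc _ _)
  have hso : ∀ k, IsOpenImmersion (s k).left := fun k =>
    inferInstanceAs (IsOpenImmersion (Sigma.ι (fun k => (W k).left) k))
  have hcov : ∀ c : C.left, ∃ k, c ∈ Set.range (s k).left := fun c => by
    obtain ⟨⟨k, y⟩, hy⟩ := (sigmaMk (fun k => (W k).left)).surjective c
    refine ⟨k, y, ?_⟩
    rw [← hy, sigmaMk_mk (fun k => (W k).left) k y]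
    rfl
  have hdisj : ∀ i j, i ≠ j → Disjoint (Set.range (s i).left) (Set.range (s j).left) := by
    intro i j hij
    rw [Set.disjoint_left]
    rintro z ⟨a, rfl⟩ ⟨b, hb⟩
    exact hij (congrArg Sigma.fst ((sigmaι_eq_iff (fun k => (W k).left) _ _ _ _).1 hb)).symm
  obtain ⟨hC⟩ := nonempty_isColimit_yon_cofan s hso hcov hdisj
  let c : (yon S).obj C ⟶ X := Cofan.IsColimit.desc hC w
  have hc : ∀ k, (yon S).map (s k) ≫ c = w k := fun k => Cofan.IsColimit.fac hC _ k
  let xc : (yon S).obj C ⟶ G := Cofan.IsColimit.desc hC x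
  have hxc : ∀ k, (yon S).map (s k) ≫ xc = x k := fun k => Cofan.IsColimit.fac hC _ k
  have hce : RepWith @Etale c := by
    refine repWith_of_source_cover (fun k => (yon S).map (s k))
      (fun k => (repWith_yon_map_iff _ _).2 (hso k)) (fun z => ?_) (fun k => by rw [hc]; exact hw k)
    exact exists_mem_range_inj _ hC z
  have hcs : RepWith @Surjective c := (repWith_surjective_iff hce.rep).2 fun z => by
    obtain ⟨k, v, rfl⟩ := hs z
    exact ⟨Points.ofPt ((yon S).map (s k)) v, by rw [Points.map_ofPt, hc]⟩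
  obtain ⟨y, hy⟩ := exists_desc_of_atlas hce hcs xc fun Z g g' e => by
    have hZ : ∀ z : Z.left, ∃ kl : κ × κ, z ∈ g.left ⁻¹ᵁ (s kl.1).left.opensRange ⊓
        g'.left ⁻¹ᵁ (s kl.2).left.opensRange := fun z => by
      obtain ⟨k, hk⟩ := hcov (g.left z)
      obtain ⟨l, hl⟩ := hcov (g'.left z)
      exact ⟨(k, l), hk, hl⟩
    let O : κ × κ → Z.left.Opens := fun kl =>
      g.left ⁻¹ᵁ (s kl.1).left.opensRange ⊓ g'.left ⁻¹ᵁ (s kl.2).left.opensRange
    let ιO : ∀ kl, Over.mk ((O kl).ι ≫ Z.hom) ⟶ Z := fun kl => Over.homMk (O kl).ι rfl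
    refine hom_ext_of_cover ιO (fun kl => inferInstanceAs (Flat (O kl).ι))
      (fun kl => inferInstanceAs (LocallyOfFinitePresentation (O kl).ι)) (fun z => ?_) fun kl => ?_
    · obtain ⟨kl, hkl⟩ := hZ z
      exact ⟨kl, by
        change z ∈ Set.range (O kl).ι
        rw [Scheme.Opens.range_ι]
        exact hkl⟩
    have h₁ : Set.range ((O kl).ι ≫ g.left) ⊆ Set.range (s kl.1).left := by
      rintro _ ⟨z, rfl⟩
      exact z.2.1
    have h₂ : Set.range ((O kl).ι ≫ g'.left) ⊆ Set.range (s kl.2).left := by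
      rintro _ ⟨z, rfl⟩
      exact z.2.2
    have := hso kl.1
    have := hso kl.2
    let l₁ : Over.mk ((O kl).ι ≫ Z.hom) ⟶ W kl.1 :=
      Over.homMk (IsOpenImmersion.lift (s kl.1).left _ h₁) (by
        change IsOpenImmersion.lift (s kl.1).left _ h₁ ≫ (W kl.1).hom = _
        rw [← Over.w (s kl.1), IsOpenImmersion.lift_fac_assoc, Category.assoc, Over.w]
        rfl)
    let l₂ : Over.mk ((O kl).ι ≫ Z.hom) ⟶ W kl.2 :=
      Over.homMk (IsOpenImmersion.lift (s kl.2).left _ h₂) (by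
        change IsOpenImmersion.lift (s kl.2).left _ h₂ ≫ (W kl.2).hom = _
        rw [← Over.w (s kl.2), IsOpenImmersion.lift_fac_assoc, Category.assoc, Over.w]
        rfl)
    have e₁ : ιO kl ≫ g = l₁ ≫ s kl.1 :=
      Over.OverMorphism.ext (IsOpenImmersion.lift_fac (s kl.1).left _ h₁).symm
    have e₂ : ιO kl ≫ g' = l₂ ≫ s kl.2 :=
      Over.OverMorphism.ext (IsOpenImmersion.lift_fac (s kl.2).left _ h₂).symm
    rw [← Functor.map_comp_assoc, ← Functor.map_comp_assoc, e₁, e₂, Functor.map_comp_assoc,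
      Functor.map_comp_assoc, hxc, hxc]
    refine hx _ _ _ _ _ ?_
    rw [← hc, ← hc, ← Functor.map_comp_assoc, ← Functor.map_comp_assoc, ← e₁, ← e₂,
      Functor.map_comp_assoc, Functor.map_comp_assoc, e]
  refine ⟨y, fun k => by rw [← hc, Category.assoc, hy, hxc], fun y' hy' => ?_⟩
  refine hom_ext_of_atlas hce hcs ?_
  rw [hy]
  refine Cofan.IsColimit.hom_ext hC _ _ fun k => ?_
  change (yon S).map (s k) ≫ c ≫ y' = (yon S).map (s k) ≫ xc
  rw [← Category.assoc, hc, hy', hxc]

end MonoPtLib
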