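import Groth.Agent.AlgSpLib.DecentTop
import Groth.Agent.AlgSpLib.GeomLift
import Groth.Agent.AlgSpLib.Qc
import Mathlib.AlgebraicGeometry.Morphisms.Finite

/-!
# Monomorphisms from spectra of fields at points of algebraic spaces
-/

set_option autoImplicit false
set_option backward.isDefEq.respectTransparency false
set_option backward.isDefEq.respectTransparency.types false

universe u

open CategoryTheory CategoryTheory.Limits AlgebraicGeometry Opposite AlgSp Topology AlgSpLib

namespace MonoPtLib

variable {S : Scheme.{u}}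

instance (F : Sp S) (p : FieldPt F) : IsReduced p.pt.left :=
  inferInstanceAs (IsReduced (Spec (CommRingCat.of p.K)))

/-- The spectrum of the residue field at `u`, over `S`. -/
noncomputable abbrev resPt {U : Over S} (u : U.left) : Over S :=
  Over.mk (U.left.fromSpecResidueField u ≫ U.hom)

/-- Its map to `U`. -/
noncomputable abbrev resι {U : Over S} (u : U.left) : resPt u ⟶ U :=
  Over.homMk (U.left.fromSpecResidueField u) rfl

lemma resι_apply {U : Over S} (u : U.left) (y : (resPt u).left) : (resι u).left y = u :=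
  U.left.fromSpecResidueField_apply u y

instance {U : Over S} (u : U.left) : Subsingleton (resPt u).left :=
  inferInstanceAs (Subsingleton (PrimeSpectrum (U.left.residueField u)))

instance {U : Over S} (u : U.left) : Nonempty (resPt u).left :=
  inferInstanceAs (Nonempty (PrimeSpectrum (U.left.residueField u)))

instance {U : Over S} (u : U.left) : IsReduced (resPt u).left :=
  inferInstanceAs (IsReduced (Spec (U.left.residueField u)))

instance {U : Over S} (u : U.left) : IsAffine (resPt u).left :=
  inferInstanceAs (IsAffine (Spec (U.left.residueField u)))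

instance {U : Over S} (u : U.left) : IsLocallyArtinian (resPt u).left :=
  inferInstanceAs (IsLocallyArtinian (Spec (U.left.residueField u)))

instance {U : Over S} (u : U.left) : IsPreimmersion (resι u).left :=
  inferInstanceAs (IsPreimmersion (U.left.fromSpecResidueField u))

lemma over_comp_apply {A B C : Over S} (f : A ⟶ B) (g : B ⟶ C) (x : A.left) :
    (f ≫ g).left x = g.left (f.left x) := by
  rw [Over.comp_left, Scheme.Hom.comp_apply]

lemma discrete_of_etale {A B : Scheme.{u}} (f : A ⟶ B) [Etale f] [IsLocallyArtinian B] :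
    DiscreteTopology A := by
  haveI : LocallyQuasiFinite f := locallyQuasiFinite_of_etale f
  haveI : IsLocallyArtinian A := .of_locallyQuasiFinite f
  infer_instance

/-- A one-point chart with etale quasi-compact self-product gives a monomorphism from a field. -/
theorem exists_mono_of_rel {X : Sp S} (hX : IsAlgSpace X) {U₁ R₀ : Over S} [Subsingleton U₁.left]
    [IsReduced U₁.left] [IsAffine U₁.left] [IsLocallyArtinian U₁.left] (u₀ : U₁.left)
    {b : (yon S).obj U₁ ⟶ X} {s t : R₀ ⟶ U₁} (sqRX : IsPullback ((yon S).map s) ((yon S).map t) b b)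
    [Etale t.left] [QuasiCompact t.left] :
    ∃ p : FieldPt X, Points.mk p = Points.ofPt b u₀ ∧ Mono p.toHom := by
  have htf := finLocFree_of_etale_compact t.left
  obtain ⟨σ, hσ₁, hσ₂⟩ : ∃ σ : R₀ ≅ R₀, σ.hom ≫ t = s ∧ True := by
    obtain ⟨φ, hφ⟩ := (yon S).map_surjective (sqRX.isoIsPullback _ _ sqRX.flip).hom
    haveI : IsIso ((yon S).map φ) := hφ ▸ inferInstance
    haveI : IsIso φ := isIso_of_fully_faithful (yon S) φ
    exact ⟨asIso φ, (yon S).map_injective (by
      rw [Functor.map_comp, asIso_hom, hφ, IsPullback.isoIsPullback_hom_fst]), trivial⟩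
  have hsf : Mor2.IsFinLocFree s.left := by
    obtain ⟨h₁, h₂, h₃⟩ := htf
    haveI : IsIso σ.hom.left := inferInstanceAs (IsIso ((Over.forget S).map σ.hom))
    rw [← hσ₁, Over.comp_left]
    exact ⟨(MorphismProperty.cancel_left_of_respectsIso @IsFinite _ _).2 h₁,
      (MorphismProperty.cancel_left_of_respectsIso @Flat _ _).2 h₂,
      (MorphismProperty.cancel_left_of_respectsIso @LocallyOfFinitePresentation _ _).2 h₃⟩
  obtain ⟨M, m, hm, sqM, hms, -⟩ := Groth.Agent.S10235.exists_surjective_quotient
    (groupoidOfKernelPair sqRX.flip.flip) htf hsf (isEqvRel_of_kernelPair sqRX) fun C _ hCn =>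
      ⟨hCn.some, hCn.some_mem, ⊤, isAffineOpen_top U₁.left, fun _ _ => trivial⟩
  obtain ⟨hmf, hmfl, hmp⟩ := hm
  let m' : U₁ ⟶ M := Over.homMk m.left (Over.w m)
  haveI : Flat m'.left := hmfl
  haveI : LocallyOfFinitePresentation m'.left := hmp
  haveI : Surjective m'.left := hms
  have sqMU : IsPullback s t m' m' := isPullback_over sqM
  haveI : Subsingleton M.left := m'.left.surjective.subsingleton
  haveI : IsReduced M.left := isReduced_of_flat_surjective m'.left
  haveI : Nonempty M.left := ⟨m'.left u₀⟩
  haveI : IrreducibleSpace M.left := ⟨inferInstance⟩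
  haveI : IsIntegral M.left := isIntegral_of_irreducibleSpace_of_isReduced _
  haveI := isLocallySurjective_yon_map m'
  obtain ⟨c, hc⟩ := exists_desc ((yon S).map m') b fun T g g' e => by
    obtain ⟨g, rfl⟩ := (yon S).map_surjective g
    obtain ⟨g', rfl⟩ := (yon S).map_surjective g'
    obtain ⟨r, hr⟩ := (yon S).map_surjective ((sqMU.map (yon S)).lift _ _ e)
    rw [← (sqMU.map (yon S)).lift_fst _ _ e]
    conv_rhs => rw [← (sqMU.map (yon S)).lift_snd _ _ e]
    rw [Category.assoc, Category.assoc, sqRX.w]
  have hcmono : Mono c := by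
    refine mono_of_injective fun T g g' e => ?_
    obtain ⟨g, rfl⟩ := (yon S).map_surjective g
    obtain ⟨g', rfl⟩ := (yon S).map_surjective g'
    let T₁ := pullback g m'
    let T₂ := pullback (pullback.fst g m' ≫ g') m'
    let τ : T₂ ⟶ T := pullback.fst (pullback.fst g m' ≫ g') m' ≫ pullback.fst g m'
    have hF {A B : Over S} (f : A ⟶ M) (P : MorphismProperty Scheme.{u}) [P.IsStableUnderBaseChange]
        (h : P m'.left) : P (pullback.fst f m').left :=
      P.of_isPullback (left_isPullback f m').flip h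
    haveI : Flat τ.left := by
      haveI := hF (A := T₁) (B := T₁) (pullback.fst g m' ≫ g') @Flat hmfl
      haveI := hF (A := T) (B := T) g @Flat hmfl
      exact inferInstanceAs (Flat (_ ≫ _))
    haveI : LocallyOfFinitePresentation τ.left := by
      haveI := hF (A := T₁) (B := T₁) (pullback.fst g m' ≫ g') @LocallyOfFinitePresentation hmp
      haveI := hF (A := T) (B := T) g @LocallyOfFinitePresentation hmp
      exact inferInstanceAs (LocallyOfFinitePresentation (_ ≫ _))
    haveI : Surjective τ.left := by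
      haveI := hF (A := T₁) (B := T₁) (pullback.fst g m' ≫ g') @Surjective hms
      haveI := hF (A := T) (B := T) g @Surjective hms
      exact inferInstanceAs (Surjective (_ ≫ _))
    let h₁ := pullback.fst (pullback.fst g m' ≫ g') m' ≫ pullback.snd g m'
    let h₂ := pullback.snd (pullback.fst g m' ≫ g') m'
    have eh₁ : h₁ ≫ m' = τ ≫ g := by simp [h₁, τ, pullback.condition]
    have eh₂ : h₂ ≫ m' = τ ≫ g' := by simp [h₂, τ, pullback.condition]
    obtain ⟨r, hr₁, hr₂⟩ := kp_lift sqRX h₁ h₂ (by
      rw [← hc, ← Functor.map_comp_assoc, ← Functor.map_comp_assoc, eh₁, eh₂, Functor.map_comp_assoc,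
        Functor.map_comp_assoc, e]
      simp only [τ, Functor.map_comp, Category.assoc])
    refine eq_of_comp_eq τ ?_
    rw [← Functor.map_comp, ← Functor.map_comp, ← eh₁, ← eh₂, ← hr₁, ← hr₂, Category.assoc, Category.assoc, sqMU.w]
  letI : Field Γ(M.left, ⊤) := (isField_of_isIntegral_of_subsingleton M.left).toField
  let str : Spec (CommRingCat.of Γ(M.left, ⊤)) ⟶ S := M.left.isoSpec.inv ≫ M.hom
  let e : Over.mk str ≅ M := Over.isoMk M.left.isoSpec.symm rfl
  let p : FieldPt X :=
    { K := Γ(M.left, ⊤)
      str := str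
      val := (AlgSp.J S).uliftYonedaEquiv ((yon S).map e.hom ≫ c) }
  have hp : p.toHom = (yon S).map e.hom ≫ c := Equiv.symm_apply_apply _ _
  refine ⟨p, ?_, ?_⟩
  · rw [← Points.ofPt_toHom p (IsLocalRing.closedPoint p.K), hp, ofPt_yon_comp, ← hc, ofPt_yon_comp]
    exact congrArg _ (Subsingleton.elim _ _)
  · rw [hp]; exact @mono_comp _ _ _ _ _ _ inferInstance _ hcmono

/-- Finitely many self-relations at a point of a chart give a monomorphism from a field at its image. -/
theorem exists_mono_of_finite_diag {X : Sp S} (hX : IsAlgSpace X) {U : Over S} {φ : (yon S).obj U ⟶ X}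
    (hφ : RepWith @Etale φ) (u : U.left) {R : Over S} {s t : R ⟶ U}
    (sqR : IsPullback ((yon S).map t) ((yon S).map s) φ φ)
    (hfin : {r : R.left | s.left r = u ∧ t.left r = u}.Finite) :
    ∃ p : FieldPt X, Points.mk p = Points.ofPt φ u ∧ Mono p.toHom := by
  obtain ⟨E, eR, e₁, sq0⟩ : ∃ (E : Over S) (eR : E ⟶ R) (e₁ : E ⟶ resPt u), IsPullback eR e₁ t (resι u) :=
    ⟨_, _, _, IsPullback.of_hasPullback t (resι u)⟩
  let e₂ := eR ≫ s
  have sqE : IsPullback ((yon S).map e₂) ((yon S).map e₁) φ ((yon S).map (resι u) ≫ φ) := by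
    rw [Functor.map_comp]
    exact (sq0.map (yon S)).paste_horiz sqR.flip
  haveI : Etale e₁.left := etale_left (repWith_of_isPullback sqE hφ)
  haveI : IsReduced E.left := isReduced_of_smooth e₁.left
  haveI : DiscreteTopology E.left := discrete_of_etale e₁.left
  have sq0l : IsPullback eR.left e₁.left t.left (resι u).left := sq0.map (Over.forget S)
  haveI : IsPreimmersion eR.left :=
    MorphismProperty.of_isPullback (P := @IsPreimmersion) sq0l.flip inferInstance
  let O : E.left.Opens := ⟨e₂.left ⁻¹' {u}, isOpen_discrete _⟩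
  have hOfin : (O : Set E.left).Finite := by
    refine (hfin.preimage eR.left.isEmbedding.injective.injOn).subset fun e he => ⟨?_, ?_⟩
    · rw [← over_comp_apply]; exact he
    · rw [← over_comp_apply, sq0.w, over_comp_apply, resι_apply]
  haveI : Finite ↥O.toScheme := hOfin.to_subtype
  obtain ⟨R₀, r₀, s₀, sqR₀⟩ : ∃ (R₀ : Over S) (r₀ : R₀ ⟶ E) (s₀ : R₀ ⟶ resPt u),
      IsPullback r₀ s₀ e₂ (resι u) := ⟨_, _, _, IsPullback.of_hasPullback e₂ (resι u)⟩
  have sqRl : IsPullback r₀.left s₀.left e₂.left (resι u).left := sqR₀.map (Over.forget S)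
  haveI : IsPreimmersion r₀.left :=
    MorphismProperty.of_isPullback (P := @IsPreimmersion) sqRl.flip inferInstance
  have hrange : Set.range r₀.left ⊆ O := by
    rintro _ ⟨y, rfl⟩
    change e₂.left (r₀.left y) = u
    rw [← over_comp_apply, sqR₀.w, over_comp_apply, resι_apply]
  let k : R₀.left ⟶ O.toScheme := IsOpenImmersion.lift O.ι r₀.left (by rwa [Scheme.Opens.range_ι])
  have hk : k ≫ O.ι = r₀.left := IsOpenImmersion.lift_fac _ _ _
  haveI : Mono k := mono_of_mono_fac hk
  haveI : Finite R₀.left := by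
    refine Finite.of_injective k fun x y hxy => r₀.left.isEmbedding.injective ?_
    rw [← hk, Scheme.Hom.comp_apply, Scheme.Hom.comp_apply, hxy]
  haveI : Surjective k := ⟨fun y => by
    obtain ⟨z, hz, -⟩ := Scheme.exists_preimage_of_isPullback sqRl y.1 (Classical.arbitrary _)
      (y.2.trans (resι_apply u _).symm)
    refine ⟨z, Subtype.ext ?_⟩
    exact ((Scheme.Hom.comp_apply k O.ι z).symm.trans (by rw [hk])).trans hz⟩
  haveI : QuasiCompact k := quasiCompact_of_finite k
  haveI : DiscreteTopology ↥O.toScheme := O.ι.isOpenEmbedding.isEmbedding.discreteTopology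
  haveI : IsReduced O.toScheme := isReduced_of_isOpenImmersion O.ι
  haveI : IsIso k := isIso_of_mono_surjective_discrete k
  haveI : IsOpenImmersion r₀.left := hk ▸ inferInstance
  have sqRX : IsPullback ((yon S).map s₀) ((yon S).map (r₀ ≫ e₁))
      ((yon S).map (resι u) ≫ φ) ((yon S).map (resι u) ≫ φ) := by
    rw [Functor.map_comp]
    exact (sqR₀.flip.map (yon S)).paste_vert sqE
  haveI : Etale (r₀ ≫ e₁).left := inferInstanceAs (Etale (r₀.left ≫ e₁.left))
  haveI : QuasiCompact (r₀ ≫ e₁).left := quasiCompact_of_finite _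
  obtain ⟨p, hp, hm⟩ := exists_mono_of_rel hX (Classical.arbitrary (resPt u).left) sqRX
  exact ⟨p, hp.trans (by rw [ofPt_yon_comp, resι_apply]), hm⟩

/-- Finiteness of the relations between two points of a chart transfers to finiteness of self-relations. -/
theorem finite_diag_of_finite_pair {X : Sp S} {U : Over S} {φ : (yon S).obj U ⟶ X}
    (hφ : RepWith @Etale φ) {u u' : U.left} (he : Points.ofPt φ u = Points.ofPt φ u') {R : Over S}
    {s t : R ⟶ U} (sqR : IsPullback ((yon S).map t) ((yon S).map s) φ φ)
    (hfin : {r : R.left | s.left r = u ∧ t.left r = u'}.Finite) :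
    {r : R.left | s.left r = u ∧ t.left r = u}.Finite := by
  obtain ⟨r₀, h₀t, h₀s⟩ := (ofPt_eq_ofPt_iff sqR u' u).1 he.symm
  subst h₀t h₀s
  haveI : Etale t.left := etale_left (repWith_of_isPullback sqR.flip hφ)
  haveI : Etale s.left := etale_left (repWith_of_isPullback sqR hφ)
  let l : resPt r₀ ⟶ R := resι r₀
  let ρ : resPt r₀ ⟶ resPt (t.left r₀) := Over.homMk (Spec.map (t.left.residueFieldMap r₀)) (by
    change Spec.map _ ≫ U.left.fromSpecResidueField _ ≫ U.hom = R.left.fromSpecResidueField r₀ ≫ R.hom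
    rw [Scheme.Hom.SpecMap_residueFieldMap_fromSpecResidueField_assoc, Over.w t])
  have hρ : ρ ≫ resι (t.left r₀) = l ≫ t :=
    Over.OverMorphism.ext (t.left.SpecMap_residueFieldMap_fromSpecResidueField r₀)
  -- points related to `u'`, and their pullback to the field of `r₀`
  let E := pullback t (resι (t.left r₀))
  let eR : E ⟶ R := pullback.fst t (resι (t.left r₀))
  let e₁ : E ⟶ resPt (t.left r₀) := pullback.snd t (resι (t.left r₀))
  haveI : IsPreimmersion eR.left :=
    MorphismProperty.of_isPullback (P := @IsPreimmersion) (left_isPullback t (resι (t.left r₀))).flip inferInstance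
  haveI : Etale e₁.left := MorphismProperty.of_isPullback (P := @Etale) (left_isPullback t (resι (t.left r₀))) ‹_›
  haveI : DiscreteTopology E.left := discrete_of_etale e₁.left
  let V := pullback e₁ ρ
  let vE : V ⟶ E := pullback.fst e₁ ρ
  let vL : V ⟶ resPt r₀ := pullback.snd e₁ ρ
  haveI : Etale vL.left := MorphismProperty.of_isPullback (P := @Etale) (left_isPullback e₁ ρ) ‹_›
  haveI : DiscreteTopology V.left := discrete_of_etale vL.left
  haveI : QuasiCompact ρ.left := quasiCompact_of_finite _
  haveI : QuasiCompact vE.left :=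
    MorphismProperty.of_isPullback (P := @QuasiCompact) (left_isPullback e₁ ρ).flip ‹_›
  have hEfin : {e : E.left | s.left (eR.left e) = s.left r₀}.Finite := by
    refine (hfin.preimage eR.left.isEmbedding.injective.injOn).subset fun e he => ⟨he, ?_⟩
    rw [← over_comp_apply, pullback.condition, over_comp_apply, resι_apply]
  have hVfin : (vE.left ⁻¹' {e : E.left | s.left (eR.left e) = s.left r₀}).Finite :=
    (QuasiCompact.isCompact_preimage (f := vE.left) _ (isOpen_discrete _) hEfin.isCompact).finite (isDiscrete_iff_discreteTopology.2 inferInstance)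
  have hv : (vE ≫ eR) ≫ t = vL ≫ l ≫ t := by
    rw [Category.assoc, pullback.condition, pullback.condition_assoc, hρ]
  have hV : (yon S).map ((vE ≫ eR) ≫ s) ≫ φ = (yon S).map (vL ≫ l ≫ s) ≫ φ := by
    rw [Functor.map_comp, Category.assoc, ← sqR.w, ← Functor.map_comp_assoc, hv, ← Category.assoc vL,
      Functor.map_comp, Category.assoc, sqR.w, ← Functor.map_comp_assoc, Category.assoc]
  obtain ⟨G, hGt, hGs⟩ := kp_lift sqR _ _ hV
  refine (hVfin.image G.left).subset fun r ⟨hrs, hrt⟩ => ?_
  obtain ⟨w, hwR, -⟩ := Scheme.exists_preimage_of_isPullback (left_isPullback s (l ≫ s)) r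
    (Classical.arbitrary (resPt r₀).left) (by rw [over_comp_apply, resι_apply]; exact hrs)
  let wR := pullback.fst s (l ≫ s)
  let wL := pullback.snd s (l ≫ s)
  have hw : wR ≫ s = wL ≫ l ≫ s := pullback.condition
  obtain ⟨Hr, hHt, hHs⟩ := kp_lift sqR ((wL ≫ l) ≫ t) (wR ≫ t) (by
    calc (yon S).map ((wL ≫ l) ≫ t) ≫ φ = (yon S).map ((wL ≫ l) ≫ s) ≫ φ := by
          rw [Functor.map_comp, Category.assoc, sqR.w, ← Functor.map_comp_assoc]
      _ = (yon S).map (wR ≫ s) ≫ φ := by rw [hw, Category.assoc]
      _ = (yon S).map (wR ≫ t) ≫ φ := by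
          rw [Functor.map_comp, Category.assoc, ← sqR.w, ← Functor.map_comp_assoc])
  let He : pullback s (l ≫ s) ⟶ E := pullback.lift Hr (wL ≫ ρ) (by rw [hHt, Category.assoc, Category.assoc, hρ])
  let H : pullback s (l ≫ s) ⟶ V := pullback.lift He wL (pullback.lift_snd _ _ _)
  have hHR : H ≫ vE ≫ eR = Hr := by
    change pullback.lift He wL _ ≫ pullback.fst e₁ ρ ≫ pullback.fst _ _ = Hr
    rw [pullback.lift_fst_assoc, pullback.lift_fst]
  have hGH : H ≫ G = wR := by
    apply (yon S).map_injective
    refine sqR.hom_ext ?_ ?_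
    · rw [← Functor.map_comp, ← Functor.map_comp]
      refine congrArg _ ?_
      rw [Category.assoc, hGt, ← Category.assoc, hHR, hHs]
    · rw [← Functor.map_comp, ← Functor.map_comp]
      refine congrArg _ ?_
      rw [Category.assoc, hGs, ← Category.assoc, pullback.lift_snd, ← pullback.condition]
  refine ⟨H.left w, ?_, ?_⟩
  · change s.left (eR.left (vE.left (H.left w))) = s.left r₀
    rw [← over_comp_apply vE, ← over_comp_apply H, hHR, ← over_comp_apply Hr, hHs, over_comp_apply, hwR, hrt]
  · rw [← over_comp_apply, hGH, hwR]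

/-- Over a monic point, a locally quasi-finite chart has finitely many points over a given one in each
pullback to another representative. -/
theorem finite_points_over_mono {X : Sp S} (hX : IsAlgSpace X) {p q : FieldPt X} (hm : Mono p.toHom)
    (hpq : Points.mk p = Points.mk q) {U : Over S} {φ : (yon S).obj U ⟶ X} (u : U.left) {F : Over S}
    {fU : F ⟶ U} {fK : F ⟶ p.pt} (sqF : IsPullback ((yon S).map fU) ((yon S).map fK) φ p.toHom)
    {W : Over S} {wU : W ⟶ U} {wK : W ⟶ q.pt}
    (sq : IsPullback ((yon S).map wU) ((yon S).map wK) φ q.toHom) (O : F.left.Opens)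
    (hO : fU.left ⁻¹' {u} ⊆ O) [LocallyQuasiFinite (O.ι ≫ fK.left)] :
    {w : W.left | wU.left w = u}.Finite := by
  haveI := hm
  obtain ⟨c, hc, -⟩ := existsUnique_factor_of_mono hX p q hpq
  obtain ⟨H, hH⟩ := (yon S).map_surjective (sqF.lift ((yon S).map wU) ((yon S).map (wK ≫ c)) (by
    rw [sq.w, Functor.map_comp, Category.assoc, hc]))
  have hHU : H ≫ fU = wU := (yon S).map_injective (by rw [Functor.map_comp, hH, sqF.lift_fst])
  have hHK : H ≫ fK = wK ≫ c := (yon S).map_injective (by rw [Functor.map_comp, hH, sqF.lift_snd])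
  have sqH : IsPullback ((yon S).map H) ((yon S).map wK) ((yon S).map fK) ((yon S).map c) := by
    refine IsPullback.of_right ?_ (by rw [← Functor.map_comp, ← Functor.map_comp, hHK]) sqF
    rw [← Functor.map_comp, hHU, hc]
    exact sq
  haveI : Mono ((yon S).map fU) :=
    MorphismProperty.of_isPullback (P := MorphismProperty.monomorphisms _) sqF.flip hm
  haveI : Mono fU.left := mono_left_of_mono
  have e : {w : W.left | wU.left w = u} = H.left ⁻¹' (fU.left ⁻¹' {u}) := by
    ext w
    rw [Set.mem_preimage, Set.mem_preimage, ← over_comp_apply, hHU]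
    rfl
  rw [e]
  obtain hemp | ⟨f, hf⟩ := (fU.left ⁻¹' {u}).eq_empty_or_nonempty
  · rw [hemp, Set.preimage_empty]; exact Set.finite_empty
  have hsingle : fU.left ⁻¹' {u} = {f} :=
    Set.eq_singleton_iff_unique_mem.2 ⟨hf, fun g hg => fU.left.injective (hg.trans hf.symm)⟩
  have sqO := (isPullback_morphismRestrict H.left O).paste_vert (isPullback_left sqH)
  haveI : LocallyQuasiFinite ((H.left ⁻¹ᵁ O).ι ≫ wK.left) :=
    MorphismProperty.of_isPullback (P := @LocallyQuasiFinite) sqO ‹_›
  haveI : IsLocallyArtinian (H.left ⁻¹ᵁ O).toScheme :=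
    .of_locallyQuasiFinite ((H.left ⁻¹ᵁ O).ι ≫ wK.left)
  haveI : IsLocallyArtinian O.toScheme := .of_locallyQuasiFinite (O.ι ≫ fK.left)
  haveI : QuasiCompact c.left := quasiCompact_of_finite _
  haveI : QuasiCompact (H.left ∣_ O) :=
    MorphismProperty.of_isPullback (P := @QuasiCompact) sqO.flip ‹_›
  have hfin : ((H.left ∣_ O) ⁻¹' {⟨f, hO hf⟩}).Finite :=
    (QuasiCompact.isCompact_preimage (f := H.left ∣_ O) _ (isOpen_discrete _) isCompact_singleton).finite (isDiscrete_iff_discreteTopology.2 inferInstance)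
  refine (hfin.image (H.left ⁻¹ᵁ O).ι).subset fun w hw => ?_
  rw [hsingle] at hw
  refine ⟨⟨w, show H.left w ∈ O from (show H.left w = f from hw) ▸ hO hf⟩, Subtype.ext ?_, rfl⟩
  rw [morphismRestrict_base_coe]
  exact hw

end MonoPtLib
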