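import Groth.Agent.MonoPtLib.Basic

/-!
# Fibres over quasi-compact monomorphisms from fields
-/

set_option autoImplicit false
set_option backward.isDefEq.respectTransparency false
set_option backward.isDefEq.respectTransparency.types false

universe u

open CategoryTheory CategoryTheory.Limits AlgebraicGeometry Opposite AlgSp Topology AlgSpLib

namespace MonoPtLib

variable {S : Scheme.{u}}

/-- A monomorphism out of a reduced discrete scheme is surjective on stalks. -/
lemma surjectiveOnStalks_of_mono_discrete {F V : Scheme.{u}} (g : F ⟶ V) [Mono g] [DiscreteTopology F]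
    [IsReduced F] : SurjectiveOnStalks g where
  stalkMap_surjective x := by
    let r := Spec.map (g.residueFieldMap x)
    have hr : r ≫ V.fromSpecResidueField (g x) = F.fromSpecResidueField x ≫ g :=
      g.SpecMap_residueFieldMap_fromSpecResidueField x
    haveI : Mono (F.fromSpecResidueField x ≫ g) := mono_comp _ _
    haveI : Mono r := mono_of_mono_fac hr
    haveI : Subsingleton (Spec (V.residueField (g x))) :=
      inferInstanceAs (Subsingleton (PrimeSpectrum (V.residueField (g x))))
    haveI : Surjective r := ⟨fun y => ⟨IsLocalRing.closedPoint (F.residueField x), Subsingleton.elim _ _⟩⟩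
    haveI : Finite (Spec (F.residueField x)) := inferInstanceAs (Finite (PrimeSpectrum (F.residueField x)))
    haveI : QuasiCompact r := quasiCompact_of_finite r
    haveI : IsIso r := isIso_of_mono_surjective_discrete r
    have hbij : Function.Bijective (g.residueFieldMap x).hom := isIso_SpecMap_iff.1 (inferInstanceAs (IsIso r))
    have hcomp : closure {x} ∈ irreducibleComponents F := by
      rw [(isClosed_discrete {x}).closure_eq]
      exact ⟨isIrreducible_singleton, fun s hs hxs => fun y hy => by
        have hx : x ∈ s := hxs rfl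
        by_contra hne
        obtain ⟨z, -, h1, h2⟩ := hs.2 {x} {y} (isOpen_discrete _) (isOpen_discrete _) ⟨x, hx, rfl⟩ ⟨y, hy, rfl⟩
        exact hne (h2.symm.trans h1)⟩
    have hfld := isField_stalk_of_closure_mem_irreducibleComponents F x hcomp
    letI := hfld.toField
    have hinj : Function.Injective (F.residue x) := (F.residue x).hom.injective
    intro s
    obtain ⟨t, ht⟩ := hbij.2 (F.residue x s)
    obtain ⟨t', rfl⟩ := V.residue_surjective (g x) t
    refine ⟨t', hinj ?_⟩
    rw [← ht, ← CommRingCat.comp_apply, ← CommRingCat.comp_apply, Scheme.residue_residueFieldMap]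

/-- The fibre of an etale chart over a quasi-compact monic point is preimmersed. -/
theorem isPreimmersion_fibre {Y : Sp S} (hY : IsAlgSpace Y) {r : FieldPt Y} (hm : Mono r.toHom)
    (hq : RepWith @QuasiCompact r.toHom) {V F : Over S} {b : (yon S).obj V ⟶ Y} (hb : RepWith @Etale b)
    {fV : F ⟶ V} {fK : F ⟶ r.pt} (sq : IsPullback ((yon S).map fV) ((yon S).map fK) b r.toHom) :
    IsPreimmersion fV.left := by
  haveI : Mono ((yon S).map fV) :=
    MorphismProperty.of_isPullback (P := MorphismProperty.monomorphisms _) sq.flip hm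
  haveI : Mono fV.left := mono_left_of_mono
  haveI : Etale fK.left := etale_left (repWith_of_isPullback sq hb)
  haveI : DiscreteTopology F.left := discrete_of_etale fK.left
  haveI : IsReduced F.left := isReduced_of_smooth fK.left
  haveI : QuasiCompact fV.left :=
    (repWith_yon_map_iff (P := (@QuasiCompact : MorphismProperty Scheme.{u})) fV).1
      (repWith_of_isPullback sq.flip hq)
  haveI := surjectiveOnStalks_of_mono_discrete fV.left
  have hinj : Function.Injective fV.left := fV.left.injective
  have hrange := preimage_mk_eq_range sq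
  have key : ∀ f : F.left, ∃ W : Set V.left, IsOpen W ∧ fV.left ⁻¹' W = {f} := fun f => by
    obtain ⟨O, hO, hfO, -⟩ := exists_isAffineOpen_mem_and_subset (U := ⊤) (x := fV.left f) trivial
    have hfin : (fV.left ⁻¹' (O : Set V.left)).Finite :=
      (QuasiCompact.isCompact_preimage (f := fV.left) _ O.isOpen hO.isCompact).finite
        (isDiscrete_iff_discreteTopology.2 inferInstance)
    refine ⟨(O : Set V.left) \ closure (fV.left '' (fV.left ⁻¹' O \ {f})), O.isOpen.sdiff isClosed_closure, ?_⟩
    ext f'
    simp only [Set.mem_preimage, Set.mem_sdiff, Set.mem_singleton_iff]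
    refine ⟨fun ⟨h1, h2⟩ => by_contra fun hne => h2 (subset_closure ⟨f', ⟨h1, hne⟩, rfl⟩), ?_⟩
    rintro rfl
    refine ⟨hfO, fun hcl => ?_⟩
    rw [← Set.biUnion_of_singleton (fV.left '' _), ((hfin.sdiff).image _).closure_biUnion] at hcl
    obtain ⟨w, ⟨f'', ⟨-, hne⟩, rfl⟩, hw⟩ := Set.mem_iUnion₂.1 hcl
    have hmem : ∀ g, Points.ofPt b (fV.left g) = Points.mk r := fun g => by
      have : fV.left g ∈ Points.ofPt b ⁻¹' {Points.mk r} := hrange ▸ Set.mem_range_self g
      exact this
    exact hne (hinj (eq_of_specializes_of_finite hY (fun W c hW hc => by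
      haveI := hW
      exact finite_fibre_of_qc_point hq hc) hb (hmem f') (hmem f'') (specializes_iff_mem_closure.2 hw)).symm)
  refine { isEmbedding := ⟨⟨?_⟩, hinj⟩ }
  refine le_antisymm fV.left.continuous.le_induced fun s _ => ?_
  rw [isOpen_induced_iff]
  choose W hW hWf using key
  refine ⟨⋃ f ∈ s, W f, isOpen_biUnion fun f _ => hW f, ?_⟩
  rw [Set.preimage_iUnion₂]
  simp only [hWf, Set.biUnion_of_singleton]

/-- Points inject along monomorphisms. -/
theorem injective_map_of_mono {F G : Sp S} (f : F ⟶ G) [Mono f] : Function.Injective (Points.map f) :=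
  fun x y h => by
    obtain ⟨w, rfl, rfl⟩ := exists_point_isPullback (IsPullback.of_hasPullback f f) x y h
    rw [fst_eq_snd_of_mono_eq f]

lemma range_map_toHom {F : Sp S} (r : FieldPt F) : Set.range (Points.map r.toHom) = {Points.mk r} := by
  rw [← range_ofPt]
  ext x
  exact ⟨fun ⟨t, ht⟩ => ht.symm.trans (Points.ofPt_toHom r t),
    fun hx => ⟨IsLocalRing.closedPoint r.K, (Points.ofPt_toHom r _).trans hx.symm⟩⟩

/-- The points of the fibre over a quasi-compact monic point embed. -/
theorem isEmbedding_fibre {X Y Xk : Sp S} (hX : IsAlgSpace X) (hY : IsAlgSpace Y) {f : X ⟶ Y} {r : FieldPt Y}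
    (hm : Mono r.toHom) (hq : RepWith @QuasiCompact r.toHom) {fst : Xk ⟶ X} {snd : Xk ⟶ (yon S).obj r.pt}
    (hsq : IsPullback fst snd f r.toHom) : IsEmbedding (Points.map fst) := by
  haveI : Mono fst := MorphismProperty.of_isPullback (P := MorphismProperty.monomorphisms _) hsq.flip hm
  refine ⟨⟨?_⟩, injective_map_of_mono fst⟩
  refine le_antisymm (Points.continuous_map fst).le_induced fun T hT => ?_
  obtain ⟨V, b, hb, hbs⟩ := hY.atlas
  obtain ⟨U, a, h, ha, has, hab⟩ := exists_chart_over hX hY f b hb hbs
  obtain ⟨W, g, wk, sqW⟩ := exists_isPullback_yon (a ≫ f) r.toHom (hY.representable_from_yon _)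
  obtain ⟨F, fV, fK, sqF⟩ := exists_isPullback_yon b r.toHom hb.rep
  haveI := isPreimmersion_fibre hY hm hq hb sqF
  obtain ⟨H, hH⟩ := (yon S).map_surjective (sqF.lift ((yon S).map (g ≫ h)) ((yon S).map wk) (by
    rw [Functor.map_comp, Category.assoc, ← hab, sqW.w]))
  have hHV : H ≫ fV = g ≫ h := (yon S).map_injective (by rw [Functor.map_comp, hH, sqF.lift_fst])
  have hHK : H ≫ fK = wk := (yon S).map_injective (by rw [Functor.map_comp, hH, sqF.lift_snd])
  have sqH : IsPullback ((yon S).map g) ((yon S).map H) ((yon S).map h) ((yon S).map fV) := by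
    refine (IsPullback.of_right ?_ (by rw [← Functor.map_comp, ← Functor.map_comp, hHV]) sqF.flip).flip
    rw [← Functor.map_comp, hHK, ← hab]
    exact sqW.flip
  haveI : IsPreimmersion g.left :=
    MorphismProperty.of_isPullback (P := @IsPreimmersion) (isPullback_left sqH).flip inferInstance
  let e := hsq.lift ((yon S).map g ≫ a) ((yon S).map wk) (by rw [Category.assoc, sqW.w])
  have sqe : IsPullback ((yon S).map g) e a fst :=
    IsPullback.of_bot (by rw [hsq.lift_snd]; exact sqW) (hsq.lift_fst _ _ _).symm hsq
  obtain ⟨V', hV', hV'T⟩ := g.left.isEmbedding.isInducing.isOpen_iff.1 (hT.preimage (Points.continuous_ofPt e))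
  rw [isOpen_induced_iff]
  refine ⟨Points.ofPt a '' V', isOpenMap_ofPt ha _ hV', ?_⟩
  have key : ∀ x v, Points.ofPt a v = Points.map fst x → ∃ w, g.left w = v ∧ Points.ofPt e w = x := by
    intro x v hxv
    obtain ⟨w', hw1, hw2⟩ := exists_point_isPullback sqe (Points.schemeHomeo U v) x
      ((congrFun (ofPt_comp_ofScheme a) v).symm.trans hxv)
    obtain ⟨w, rfl⟩ := (Points.schemeHomeo W).surjective w'
    rw [Points.map_yon_map_apply] at hw1
    exact ⟨w, (Points.schemeHomeo U).injective hw1, (congrFun (ofPt_comp_ofScheme e) w).trans hw2⟩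
  ext x
  constructor
  · rintro ⟨v, hv, hvx⟩
    obtain ⟨w, rfl, rfl⟩ := key x v hvx
    have : w ∈ Points.ofPt e ⁻¹' T := hV'T ▸ hv
    exact this
  · intro hx
    obtain ⟨v, hv⟩ := surjective_ofPt has (Points.map fst x)
    obtain ⟨w, rfl, rfl⟩ := key x v hv
    have : w ∈ g.left ⁻¹' V' := hV'T.symm ▸ hx
    exact ⟨_, this, hv⟩

end MonoPtLib
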