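import Groth.Agent.AlgSpLib.MorPack
import Mathlib.AlgebraicGeometry.AffineTransitionLimit
import Mathlib.CategoryTheory.Filtered.Final
import Mathlib.CategoryTheory.Limits.Connected
import Mathlib.CategoryTheory.Limits.Constructions.Over.Connected
/-!
# Limits of morphisms with affine fibres of cofiltered systems of sheaves

If `τ : D ⟶ E` is a morphism of cofiltered systems of sheaves which is levelwise affine, then the
morphism of limits is affine, and over an affine scheme `Z` its pullback is the limit of the levelwise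
pullbacks.
-/

set_option autoImplicit false
set_option backward.isDefEq.respectTransparency false
set_option backward.isDefEq.respectTransparency.types false
universe u
open CategoryTheory CategoryTheory.Limits AlgebraicGeometry AlgSp

namespace Groth.Agent.MonoPtLib

variable {S : Scheme.{u}} {J : Type u} [SmallCategory J] [IsCofiltered J]

/-- A cofiltered diagram of schemes over `S` which are affine has an affine limit. -/
theorem exists_limit_affine (W : J ⥤ Over S) (hW : ∀ j, IsAffine (W.obj j).left) :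
    ∃ (c : Cone W), Nonempty (IsLimit c) ∧ IsAffine c.pt.left := by
  haveI : IsConnected J := IsCofiltered.isConnected J
  let V := W ⋙ Over.forget S
  haveI : ∀ j, IsAffine (V.obj j) := hW
  let e : (V ⋙ Scheme.Γ.rightOp) ⋙ Scheme.Spec ≅ V :=
    NatIso.ofComponents (fun j => (V.obj j).isoSpec.symm) (fun f => by
      simp only [Functor.comp_map, Iso.symm_hom]
      exact Scheme.isoSpec_inv_naturality _)
  let l := limit.cone (V ⋙ Scheme.Γ.rightOp)
  let m : Cone V := (Cone.postcompose e.hom).obj (Scheme.Spec.mapCone l)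
  have hm : IsLimit m := (IsLimit.postcomposeHomEquiv e _).symm
    (isLimitOfPreserves Scheme.Spec (limit.isLimit _))
  refine ⟨liftLimit (K := W) (F := Over.forget S) hm, ⟨liftedLimitIsLimit hm⟩, ?_⟩
  have : IsAffine m.pt := inferInstanceAs (IsAffine (Scheme.Spec.obj l.pt))
  haveI : IsAffine ((Cone.forget (W ⋙ Over.forget S)).obj m) := this
  exact IsAffine.of_isIso ((Cone.forget _).mapIso (liftedLimitMapsToOriginal (K := W) hm)).hom

theorem scheme_isLimit {W : J ⥤ Over S} {c : Cone W} (hc : IsLimit c) :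
    Nonempty (IsLimit ((Over.forget S).mapCone c)) :=
  haveI : IsConnected J := IsCofiltered.isConnected J
  ⟨isLimitOfPreserves (Over.forget S) hc⟩

/-- The pullback of a limit of affine morphisms to an affine scheme is the limit of the pullbacks
(with the compatibility of the transition maps). -/
theorem exists_pullback_limit' {D E : J ⥤ Sp S} (τ : D ⟶ E) (hτ : ∀ j, IsAffineMor (τ.app j))
    {cD : Cone D} (hcD : IsLimit cD) {cE : Cone E} (hcE : IsLimit cE) (f : cD.pt ⟶ cE.pt)
    (hf : ∀ j, f ≫ cE.π.app j = cD.π.app j ≫ τ.app j)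
    {Z : Over S} (hZ : IsAffine Z.left) (g : (yon S).obj Z ⟶ cE.pt) :
    ∃ (W : J ⥤ Over S) (cW : Cone W) (i : cW.pt ⟶ Z) (fst : (yon S).obj cW.pt ⟶ cD.pt)
      (p : ∀ j, W.obj j ⟶ Z) (q : ∀ j, (yon S).obj (W.obj j) ⟶ D.obj j),
      Nonempty (IsLimit cW) ∧ IsAffine cW.pt.left ∧ (∀ j, IsAffine (W.obj j).left) ∧
      (∀ j, IsPullback (q j) ((yon S).map (p j)) (τ.app j) (g ≫ cE.π.app j)) ∧
      (∀ j, cW.π.app j ≫ p j = i) ∧
      (∀ j, fst ≫ cD.π.app j = (yon S).map (cW.π.app j) ≫ q j) ∧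
      (∀ {j k : J} (φ : j ⟶ k), W.map φ ≫ p k = p j ∧
        (yon S).map (W.map φ) ≫ q k = q j ≫ D.map φ) ∧
      IsPullback fst ((yon S).map i) f g := by
  choose W₀ p q sq hW₀ using fun j => hτ j hZ (g ≫ cE.π.app j)
  have hcomm : ∀ {j k : J} (φ : j ⟶ k),
      (q j ≫ D.map φ) ≫ τ.app k = (yon S).map (p j) ≫ g ≫ cE.π.app k := fun {j k} φ => by
    rw [Category.assoc, τ.naturality, (sq j).w_assoc, Category.assoc, cE.w φ]
  let m : ∀ {j k : J} (φ : j ⟶ k), W₀ j ⟶ W₀ k := fun φ =>
    (yon S).preimage ((sq _).lift (q _ ≫ D.map φ) ((yon S).map (p _)) (hcomm φ))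
  have hm : ∀ {j k : J} (φ : j ⟶ k), (yon S).map (m φ) =
      (sq k).lift (q j ≫ D.map φ) ((yon S).map (p j)) (hcomm φ) := fun φ => (yon S).map_preimage _
  have hm1 : ∀ {j k : J} (φ : j ⟶ k), (yon S).map (m φ) ≫ q k = q j ≫ D.map φ := fun φ => by
    rw [hm, IsPullback.lift_fst]
  have hm2 : ∀ {j k : J} (φ : j ⟶ k), m φ ≫ p k = p j := fun φ => (yon S).map_injective (by
    rw [Functor.map_comp, hm, IsPullback.lift_snd])
  have hext : ∀ {A : Over S} {j : J} (a b : A ⟶ W₀ j), (yon S).map a ≫ q j = (yon S).map b ≫ q j →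
      a ≫ p j = b ≫ p j → a = b := fun a b h1 h2 => (yon S).map_injective
    ((sq _).hom_ext h1 (by rw [← Functor.map_comp, ← Functor.map_comp, h2]))
  let W : J ⥤ Over S :=
    { obj := W₀
      map := fun φ => m φ
      map_id := fun j => hext _ _ (by rw [hm1, D.map_id, Category.comp_id, CategoryTheory.Functor.map_id,
        Category.id_comp]) (by rw [hm2, Category.id_comp])
      map_comp := fun φ ψ => hext _ _ (by
        rw [hm1, D.map_comp, Functor.map_comp, Category.assoc, hm1, reassoc_of% hm1 φ])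
        (by rw [hm2, Category.assoc, hm2, hm2]) }
  obtain ⟨cW, ⟨hcW⟩, haff⟩ := exists_limit_affine W hW₀
  obtain ⟨j₀⟩ := (IsCofiltered.nonempty : Nonempty J)
  let i : cW.pt ⟶ Z := cW.π.app j₀ ≫ p j₀
  have hi : ∀ j, cW.π.app j ≫ p j = i := fun j => by
    have h : ∀ {k l : J} (φ : k ⟶ l), cW.π.app l ≫ p l = cW.π.app k ≫ p k := fun {k l} φ => by
      rw [← cW.w φ, Category.assoc]
      exact congrArg _ (hm2 φ)
    rw [h (IsCofiltered.minToLeft j j₀), ← h (IsCofiltered.minToRight j j₀)]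
  let cq : Cone D :=
    { pt := (yon S).obj cW.pt
      π :=
        { app := fun j => (yon S).map (cW.π.app j) ≫ q j
          naturality := fun j k φ => by
            dsimp
            rw [Category.id_comp, Category.assoc, ← hm1 φ, ← Functor.map_comp_assoc]
            exact congrArg (fun t => (yon S).map t ≫ q k) (cW.w φ).symm } }
  have hfst : ∀ j, hcD.lift cq ≫ cD.π.app j = (yon S).map (cW.π.app j) ≫ q j := fun j =>
    hcD.fac cq j
  have hY : IsLimit ((yon S).mapCone cW) := isLimitOfPreserves (yon S) hcW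
  have w : hcD.lift cq ≫ f = (yon S).map i ≫ g := hcE.hom_ext fun j => by
    rw [Category.assoc, hf, ← Category.assoc, hfst, Category.assoc, (sq j).w, ← Functor.map_comp_assoc,
      hi, Category.assoc]
  refine ⟨W, cW, i, hcD.lift cq, p, q, ⟨hcW⟩, haff, hW₀, sq, hi, hfst, fun φ => ⟨hm2 φ, hm1 φ⟩,
    ⟨⟨w⟩, ⟨PullbackCone.IsLimit.mk _ (fun s => hY.lift
      { pt := s.pt
        π :=
          { app := fun j => (sq j).lift (s.fst ≫ cD.π.app j) s.snd (by
              rw [Category.assoc, ← hf, s.condition_assoc])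
            naturality := fun j k φ => (sq k).hom_ext ?_ ?_ } }) ?_ ?_ ?_⟩⟩⟩
  · dsimp
    rw [Category.id_comp, IsPullback.lift_fst, Category.assoc]
    erw [hm1 φ]
    rw [IsPullback.lift_fst_assoc, Category.assoc, cD.w φ]
  · dsimp
    rw [Category.id_comp, IsPullback.lift_snd, Category.assoc, ← Functor.map_comp]
    erw [hm2 φ]
    rw [IsPullback.lift_snd]
  · intro s
    refine hcD.hom_ext fun j => ?_
    rw [Category.assoc, hfst]
    erw [hY.fac_assoc]
    exact IsPullback.lift_fst _ _ _ _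
  · intro s
    rw [← hi j₀, Functor.map_comp]
    erw [hY.fac_assoc]
    exact IsPullback.lift_snd _ _ _ _
  · intro s t h1 h2
    refine hY.hom_ext fun j => ?_
    rw [hY.fac]
    refine (sq j).hom_ext ?_ ?_
    · rw [IsPullback.lift_fst]
      change (t ≫ (yon S).map (cW.π.app j)) ≫ q j = _
      rw [Category.assoc, ← hfst, ← Category.assoc, h1]
    · rw [IsPullback.lift_snd]
      change (t ≫ (yon S).map (cW.π.app j)) ≫ (yon S).map (p j) = _
      rw [Category.assoc, ← Functor.map_comp, hi, h2]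

/-- The pullback of a limit of affine morphisms to an affine scheme is the limit of the pullbacks. -/
theorem exists_pullback_limit {D E : J ⥤ Sp S} (τ : D ⟶ E) (hτ : ∀ j, IsAffineMor (τ.app j))
    {cD : Cone D} (hcD : IsLimit cD) {cE : Cone E} (hcE : IsLimit cE) (f : cD.pt ⟶ cE.pt)
    (hf : ∀ j, f ≫ cE.π.app j = cD.π.app j ≫ τ.app j)
    {Z : Over S} (hZ : IsAffine Z.left) (g : (yon S).obj Z ⟶ cE.pt) :
    ∃ (W : J ⥤ Over S) (cW : Cone W) (i : cW.pt ⟶ Z) (fst : (yon S).obj cW.pt ⟶ cD.pt)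
      (p : ∀ j, W.obj j ⟶ Z) (q : ∀ j, (yon S).obj (W.obj j) ⟶ D.obj j),
      Nonempty (IsLimit cW) ∧ IsAffine cW.pt.left ∧ (∀ j, IsAffine (W.obj j).left) ∧
      (∀ j, IsPullback (q j) ((yon S).map (p j)) (τ.app j) (g ≫ cE.π.app j)) ∧
      (∀ j, cW.π.app j ≫ p j = i) ∧
      (∀ j, fst ≫ cD.π.app j = (yon S).map (cW.π.app j) ≫ q j) ∧
      IsPullback fst ((yon S).map i) f g := by
  obtain ⟨W, cW, i, fst, p, q, h1, h2, h3, h4, h5, h6, -, h8⟩ :=
    exists_pullback_limit' τ hτ hcD hcE f hf hZ g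
  exact ⟨W, cW, i, fst, p, q, h1, h2, h3, h4, h5, h6, h8⟩

/-- A limit of levelwise affine morphisms is affine. -/
theorem isAffineMor_limit {D E : J ⥤ Sp S} (τ : D ⟶ E) (hτ : ∀ j, IsAffineMor (τ.app j))
    {cD : Cone D} (hcD : IsLimit cD) {cE : Cone E} (hcE : IsLimit cE) (f : cD.pt ⟶ cE.pt)
    (hf : ∀ j, f ≫ cE.π.app j = cD.π.app j ≫ τ.app j) : IsAffineMor f := by
  intro Z hZ g
  obtain ⟨W, cW, i, fst, p, q, -, haff, -, -, -, -, sq⟩ := exists_pullback_limit τ hτ hcD hcE f hf hZ g
  exact ⟨cW.pt, i, fst, sq, haff⟩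

/-- The system of an inverse system over one of its terms. -/
noncomputable def overNat {I : Type u} [SmallCategory I] (D : I ⥤ Sp S) (i₀ : I) :
    Over.forget i₀ ⋙ D ⟶ (Functor.const (Over i₀)).obj (D.obj i₀) where
  app k := D.map k.hom
  naturality k l φ := by
    dsimp
    rw [← D.map_comp, Over.w φ, Category.comp_id]

theorem limit_over_data {I : Type u} [SmallCategory I] [IsCofiltered I] (D : I ⥤ Sp S) {c : Cone D}
    (hc : IsLimit c) (i₀ : I) :
    Nonempty (IsLimit (c.whisker (Over.forget i₀))) ∧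
      Nonempty (IsLimit (constCone (Over i₀) (D.obj i₀))) ∧
      ∀ k : Over i₀, c.π.app i₀ ≫ (constCone (Over i₀) (D.obj i₀)).π.app k =
        (c.whisker (Over.forget i₀)).π.app k ≫ (overNat D i₀).app k := by
  haveI : IsConnected (Over i₀) := IsCofiltered.isConnected _
  refine ⟨⟨(Functor.Initial.isLimitWhiskerEquiv (Over.forget i₀) c).symm hc⟩,
    ⟨isLimitConstCone _ _⟩, fun k => ?_⟩
  change c.π.app i₀ ≫ 𝟙 _ = c.π.app k.left ≫ D.map k.hom
  rw [Category.comp_id, c.w]

/-- The projections of a limit with affine transition maps are affine. -/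
theorem isAffineMor_proj {I : Type u} [SmallCategory I] [IsCofiltered I] (D : I ⥤ Sp S)
    (hDa : ∀ (i j : I) (φ : i ⟶ j), IsAffineMor (D.map φ)) {c : Cone D} (hc : IsLimit c) (i₀ : I) :
    IsAffineMor (c.π.app i₀) := by
  obtain ⟨⟨h1⟩, ⟨h2⟩, h3⟩ := limit_over_data D hc i₀
  exact isAffineMor_limit (overNat D i₀) (fun k => hDa _ _ k.hom) h1 h2 (c.π.app i₀) h3

theorem isAlgSpace_limit {I : Type u} [SmallCategory I] [IsCofiltered I] (D : I ⥤ Sp S)
    (hD : ∀ i, IsAlgSpace (D.obj i)) (hDa : ∀ (i j : I) (φ : i ⟶ j), IsAffineMor (D.map φ))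
    {c : Cone D} (hc : IsLimit c) : IsAlgSpace c.pt := by
  obtain ⟨i₀⟩ := (IsCofiltered.nonempty : Nonempty I)
  exact AlgSpLib.isAlgSpace_of_representable (hD i₀) _
    (AlgSpLib.representable_of_affine (isAffineMor_proj D hDa hc i₀))

end Groth.Agent.MonoPtLib
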