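import Groth.Agent.MonoPtLib.LimAffineSpace
/-!
# Affine morphisms in affine limits of algebraic spaces
-/

set_option autoImplicit false
set_option backward.isDefEq.respectTransparency false
set_option backward.isDefEq.respectTransparency.types false
universe u
open CategoryTheory CategoryTheory.Limits AlgebraicGeometry AlgSp

namespace Groth.Agent.MonoPtLib

variable {S : Scheme.{u}}

/-- The base change of a cofiltered system and of its limit along a morphism to the common target. -/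
theorem exists_pullback_system {J : Type u} [SmallCategory J] [IsCofiltered J] {D : J ⥤ Sp S} {Y Z : Sp S}
    (t : D ⟶ (Functor.const J).obj Y) {c : Cone D} (hc : IsLimit c) (g : c.pt ⟶ Y)
    (hg : ∀ j, c.π.app j ≫ t.app j = g) (a : Z ⟶ Y) :
    ∃ (P : J ⥤ Sp S) (cP : Cone P) (_ : IsLimit cP) (u : ∀ j, P.obj j ⟶ D.obj j) (r : ∀ j, P.obj j ⟶ Z)
      (f : cP.pt ⟶ c.pt) (s : cP.pt ⟶ Z),
      (∀ j, IsPullback (u j) (r j) (t.app j) a) ∧ IsPullback f s g a ∧
      (∀ {i j : J} (φ : i ⟶ j), IsPullback (u i) (P.map φ) (D.map φ) (u j)) ∧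
      (∀ {i j : J} (φ : i ⟶ j), P.map φ ≫ r j = r i) ∧
      (∀ j, cP.π.app j ≫ r j = s) ∧ (∀ j, cP.π.app j ≫ u j = f ≫ c.π.app j) := by
  have nat : ∀ {i j : J} (φ : i ⟶ j), D.map φ ≫ t.app j = t.app i := fun φ => by
    simpa using t.naturality φ
  have sq : ∀ j, IsPullback (pullback.fst (t.app j) a) (pullback.snd (t.app j) a) (t.app j) a :=
    fun j => IsPullback.of_hasPullback _ _
  let P : J ⥤ Sp S :=
    { obj := fun j => pullback (t.app j) a
      map := fun {i j} φ => pullback.lift (pullback.fst _ _ ≫ D.map φ) (pullback.snd _ _) (by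
        rw [Category.assoc, nat φ]
        exact pullback.condition)
      map_id := fun j => by apply pullback.hom_ext <;> simp
      map_comp := fun φ ψ => by apply pullback.hom_ext <;> simp }
  let cP : Cone P :=
    { pt := pullback g a
      π :=
        { app := fun j => pullback.lift (pullback.fst _ _ ≫ c.π.app j) (pullback.snd _ _) (by
            rw [Category.assoc, hg]
            exact pullback.condition)
          naturality := fun i j φ => by
            dsimp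
            apply pullback.hom_ext <;> simp [P] } }
  obtain ⟨j₀⟩ := (IsCofiltered.nonempty : Nonempty J)
  let cD : Cone P → Cone D := fun s =>
    { pt := s.pt
      π :=
        { app := fun j => s.π.app j ≫ pullback.fst _ _
          naturality := fun i j φ => by
            dsimp
            rw [Category.id_comp, Category.assoc, ← pullback.lift_fst (pullback.fst (t.app i) a ≫ D.map φ)
              (pullback.snd _ _) (by rw [Category.assoc, nat φ]; exact pullback.condition),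
              ← s.w φ, Category.assoc] } }
  have hsnd : ∀ (s : Cone P) (j : J), s.π.app j ≫ pullback.snd _ _ = s.π.app j₀ ≫ pullback.snd _ _ := by
    intro s j
    have h : ∀ {k l : J} (φ : k ⟶ l), s.π.app l ≫ pullback.snd _ _ = s.π.app k ≫ pullback.snd _ _ :=
      fun {k l} φ => by
        rw [← s.w φ, Category.assoc]
        exact congrArg _ (pullback.lift_snd _ _ _)
    rw [h (IsCofiltered.minToLeft j j₀), ← h (IsCofiltered.minToRight j j₀)]
  have hcP : IsLimit cP :=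
    { lift := fun s => pullback.lift (hc.lift (cD s)) (s.π.app j₀ ≫ pullback.snd _ _) (by
        rw [← hg j₀, hc.fac_assoc]
        simp [cD, pullback.condition])
      fac := fun s j => by
        apply pullback.hom_ext
        · simp [cP, cD]
        · simp [cP, hsnd s j]
      uniq := fun s m hm => by
        apply pullback.hom_ext
        · refine hc.hom_ext fun j => ?_
          rw [pullback.lift_fst, hc.fac]
          simp [cD, cP, ← hm j]
        · rw [pullback.lift_snd, ← hm j₀]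
          simp [cP] }
  refine ⟨P, cP, hcP, fun j => pullback.fst _ _, fun j => pullback.snd _ _, pullback.fst _ _,
    pullback.snd _ _, sq, IsPullback.of_hasPullback _ _, fun {i j} φ => ?_, fun {i j} φ => pullback.lift_snd _ _ _,
    fun j => pullback.lift_snd _ _ _, fun j => pullback.lift_fst _ _ _⟩
  refine IsPullback.flip (IsPullback.of_right (h₁₂ := pullback.snd (t.app j) a) (h₂₂ := t.app j) ?_
    (pullback.lift_fst _ _ _) (sq j).flip)
  rw [nat φ]
  simp only [P, pullback.lift_snd]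
  exact (sq i).flip

/-- The base change of a chart square, for arbitrary sheaves. -/
theorem sp_baseChange {X₀ Y₀ B₀ X' Y' B' R V₀ V' R' : Sp S} {f₀ : X₀ ⟶ Y₀} {b₀ : Y₀ ⟶ B₀} {π : B' ⟶ B₀}
    {f' : X' ⟶ Y'} {pY : Y' ⟶ Y₀} {qY : Y' ⟶ B'} {pX : X' ⟶ X₀}
    (hY : IsPullback pY qY b₀ π) (hX : IsPullback pX f' f₀ pY) {a : V₀ ⟶ Y₀} {eR : R ⟶ X₀} {rR : R ⟶ V₀}
    (sq0 : IsPullback eR rR f₀ a) {pV : V' ⟶ V₀} {qV : V' ⟶ B'} (sqV : IsPullback qV pV π (a ≫ b₀))
    {pR : R' ⟶ R} {qR : R' ⟶ B'} (sqR : IsPullback qR pR π (rR ≫ a ≫ b₀)) :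
    ∃ (a' : V' ⟶ Y') (e' : R' ⟶ X') (r' : R' ⟶ V'), IsPullback a' pV pY a ∧ IsPullback e' r' f' a' ∧
      r' ≫ qV = qR := by
  let a' := hY.lift (pV ≫ a) qV ((Category.assoc _ _ _).trans sqV.w.symm)
  have ha : IsPullback a' pV pY a :=
    IsPullback.of_right (h₁₂ := qY) (h₂₂ := b₀) (by rw [hY.lift_snd]; exact sqV)
      (hY.lift_fst _ _ _) hY.flip
  let r' := sqV.lift qR (pR ≫ rR) (by rw [sqR.w, Category.assoc])
  have hr : IsPullback pR r' rR pV := by
    refine IsPullback.flip (IsPullback.of_right (h₁₂ := qV) (h₂₂ := a ≫ b₀) ?_ (sqV.lift_snd _ _ _) sqV)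
    rw [sqV.lift_fst]
    exact sqR
  have w : (pR ≫ eR) ≫ f₀ = (r' ≫ a') ≫ pY := by
    rw [Category.assoc, sq0.w, reassoc_of% hr.w, Category.assoc, ha.w]
  refine ⟨a', hX.lift (pR ≫ eR) (r' ≫ a') w, r', ha, ?_, sqV.lift_fst _ _ _⟩
  refine IsPullback.of_right (h₁₂ := pX) (h₂₂ := pY) ?_ (hX.lift_snd _ _ _) hX
  rw [hX.lift_fst, ha.w]
  exact hr.paste_horiz sq0

theorem isQuasiSeparatedSp_of_iso_yon [QuasiSeparatedSpace S] {F : Sp S} {V : Over S} [IsAffine V.left]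
    (e : (yon S).obj V ≅ F) : IsQuasiSeparatedSp F := by
  exact AlgSpLib.isQuasiSeparatedSp_of_isPullback
    (IsPullback.of_horiz_isIso (fst := e.inv) (snd := e.inv) (f := 𝟙 _) (g := 𝟙 _) ⟨by simp⟩)
    (isQuasiSeparatedSp_yon V) (isQuasiSeparatedSp_yon V) (isQuasiSeparatedSp_yon V)

/-- A morphism with affine pullback to an affine etale chart is affine. -/
theorem isAffineMor_of_chart {X Y P : Sp S} {V W : Over S} (hV : IsAffine V.left) (hW : IsAffine W.left)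
    (eW : (yon S).obj W ≅ P) {f : X ⟶ Y} {a : (yon S).obj V ⟶ Y} (ha : RepWith @Etale a)
    (has : RepWith @Surjective a) {e : P ⟶ X} {r : P ⟶ (yon S).obj V} (sq : IsPullback e r f a) :
    IsAffineMor f := by
  obtain ⟨w, hw⟩ := (yon S).map_surjective (eW.hom ≫ r)
  haveI := hV; haveI := hW
  have sq' : IsPullback (eW.hom ≫ e) ((yon S).map w) f a :=
    sq.of_iso eW.symm (Iso.refl _) (Iso.refl _) (Iso.refl _) (by simp) (by simp [hw]) (by simp) (by simp)
  exact AlgSpLib.isAffineMor_iff.2 (AlgSpLib.repWith_of_etale_cover le_rfl ha has sq'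
    ((repWith_yon_map_iff _ _).2 (inferInstanceAs (IsAffineHom w.left))))

variable [QuasiSeparatedSpace S] {I : Type u} [SmallCategory I] [IsCofiltered I]

/-- Eventual affineness over a fixed base. -/
theorem eventually_affine (Y : Sp S) (hY : IsAlgSpace Y) (D : I ⥤ Sp S) (hD : ∀ i, IsAlgSpace (D.obj i))
    (t : D ⟶ (Functor.const I).obj Y) (hDa : ∀ (i j : I) (φ : i ⟶ j), IsAffineMor (D.map φ))
    (c : Cone D) (hc : IsLimit c) (g : c.pt ⟶ Y) (hg : ∀ i, c.π.app i ≫ t.app i = g)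
    (hqc : ∀ i, IsQuasiCompactSp (D.obj i)) (hqs : ∀ i, IsQuasiSeparatedSp (D.obj i))
    (hYqc : IsQuasiCompactSp Y) (hYqs : IsQuasiSeparatedSp Y) (hX : IsAffineMor g) :
    ∃ i₀ : I, ∀ (i : I) (_ : i ⟶ i₀), IsAffineMor (t.app i) := by
  obtain ⟨V, a, hV, ha, has⟩ := AlgSpLib.exists_affine_chart hYqc
  haveI := hV
  obtain ⟨P, cP, hcP, u, r, f, s, sq, sqlim, sqtr, -, -, -⟩ := exists_pullback_system t hc g hg a
  obtain ⟨W, w, fw, sqW, hW⟩ := hX hV a
  let eW : (yon S).obj W ≅ cP.pt := sqW.isoIsPullback _ _ sqlim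
  have hPA : ∀ i, IsAlgSpace (P.obj i) := fun i =>
    AlgSpLib.isAlgSpace_of_isPullback (hD i) (IsAlgSpace.yon_obj V) hY (sq i)
  have hPa : ∀ (i j : I) (φ : i ⟶ j), IsAffineMor (P.map φ) := fun i j φ =>
    AlgSpLib.isAffineMor_iff.2 (AlgSpLib.repWith_of_isPullback (sqtr φ) (AlgSpLib.isAffineMor_iff.1 (hDa i j φ)))
  obtain ⟨i₀, T', hT', ⟨eT⟩⟩ := exists_affine_stage P hPa cP hcP hPA
    (fun i => AlgSpLib.isQuasiCompactSp_source (IsAlgSpace.yon_obj V)
      (AlgSpLib.isQuasiCompactMor_of_isPullback (sq i)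
        (AlgSpLib.isQuasiCompactMor_of_qcSp_qsSp (hD i) hY _ (hqc i) hYqs))
      (AlgSpLib.isQuasiCompactSp_yon V))
    (fun i => AlgSpLib.isQuasiSeparatedSp_of_isPullback (sq i) (hqs i) hYqs (isQuasiSeparatedSp_yon V))
    W hW eW
  refine ⟨i₀, fun i φ => ?_⟩
  obtain ⟨W', w', fw', sqW', hW'⟩ := hPa i i₀ φ hT' eT.hom
  haveI : IsIso fw' := sqW'.isIso_fst_of_isIso
  exact isAffineMor_of_chart hV hW' (asIso fw') ha has (sq i)

/-- Descent of affineness along affine limits. -/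
theorem descend_affine (D : I ⥤ Sp S) (hD : ∀ i, IsAlgSpace (D.obj i))
    (hDa : ∀ (i j : I) (φ : i ⟶ j), IsAffineMor (D.map φ)) (c : Cone D) (hc : IsLimit c) (i₀ : I)
    {X₀ Y₀ : Sp S} (hX₀ : IsAlgSpace X₀) (hY₀ : IsAlgSpace Y₀) (f₀ : X₀ ⟶ Y₀) (b₀ : Y₀ ⟶ D.obj i₀)
    (hBqs : IsQuasiSeparatedSp (D.obj i₀))
    (hXqc : IsQuasiCompactSp X₀) (hXqs : IsQuasiSeparatedSp X₀) (hYqc : IsQuasiCompactSp Y₀)
    (hYqs : IsQuasiSeparatedSp Y₀) {X Y : Sp S} (f : X ⟶ Y) (pY : Y ⟶ Y₀) (qY : Y ⟶ c.pt)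
    (hY : IsPullback pY qY b₀ (c.π.app i₀)) (pX : X ⟶ X₀) (hX : IsPullback pX f f₀ pY)
    (hf : IsAffineMor f) :
    ∃ (i : I) (φ : i ⟶ i₀), ∀ (Xi Yi : Sp S) (fi : Xi ⟶ Yi) (pYi : Yi ⟶ Y₀) (qYi : Yi ⟶ D.obj i)
      (_ : IsPullback pYi qYi b₀ (D.map φ)) (pXi : Xi ⟶ X₀) (_ : IsPullback pXi fi f₀ pYi),
      IsAffineMor fi := by
  obtain ⟨V₀, a, hV, ha, has⟩ := AlgSpLib.exists_affine_chart hYqc
  haveI := hV
  have sq0 := IsPullback.of_hasPullback f₀ a
  have hRA := AlgSpLib.isAlgSpace_pullback hX₀ (IsAlgSpace.yon_obj V₀) hY₀ f₀ a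
  have hRqc : IsQuasiCompactSp (pullback f₀ a) := AlgSpLib.isQuasiCompactSp_source (IsAlgSpace.yon_obj V₀)
    (AlgSpLib.isQuasiCompactMor_of_isPullback sq0
      (AlgSpLib.isQuasiCompactMor_of_qcSp_qsSp hX₀ hY₀ f₀ hXqc hYqs)) (AlgSpLib.isQuasiCompactSp_yon V₀)
  have hRqs : IsQuasiSeparatedSp (pullback f₀ a) :=
    AlgSpLib.isQuasiSeparatedSp_of_isPullback sq0 hXqs hYqs (isQuasiSeparatedSp_yon V₀)
  obtain ⟨⟨h1⟩, -, h3⟩ := limit_over_data D hc i₀
  obtain ⟨P, cP, hcP, u, r, fP, s, sq, sqlim, sqtr, -, -, -⟩ :=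
    exists_pullback_system (overNat D i₀) h1 (c.π.app i₀)
      (fun k => (h3 k).symm.trans (Category.comp_id _))
      (pullback.snd f₀ a ≫ a ≫ b₀)
  have hPA : ∀ k, IsAlgSpace (P.obj k) := fun k =>
    AlgSpLib.isAlgSpace_of_isPullback (hD _) hRA (hD i₀) (sq k)
  have hPa : ∀ (k l : Over i₀) (φ : k ⟶ l), IsAffineMor (P.map φ) := fun k l φ =>
    AlgSpLib.isAffineMor_iff.2 (AlgSpLib.repWith_of_isPullback (sqtr φ)
      (AlgSpLib.isAffineMor_iff.1 (hDa _ _ φ.left)))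
  have hPRaff : ∀ k, RepWith @IsAffineHom (r k) := fun k =>
    AlgSpLib.repWith_of_isPullback (sq k) (AlgSpLib.isAffineMor_iff.1 (hDa _ _ k.hom))
  have hPqc : ∀ k, IsQuasiCompactSp (P.obj k) := fun k => AlgSpLib.isQuasiCompactSp_source hRA
    (AlgSpLib.isQuasiCompactMor_of_repWith (hPA k) hRA (AlgSpLib.repWith_mono
      (fun _ _ g (_ : IsAffineHom g) => (inferInstance : QuasiCompact g)) (hPRaff k))) hRqc
  have hPqs : ∀ k, IsQuasiSeparatedSp (P.obj k) := fun k => by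
    obtain ⟨V', pV, qV, sqV, hV'⟩ := hDa _ _ k.hom hV (a ≫ b₀)
    obtain ⟨m, n, hm, hn⟩ : ∃ (m : P.obj k ⟶ (yon S).obj V') (n : P.obj k ⟶ pullback f₀ a),
        IsPullback m n ((yon S).map pV) (pullback.snd f₀ a) ∧ n = r k := by
      refine ⟨sqV.lift (u k) (r k ≫ pullback.snd f₀ a) ?_, r k, IsPullback.of_right
        (h₁₂ := qV) (h₂₂ := a ≫ b₀) ?_ (sqV.lift_snd _ _ _) sqV, rfl⟩
      · exact (sq k).w.trans (Category.assoc _ _ _).symm
      · rw [sqV.lift_fst]; exact sq k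
    haveI := hV'
    exact AlgSpLib.isQuasiSeparatedSp_of_isPullback hm (isQuasiSeparatedSp_yon V') (isQuasiSeparatedSp_yon V₀) hRqs
  obtain ⟨Vl, pVl, qVl, sqVl, hVl⟩ := isAffineMor_proj D hDa hc i₀ hV (a ≫ b₀)
  obtain ⟨al, el, rl, hal, hel, -⟩ := sp_baseChange hY hX sq0 sqVl sqlim
  obtain ⟨W, w, fw, sqW, hW⟩ := hf hVl al
  obtain ⟨k, T', hT', ⟨eT⟩⟩ := exists_affine_stage P hPa cP hcP hPA hPqc hPqs W hW
    (sqW.isoIsPullback _ _ hel)
  refine ⟨k.left, k.hom, fun Xi Yi fi pYi qYi hYi pXi hXi => ?_⟩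
  obtain ⟨V', pV, qV, sqV, hV'⟩ := hDa _ _ k.hom hV (a ≫ b₀)
  obtain ⟨ai, ei, ri, hai, hei, -⟩ := sp_baseChange hYi hXi sq0 sqV (sq k)
  exact isAffineMor_of_chart hV' hT' eT (AlgSpLib.repWith_of_isPullback hai.flip ha)
    (AlgSpLib.repWith_of_isPullback hai.flip has) hei

end Groth.Agent.MonoPtLib
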