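import Groth.Agent.MonoPtLib.LimAffine
import Groth.Agent.AlgSpLib.Noeth
import Groth.Agent.AlgSpLib.MorPack
import Groth.Agent.RichLib.LimitDescent
/-!
# Closed immersions into a limit are closed immersions into a stage
-/

set_option autoImplicit false
set_option backward.isDefEq.respectTransparency false
set_option backward.isDefEq.respectTransparency.types false
universe u
open CategoryTheory CategoryTheory.Limits AlgebraicGeometry AlgSp

namespace Groth.Agent.MonoPtLib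

variable {I : Type u} [SmallCategory I] [IsCofiltered I]

/-- A closed immersion of an affine scheme of finite type into an affine limit is a closed immersion into a
stage. -/
theorem exists_closedImmersion_stage_affine (Z : I ⥤ Scheme.{u}) [∀ i, IsAffine (Z.obj i)] (cZ : Cone Z)
    (hcZ : IsLimit cZ) [IsAffine cZ.pt] {W : Scheme.{u}} [IsAffine W] (j : W ⟶ cZ.pt) [IsClosedImmersion j]
    (i₁ : I) [LocallyOfFiniteType (j ≫ cZ.π.app i₁)] :
    ∃ i, IsClosedImmersion (j ≫ cZ.π.app i) := by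
  classical
  obtain ⟨s, hs⟩ := RichLib.LimBC.exists_generators (j ≫ cZ.π.app i₁)
  have hsurj := (IsClosedImmersion.isAffine_surjective_of_isAffine j).2
  have hex : ∀ b : Γ(W, ⊤), ∃ (i : I) (t : Γ(Z.obj i, ⊤)), (j ≫ cZ.π.app i).appTop.hom t = b := fun b => by
    obtain ⟨x, rfl⟩ := hsurj b
    obtain ⟨i, t, ht⟩ := exists_appTop_π_eq_of_isAffine_of_isLimit Z cZ hcZ x
    exact ⟨i, t, (RichLib.LimBC.appTop_comp _ _ _).trans (congrArg _ ht)⟩
  choose ib tb htb using hex
  obtain ⟨i, hi⟩ := IsCofiltered.inf_objs_exists (insert i₁ (s.image ib))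
  have hmem : ∀ {l : I} (φ : i ⟶ l) (t : Γ(Z.obj l, ⊤)),
      (j ≫ cZ.π.app l).appTop.hom t ∈ (j ≫ cZ.π.app i).appTop.hom.range := fun φ t =>
    ⟨(Z.map φ).appTop.hom t, by
      rw [← RichLib.LimBC.appTop_comp, Category.assoc, cZ.w]⟩
  refine ⟨i, IsClosedImmersion.of_surjective_of_isAffine _ fun z => ?_⟩
  have hle : Set.range (j ≫ cZ.π.app i₁).appTop.hom ∪ ↑s ⊆
      ((j ≫ cZ.π.app i).appTop.hom.range : Set Γ(W, ⊤)) := by
    rintro b (⟨t, rfl⟩ | hb)
    · exact hmem (hi (Finset.mem_insert_self _ _)).some t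
    · have h := hmem (hi (Finset.mem_insert_of_mem (Finset.mem_image_of_mem ib hb))).some (tb b)
      rwa [htb] at h
  exact Subring.closure_le.2 hle (hs ▸ Subring.mem_top z)

variable {S : Scheme.{u}}

/-- Closed immersions into a limit are eventually closed immersions into the stages. -/
theorem eventually_closedImmersion (B : Sp S) (hB : IsAlgSpace B) (D : I ⥤ Sp S)
    (hD : ∀ i, IsAlgSpace (D.obj i))
    (hDa : ∀ (i j : I) (φ : i ⟶ j), IsAffineMor (D.map φ)) (c : Cone D) (hc : IsLimit c)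
    (Y : Sp S) (hY : IsAlgSpace Y) (y : Y ⟶ c.pt) (hy : RepWith @IsClosedImmersion y) (i₁ : I)
    (hqc : IsQuasiCompactSp (D.obj i₁)) (t₁ : D.obj i₁ ⟶ B)
    (hYB : LocP @LocallyOfFiniteType (y ≫ c.π.app i₁ ≫ t₁)) :
    ∃ i₀ : I, ∀ (i : I) (_ : i ⟶ i₀), RepWith @IsClosedImmersion (y ≫ c.π.app i) := by
  have hlft : LocP @LocallyOfFiniteType (y ≫ c.π.app i₁) :=
    AlgSpLib.locP_of_comp (fun h k => AlgSpLib.lft_of_comp h k) hY (hD _) hB (g := t₁)
      (by simpa using hYB)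
  obtain ⟨E, b, hE, hb, hbs⟩ := AlgSpLib.exists_affine_chart hqc
  obtain ⟨⟨h1⟩, ⟨h2⟩, h3⟩ := limit_over_data D hc i₁
  obtain ⟨Z, cZ, ι, fZ, p, q, ⟨hcZ⟩, haff, hZ, sqj, hi, hfZ, hp, sqZ⟩ :=
    exists_pullback_limit' (overNat D i₁) (fun k => hDa _ _ k.hom) h1 h2 (c.π.app i₁) h3 hE b
  change ∀ k : Over i₁, (yon S).obj (Z.obj k) ⟶ D.obj k.left at q
  have sqj' : ∀ k : Over i₁, IsPullback (q k) ((yon S).map (p k)) (D.map k.hom) b := fun k => by
    have h := sqj k
    change IsPullback _ _ _ (b ≫ 𝟙 _) at h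
    rw [Category.comp_id] at h
    exact h
  have hfZ' : ∀ k : Over i₁, fZ ≫ c.π.app k.left = (yon S).map (cZ.π.app k) ≫ q k := hfZ
  have sqk : ∀ k : Over i₁, IsPullback fZ ((yon S).map (cZ.π.app k)) (c.π.app k.left) (q k) := fun k =>
    IsPullback.of_bot (v₂₁ := (yon S).map (p k)) (v₂₂ := D.map k.hom) (h₃₁ := b)
      (by rw [← Functor.map_comp, hi, c.w]; exact sqZ) (hfZ' k) (sqj' k)
  let V := hy.rep.pullback fZ
  let j : V ⟶ cZ.pt := hy.rep.snd fZ
  haveI : IsClosedImmersion j.left := hy.property_snd fZ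
  have sqV : ∀ k : Over i₁, IsPullback (hy.rep.fst fZ) ((yon S).map (j ≫ cZ.π.app k))
      (y ≫ c.π.app k.left) (q k) := fun k => by
    rw [Functor.map_comp]
    exact (hy.rep.isPullback fZ).paste_vert (sqk k)
  let k₀ : Over i₁ := Over.mk (𝟙 i₁)
  haveI : LocallyOfFiniteType (j ≫ cZ.π.app k₀).left :=
    (AlgSpLib.locP_yon_map_iff _).1 (AlgSpLib.locP_of_isPullback hY (hD _) (IsAlgSpace.yon_obj _)
      (sqV k₀) hlft)
  haveI : ∀ k, IsAffine ((Z ⋙ Over.forget S).obj k) := hZ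
  obtain ⟨hl⟩ := scheme_isLimit hcZ
  haveI := haff
  haveI : IsAffine ((Over.forget S).mapCone cZ).pt := haff
  haveI : IsAffine V.left := isAffine_of_isAffineHom j.left
  haveI : IsClosedImmersion (j.left : V.left ⟶ ((Over.forget S).mapCone cZ).pt) :=
    inferInstanceAs (IsClosedImmersion j.left)
  haveI : LocallyOfFiniteType (j.left ≫ ((Over.forget S).mapCone cZ).π.app k₀) :=
    inferInstanceAs (LocallyOfFiniteType (j ≫ cZ.π.app k₀).left)
  obtain ⟨k, hk⟩ := exists_closedImmersion_stage_affine (Z ⋙ Over.forget S) ((Over.forget S).mapCone cZ) hl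
    (j.left : V.left ⟶ ((Over.forget S).mapCone cZ).pt) k₀
  refine ⟨k.left, fun i φ => ?_⟩
  let k' : Over i₁ := Over.mk (φ ≫ k.hom)
  let ψ : k' ⟶ k := Over.homMk φ
  haveI : IsAffine (Z.obj k').left := hZ k'
  haveI : IsAffine (Z.obj k).left := hZ k
  haveI : IsClosedImmersion ((j ≫ cZ.π.app k').left ≫ (Z.map ψ).left) := by
    have e : (j ≫ cZ.π.app k').left ≫ (Z.map ψ).left = (j ≫ cZ.π.app k).left := by
      rw [← Over.comp_left, Category.assoc, cZ.w]
    rw [e]
    exact hk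
  haveI : IsClosedImmersion (j ≫ cZ.π.app k').left := IsClosedImmersion.of_comp _ (Z.map ψ).left
  have hbq := AlgSpLib.repWith_of_isPullback (sqj' k').flip hb
  have hbqs := AlgSpLib.repWith_of_isPullback (sqj' k').flip hbs
  exact AlgSpLib.repWith_of_etale_cover (fun _ _ g (_ : IsClosedImmersion g) => inferInstance) hbq hbqs
    (sqV k') ((repWith_yon_map_iff _ _).2 this)

end Groth.Agent.MonoPtLib
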