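import Groth.Agent.MonoPtLib.LimPoints
import Groth.Agent.AlgSpLib.Reduced
import Groth.Agent.S10193
import Groth.Prelude.Def_AlgSpSub
/-!
# Reducedness of limits and closures of points
-/

set_option autoImplicit false
set_option backward.isDefEq.respectTransparency false
set_option backward.isDefEq.respectTransparency.types false
universe u
open CategoryTheory CategoryTheory.Limits AlgebraicGeometry AlgSp

namespace Groth.Agent.MonoPtLib

variable {I : Type u} [SmallCategory I] [IsCofiltered I]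

theorem isReduced_limit (Z : I ⥤ Scheme.{u}) [∀ i, IsAffine (Z.obj i)] [∀ i, IsReduced (Z.obj i)]
    (cZ : Cone Z) (hcZ : IsLimit cZ) [IsAffine cZ.pt] : IsReduced cZ.pt := by
  haveI : _root_.IsReduced Γ(cZ.pt, ⊤) := ⟨fun x hx => by
    obtain ⟨n, hn⟩ := hx
    obtain ⟨i, t, rfl⟩ := exists_appTop_π_eq_of_isAffine_of_isLimit Z cZ hcZ x
    obtain ⟨j, φ, hj⟩ := exists_appTop_map_eq_zero_of_isAffine_of_isLimit Z cZ hcZ i (t ^ n)
      (by rw [map_pow]; exact hn)
    have h0 : (Z.map φ).appTop t = 0 := IsReduced.eq_zero _ ⟨n, by rw [← map_pow]; exact hj⟩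
    rw [← cZ.w φ, Scheme.Hom.comp_appTop]
    change (cZ.π.app j).appTop ((Z.map φ).appTop t) = 0
    rw [h0, map_zero]⟩
  exact isReduced_of_isOpenImmersion cZ.pt.isoSpec.hom

variable {S : Scheme.{u}} (D : I ⥤ Sp S)

theorem isReducedSp_limit (hDa : ∀ (i j : I) (φ : i ⟶ j), IsAffineMor (D.map φ)) (c : Cone D) (hc : IsLimit c)
    (hred : ∀ i, IsReducedSp (D.obj i)) : IsReducedSp c.pt := by
  obtain ⟨i₀⟩ := (IsCofiltered.nonempty : Nonempty I)
  obtain ⟨V, b, hb, hbs, hV⟩ := hred i₀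
  have hπ := AlgSpLib.representable_of_affine (isAffineMor_proj D hDa hc i₀)
  let T := hπ.pullback b
  have sqT : IsPullback (hπ.fst b) ((yon S).map (hπ.snd b)) (c.π.app i₀) b := hπ.isPullback b
  refine ⟨T, hπ.fst b, AlgSpLib.repWith_of_isPullback sqT.flip hb,
    AlgSpLib.repWith_of_isPullback sqT.flip hbs, ?_⟩
  let 𝒰 := V.left.affineCover
  let t := (hπ.snd b).left
  haveI : ∀ j, IsReduced ((𝒰.pullback₁ t).X j) := fun j => by
    let Vj : Over S := Over.mk (𝒰.f j ≫ V.hom)
    let vj : Vj ⟶ V := Over.homMk (𝒰.f j)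
    let Tj : Over S := Over.mk (pullback.fst t (𝒰.f j) ≫ T.hom)
    let ιj : Tj ⟶ T := Over.homMk (pullback.fst t (𝒰.f j))
    let tj : Tj ⟶ Vj := Over.homMk (pullback.snd t (𝒰.f j)) (by
      change _ ≫ (_ ≫ V.hom) = _ ≫ T.hom
      rw [← Category.assoc, ← pullback.condition, Category.assoc]
      exact congrArg _ (Over.w (hπ.snd b)))
    have sq₀ : IsPullback ιj tj (hπ.snd b) vj :=
      IsPullback.of_map (Over.forget S) (Over.OverMorphism.ext pullback.condition)
        (IsPullback.of_hasPullback t (𝒰.f j))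
    have sqTj := (sq₀.map (yon S)).paste_horiz sqT
    have hVj : IsAffine Vj.left := inferInstanceAs (IsAffine (𝒰.X j))
    have hbj : RepWith @Etale ((yon S).map vj ≫ b) := AlgSpLib.repWith_comp
      ((repWith_yon_map_iff _ _).2 (inferInstanceAs (Etale (𝒰.f j)))) hb
    obtain ⟨⟨h1⟩, ⟨h2⟩, h3⟩ := limit_over_data D hc i₀
    obtain ⟨W, cW, ι, fW, p, q, ⟨hcW⟩, haff, hW, sqj, hi, hfW, hp, sqW⟩ :=
      exists_pullback_limit' (overNat D i₀) (fun k => hDa _ _ k.hom) h1 h2 (c.π.app i₀) h3 hVj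
        ((yon S).map vj ≫ b)
    change ∀ k : Over i₀, (yon S).obj (W.obj k) ⟶ D.obj k.left at q
    haveI : ∀ k, IsAffine ((W ⋙ Over.forget S).obj k) := hW
    haveI : ∀ k, IsReduced ((W ⋙ Over.forget S).obj k) := fun k => by
      have h := sqj k
      change IsPullback (q k) _ (D.map k.hom) (((yon S).map vj ≫ b) ≫ 𝟙 _) at h
      rw [Category.comp_id] at h
      exact AlgSpLib.isReduced_of_chart (hred k.left) (AlgSpLib.repWith_of_isPullback h.flip hbj)
    obtain ⟨hl⟩ := scheme_isLimit hcW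
    haveI : IsAffine ((Over.forget S).mapCone cW).pt := haff
    haveI : IsReduced ((Over.forget S).obj cW.pt) := isReduced_limit (W ⋙ Over.forget S) _ hl
    let e : Tj ≅ cW.pt := (yon S).preimageIso (sqTj.isoIsPullback _ _ sqW)
    exact isReduced_of_isOpenImmersion ((Over.forget S).mapIso e).hom
  exact IsReduced.of_openCover _ (𝒰.pullback₁ t)

variable (hD : ∀ i, IsAlgSpace (D.obj i)) (hDa : ∀ (i j : I) (φ : i ⟶ j), IsAffineMor (D.map φ))
  (c : Cone D) (hc : IsLimit c)

include hD hDa hc in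
theorem closure_singleton_limit (x : Points c.pt) :
    closure {x} = {x' | ∀ i, Points.map (c.π.app i) x' ∈ closure {Points.map (c.π.app i) x}} := by
  refine le_antisymm (fun x' hx' i => ?_) fun x' hx' => ?_
  · have h := map_mem_closure (Points.continuous_map (c.π.app i)) hx'
      (fun y (hy : y = x) => Set.mem_singleton_iff.2 (congrArg (Points.map (c.π.app i)) hy))
    exact h
  · refine mem_closure_iff.2 fun O hO hxO => ?_
    obtain ⟨k, O', hO', -, hx'O, hsub⟩ := exists_basic_nhd D hD hDa c hc hO x' hxO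
    obtain ⟨_, hy, rfl⟩ := mem_closure_iff.1 (hx' k) O' hO' hx'O
    exact ⟨x, hsub hy, rfl⟩

include hD hDa hc in
theorem isLimit_closure (x : Points c.pt) (Z : Space S) (zι : Z.obj ⟶ c.pt)
    (hZ : IsRedInduced (closure {x}) zι) (DZ : I ⥤ Sp S) (hDZ : ∀ i, IsAlgSpace (DZ.obj i)) (ι : DZ ⟶ D)
    (hι : ∀ i, IsRedInduced (closure {Points.map (c.π.app i) x}) (ι.app i))
    (ξ : (Functor.const I).obj Z.obj ⟶ DZ) (hξ : ∀ i, ξ.app i ≫ ι.app i = zι ≫ c.π.app i) :
    Nonempty (IsLimit (Cone.mk Z.obj ξ)) := by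
  haveI : ∀ i, Mono (ι.app i) := fun i =>
    AlgSpLib.mono_of_repWith (fun g (_ : IsClosedImmersion g) => inferInstance) (hι i).1
  haveI : Mono zι := AlgSpLib.mono_of_repWith (fun g (_ : IsClosedImmersion g) => inferInstance) hZ.1
  have hDZa : ∀ (i j : I) (φ : i ⟶ j), IsAffineMor (DZ.map φ) := fun i j φ => by
    have hd : RepWith @IsClosedImmersion (ι.app i) := (hι i).1
    let d : DZ.obj i ⟶ pullback (D.map φ) (ι.app j) :=
      pullback.lift (ι.app i) (DZ.map φ) (ι.naturality φ).symm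
    haveI : Mono (pullback.fst (D.map φ) (ι.app j)) := inferInstance
    have sq : IsPullback (𝟙 _) d (ι.app i) (pullback.fst (D.map φ) (ι.app j)) :=
      ⟨⟨by simp [d]⟩, ⟨PullbackCone.IsLimit.mk _ (fun s => s.fst) (fun s => Category.comp_id _)
        (fun s => by
          rw [← cancel_mono (pullback.fst (D.map φ) (ι.app j)), Category.assoc]
          simpa [d] using s.condition)
        (fun s l h1 _ => by simpa using h1)⟩⟩
    have h := AlgSpLib.repWith_comp
      (AlgSpLib.repWith_mono (fun _ _ g (_ : IsClosedImmersion g) => (inferInstance : IsAffineHom g))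
        (AlgSpLib.repWith_of_isPullback sq hd))
      (AlgSpLib.repWith_of_isPullback (IsPullback.of_hasPullback (D.map φ) (ι.app j))
        (AlgSpLib.isAffineMor_iff.1 (hDa i j φ)))
    rw [show d ≫ pullback.snd _ _ = DZ.map φ from pullback.lift_snd _ _ _] at h
    exact AlgSpLib.isAffineMor_iff.2 h
  let cL := limit.cone DZ
  let hcL := limit.isLimit DZ
  let lam : cL.pt ⟶ c.pt := hc.lift ((Cone.postcompose ι).obj cL)
  have hlam : ∀ i, lam ≫ c.π.app i = cL.π.app i ≫ ι.app i := fun i => hc.fac _ i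
  let L : Space S := ⟨cL.pt, isAlgSpace_limit DZ hDZ hDZa hcL⟩
  let X : Space S := ⟨c.pt, isAlgSpace_limit D hD hDa hc⟩
  obtain ⟨g, hg⟩ := (Groth.Agent.S10193.result (X := X) (Y := L) (Z := Z) (ObjectProperty.homMk zι) hZ.1
    (isReducedSp_limit DZ hDZa cL hcL fun i => (hι i).2.2) (ObjectProperty.homMk lam)).2 (by
      change Set.range (Points.map lam) ⊆ Set.range (Points.map zι)
      rw [hZ.2.1, closure_singleton_limit D hD hDa c hc x]
      rintro _ ⟨y, rfl⟩ i
      rw [← Points.map_comp, hlam, Points.map_comp, ← (hι i).2.1]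
      exact ⟨_, rfl⟩)
  let g' : cL.pt ⟶ Z.obj := g.hom
  have hg' : g' ≫ zι = lam := congrArg (fun f => f.hom) hg
  have hgξ : ∀ i, g' ≫ ξ.app i = cL.π.app i := fun i => by
    rw [← cancel_mono (ι.app i), Category.assoc, hξ, ← Category.assoc, hg', hlam]
  exact ⟨{
    lift := fun s => hcL.lift s ≫ g'
    fac := fun s i => by
      change (hcL.lift s ≫ g') ≫ ξ.app i = _
      rw [Category.assoc, hgξ, hcL.fac]
    uniq := fun s m hm => by
      change m = hcL.lift s ≫ g'
      rw [← cancel_mono zι, Category.assoc, hg']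
      refine hc.hom_ext fun i => ?_
      rw [Category.assoc, Category.assoc, hlam, ← Category.assoc (hcL.lift s), hcL.fac, ← hξ, ← Category.assoc]
      exact congrArg (· ≫ ι.app i) (hm i) }⟩

end Groth.Agent.MonoPtLib
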