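import Groth.Agent.MonoPtLib.LimAffine
import Groth.Agent.AlgSpLib.LocP
import Groth.Agent.RichLib.LimTop
import Mathlib.AlgebraicGeometry.Morphisms.FinitePresentation
/-!
# Descending properties of morphisms of algebraic spaces along affine limits

The reduction to descent of properties of morphisms of schemes over affine systems.
-/

set_option autoImplicit false
set_option backward.isDefEq.respectTransparency false
set_option backward.isDefEq.respectTransparency.types false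
universe u
open CategoryTheory CategoryTheory.Limits AlgebraicGeometry AlgSp

namespace Groth.Agent.MonoPtLib

/-- `P` descends, for morphisms with `Q`, along limits of affine schemes. -/
def LimDesc (Q P : MorphismProperty Scheme.{u}) : Prop :=
  ∀ {J : Type u} [SmallCategory J] [IsCofiltered J] (W : J ⥤ Scheme.{u}) (cW : Cone W) (_ : IsLimit cW)
    (_ : ∀ j, IsAffine (W.obj j)) (j₀ : J) {U : Scheme.{u}} (h : U ⟶ W.obj j₀)
    (_ : CompactSpace U) (_ : QuasiSeparatedSpace U) (_ : Q h) {U' : Scheme.{u}} (h' : U' ⟶ cW.pt)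
    (q : U' ⟶ U), IsPullback q h' h (cW.π.app j₀) → P h' →
    ∃ (j : J) (φ : j ⟶ j₀) (Uj : Scheme.{u}) (hj : Uj ⟶ W.obj j) (p : Uj ⟶ U),
      IsPullback p hj h (W.map φ) ∧ P hj

theorem limDesc_of_stage {P : MorphismProperty Scheme.{u}} [P.RespectsIso]
    {J : Type u} [SmallCategory J] (W : J ⥤ Scheme.{u}) (j₀ : J) {U : Scheme.{u}} (h : U ⟶ W.obj j₀)
    (H : ∃ (i : J) (φ : i ⟶ j₀) (Xi Yi : Scheme.{u}) (fi : Xi ⟶ Yi) (gi : Yi ⟶ W.obj i)
      (pY : Yi ⟶ W.obj j₀) (pX : Xi ⟶ U),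
      IsPullback pY gi (𝟙 _) (W.map φ) ∧ IsPullback pX fi h pY ∧ P fi) :
    ∃ (j : J) (φ : j ⟶ j₀) (Uj : Scheme.{u}) (hj : Uj ⟶ W.obj j) (p : Uj ⟶ U),
      IsPullback p hj h (W.map φ) ∧ P hj := by
  obtain ⟨i, φ, Xi, Yi, fi, gi, pY, pX, hY, hX, hP⟩ := H
  haveI : IsIso gi := hY.isIso_snd_of_isIso
  exact ⟨i, φ, Xi, fi ≫ gi, pX,
    hX.of_iso (Iso.refl _) (Iso.refl _) (asIso gi) (Iso.refl _) (by simp) (by simp) (by simp)
      (by simpa using hY.w), (P.cancel_right_of_respectsIso _ _).2 hP⟩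

theorem isPullback_id_stage {J : Type u} [SmallCategory J] {W : J ⥤ Scheme.{u}} (cW : Cone W) (j₀ : J) :
    IsPullback (cW.π.app j₀) (𝟙 cW.pt) (𝟙 _) (cW.π.app j₀) :=
  haveI : IsIso (𝟙 cW.pt) := IsIso.id _
  haveI : IsIso (𝟙 (W.obj j₀)) := IsIso.id _
  IsPullback.of_vert_isIso ⟨by simp⟩

theorem limDesc_and {Q P P' : MorphismProperty Scheme.{u}} [P.IsStableUnderBaseChange]
    [P'.IsStableUnderBaseChange] (h₁ : LimDesc Q P) (h₂ : LimDesc Q P') : LimDesc Q (P ⊓ P') := by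
  intro J _ _ W cW hcW hW j₀ U h hc hs hQ U' h' q sq ⟨hP, hP'⟩
  obtain ⟨j, φ, Uj, hj, p, sqj, hPj⟩ := h₁ W cW hcW hW j₀ h hc hs hQ h' q sq hP
  obtain ⟨k, ψ, Uk, hk, r, sqk, hPk⟩ := h₂ W cW hcW hW j₀ h hc hs hQ h' q sq hP'
  obtain ⟨l, a, b, e⟩ := IsCofiltered.cospan φ ψ
  let sql := IsPullback.of_hasPullback h (W.map (a ≫ φ))
  have hl₁ : IsPullback (sqj.lift (pullback.fst h (W.map (a ≫ φ))) (pullback.snd h (W.map (a ≫ φ)) ≫ W.map a)
      (by rw [Category.assoc, ← W.map_comp]; exact pullback.condition))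
      (pullback.snd h (W.map (a ≫ φ))) hj (W.map a) :=
    IsPullback.of_right (by rw [IsPullback.lift_fst, ← W.map_comp]; exact sql)
      (IsPullback.lift_snd _ _ _ _) sqj
  have hl₂ : IsPullback (sqk.lift (pullback.fst h (W.map (a ≫ φ))) (pullback.snd h (W.map (a ≫ φ)) ≫ W.map b)
      (by rw [Category.assoc, ← W.map_comp, ← e]; exact pullback.condition))
      (pullback.snd h (W.map (a ≫ φ))) hk (W.map b) :=
    IsPullback.of_right (by rw [IsPullback.lift_fst, ← W.map_comp, ← e]; exact sql)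
      (IsPullback.lift_snd _ _ _ _) sqk
  exact ⟨l, a ≫ φ, _, _, _, sql, P.of_isPullback hl₁ hPj, P'.of_isPullback hl₂ hPk⟩

theorem isIndConstructible_of_isLocallyConstructible {X : Type*} [TopologicalSpace X] {E : Set X}
    (hE : Topology.IsLocallyConstructible E) : ProCons.IsIndConstructible E := fun x =>
  ⟨Set.univ, isOpen_univ, trivial, {Subtype.val ⁻¹' E},
    fun T hT => by
      rw [Set.mem_singleton_iff] at hT
      subst hT
      exact hE.preimage_of_isOpenEmbedding isOpen_univ.isOpenEmbedding_subtypeVal,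
    (Set.sUnion_singleton _).symm⟩

/-- Surjectivity descends along limits of affine schemes. -/
theorem limDesc_surjective :
    LimDesc.{u} @LocallyOfFinitePresentation @Surjective := by
  intro J _ _ W cW hcW hW j₀ U h hc hs hQ U' h' q sq hP
  haveI := hc
  haveI := hs
  haveI : LocallyOfFinitePresentation h := hQ
  haveI : Surjective h' := hP
  haveI : ∀ j, IsAffine (W.obj j) := hW
  haveI : ∀ (i j : J) (f : i ⟶ j), IsAffineHom (W.map f) := fun i j f => inferInstance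
  have hE : ProCons.IsIndConstructible (Set.range h) := by
    rw [← Set.image_univ]
    exact isIndConstructible_of_isLocallyConstructible (h.isLocallyConstructible_image
      Topology.IsConstructible.univ.isLocallyConstructible)
  obtain ⟨j, φ, hj⟩ := RichLib.LimTop.exists_inter_range_subset' W cW hcW hE (by
    rintro _ ⟨w, rfl⟩
    obtain ⟨z, rfl⟩ := h'.surjective w
    exact ⟨q z, by rw [← Scheme.Hom.comp_apply, sq.w, Scheme.Hom.comp_apply]; rfl⟩)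
  refine ⟨j, φ, _, _, _, IsPullback.of_hasPullback h (W.map φ), ⟨fun w => ?_⟩⟩
  obtain ⟨x, hx⟩ := hj ⟨w, rfl⟩
  obtain ⟨z, -, hz⟩ := Scheme.Pullback.exists_preimage_pullback x w hx
  exact ⟨z, hz⟩

variable {S : Scheme.{u}}

/-- A chart of a morphism gives charts of its base changes. -/
theorem chart_baseChange {X₀ Y₀ B₀ X' Y' B' : Sp S} {f₀ : X₀ ⟶ Y₀} {b₀ : Y₀ ⟶ B₀} {π : B' ⟶ B₀}
    {f' : X' ⟶ Y'} {pY : Y' ⟶ Y₀} {qY : Y' ⟶ B'} {pX : X' ⟶ X₀}
    (hY : IsPullback pY qY b₀ π) (hX : IsPullback pX f' f₀ pY) {U₀ V₀ U' V' : Over S}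
    {a : (yon S).obj V₀ ⟶ Y₀} {e : (yon S).obj U₀ ⟶ X₀} {h₀ : U₀ ⟶ V₀}
    (comm : e ≫ f₀ = (yon S).map h₀ ≫ a) {pV : V' ⟶ V₀} {qV : (yon S).obj V' ⟶ B'}
    (sqV : IsPullback qV ((yon S).map pV) π (a ≫ b₀)) {pU : U' ⟶ U₀} {h' : U' ⟶ V'}
    (sqU : IsPullback pU h' h₀ pV) :
    ∃ (a' : (yon S).obj V' ⟶ Y') (e' : (yon S).obj U' ⟶ X'),
      IsPullback a' ((yon S).map pV) pY a ∧ IsPullback e' ((yon S).map pU) pX e ∧
        e' ≫ f' = (yon S).map h' ≫ a' := by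
  let a' := hY.lift ((yon S).map pV ≫ a) qV ((Category.assoc _ _ _).trans sqV.w.symm)
  have ha : IsPullback a' ((yon S).map pV) pY a :=
    IsPullback.of_right (h₁₂ := qY) (h₂₂ := b₀) (by rw [hY.lift_snd]; exact sqV)
      (hY.lift_fst _ _ _) hY.flip
  have hw : ((yon S).map pU ≫ e) ≫ f₀ = ((yon S).map h' ≫ a') ≫ pY := by
    rw [Category.assoc, comm, ← Functor.map_comp_assoc, sqU.w, Category.assoc, ha.w,
      Functor.map_comp_assoc]
  let e' := hX.lift ((yon S).map pU ≫ e) ((yon S).map h' ≫ a') hw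
  have he : e' ≫ f' = (yon S).map h' ≫ a' := hX.lift_snd _ _ _
  refine ⟨a', e', ha, IsPullback.of_right (h₁₂ := f') (h₂₂ := f₀) ?_ (hX.lift_fst _ _ _) hX.flip, he⟩
  rw [he, comm]
  exact (sqU.flip.map (yon S)).paste_horiz ha

/-- The base change of a chart square of a representable morphism is again one. -/
theorem isPullback_chart {X₀ Y₀ X' Y' : Sp S} {f₀ : X₀ ⟶ Y₀} {f' : X' ⟶ Y'} {pY : Y' ⟶ Y₀}
    {pX : X' ⟶ X₀} (hX : IsPullback pX f' f₀ pY) {U₀ V₀ U' V' : Over S}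
    {a : (yon S).obj V₀ ⟶ Y₀} {e : (yon S).obj U₀ ⟶ X₀} {h₀ : U₀ ⟶ V₀}
    (sq0 : IsPullback e ((yon S).map h₀) f₀ a) {pV : V' ⟶ V₀} {pU : U' ⟶ U₀} {h' : U' ⟶ V'}
    (sqU : IsPullback pU h' h₀ pV) {a' : (yon S).obj V' ⟶ Y'} {e' : (yon S).obj U' ⟶ X'}
    (ha : IsPullback a' ((yon S).map pV) pY a) (he : IsPullback e' ((yon S).map pU) pX e)
    (w : e' ≫ f' = (yon S).map h' ≫ a') : IsPullback e' ((yon S).map h') f' a' :=
  IsPullback.of_right (h₁₂ := pX) (h₂₂ := pY)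
    (by rw [he.w, ha.w]; exact (sqU.map (yon S)).paste_horiz sq0) w hX

/-- Descent of a property of a chart along an affine limit. -/
theorem exists_stage {I : Type u} [SmallCategory I] [IsCofiltered I] (D : I ⥤ Sp S)
    (hDa : ∀ (i j : I) (φ : i ⟶ j), IsAffineMor (D.map φ)) (c : Cone D) (hc : IsLimit c) (i₀ : I)
    {X₀ Y₀ : Sp S} (f₀ : X₀ ⟶ Y₀) (b₀ : Y₀ ⟶ D.obj i₀) {X Y : Sp S} (f : X ⟶ Y) (pY : Y ⟶ Y₀)
    (qY : Y ⟶ c.pt) (hY : IsPullback pY qY b₀ (c.π.app i₀)) (pX : X ⟶ X₀) (hX : IsPullback pX f f₀ pY)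
    {U₀ V₀ : Over S} (hV₀ : IsAffine V₀.left) [CompactSpace U₀.left] [QuasiSeparatedSpace U₀.left]
    (a : (yon S).obj V₀ ⟶ Y₀) (e : (yon S).obj U₀ ⟶ X₀) (h₀ : U₀ ⟶ V₀)
    (comm : e ≫ f₀ = (yon S).map h₀ ≫ a) {Q P : MorphismProperty Scheme.{u}} [Q.RespectsIso]
    (hd : LimDesc Q P) (hQ : Q h₀.left)
    (hlim : ∀ (U' V' : Over S) (pU : U' ⟶ U₀) (pV : V' ⟶ V₀) (h' : U' ⟶ V')
      (a' : (yon S).obj V' ⟶ Y) (e' : (yon S).obj U' ⟶ X),
      IsPullback a' ((yon S).map pV) pY a → IsPullback e' ((yon S).map pU) pX e →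
      IsPullback pU h' h₀ pV → e' ≫ f = (yon S).map h' ≫ a' → P h'.left) :
    ∃ (i : I) (φ : i ⟶ i₀), ∀ (Xi Yi : Sp S) (fi : Xi ⟶ Yi) (pYi : Yi ⟶ Y₀) (qYi : Yi ⟶ D.obj i)
      (_ : IsPullback pYi qYi b₀ (D.map φ)) (pXi : Xi ⟶ X₀) (_ : IsPullback pXi fi f₀ pYi),
      ∃ (U' V' : Over S) (pU : U' ⟶ U₀) (pV : V' ⟶ V₀) (h' : U' ⟶ V')
        (a' : (yon S).obj V' ⟶ Yi) (e' : (yon S).obj U' ⟶ Xi),
        IsPullback a' ((yon S).map pV) pYi a ∧ IsPullback e' ((yon S).map pU) pXi e ∧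
        IsPullback pU h' h₀ pV ∧ e' ≫ fi = (yon S).map h' ≫ a' ∧ IsAffine V'.left ∧ P h'.left := by
  obtain ⟨⟨h1⟩, ⟨h2⟩, h3⟩ := limit_over_data D hc i₀
  obtain ⟨W, cW, i, fst, p, q, ⟨hcW⟩, haff, hW, sqj, hi, -, hp, sqW⟩ :=
    exists_pullback_limit' (overNat D i₀) (fun k => hDa _ _ k.hom) h1 h2 (c.π.app i₀) h3 hV₀ (a ≫ b₀)
  have sqj' : ∀ k : Over i₀, IsPullback (q k) ((yon S).map (p k)) (D.map k.hom) (a ≫ b₀) := fun k => by
    have h := sqj k
    change IsPullback _ _ _ ((a ≫ b₀) ≫ 𝟙 _) at h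
    rw [Category.comp_id] at h
    exact h
  let k₀ : Over i₀ := Over.mk (𝟙 i₀)
  haveI : IsIso (D.map k₀.hom) := by
    change IsIso (D.map (𝟙 i₀))
    infer_instance
  haveI : IsIso ((yon S).map (p k₀)) := (sqj' k₀).isIso_snd_of_isIso
  haveI : IsIso (p k₀) := isIso_of_fully_faithful (yon S) _
  haveI : IsIso (p k₀).left := inferInstanceAs (IsIso ((Over.forget S).map (p k₀)))
  let ψ : ∀ k : Over i₀, k ⟶ k₀ := fun k => Over.homMk k.hom
  obtain ⟨hl⟩ := scheme_isLimit hcW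
  have sqlim : IsPullback (pullback.fst h₀ i) (pullback.snd h₀ i) h₀ i := IsPullback.of_hasPullback _ _
  obtain ⟨a', e', ha, he, w⟩ := chart_baseChange hY hX comm sqW sqlim
  have hPlim : P (pullback.snd h₀ i).left := hlim _ _ _ _ _ a' e' ha he sqlim w
  let hh : U₀.left ⟶ (W ⋙ Over.forget S).obj k₀ := h₀.left ≫ inv (p k₀).left
  have sqs : IsPullback (pullback.fst h₀ i).left (pullback.snd h₀ i).left hh
      (((Over.forget S).mapCone cW).π.app k₀) := by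
    refine (sqlim.map (Over.forget S)).of_iso (Iso.refl _) (Iso.refl _) (Iso.refl _)
      (asIso (p k₀).left).symm (by simp) (by simp) (by simp [hh]) ?_
    simp only [Iso.refl_hom, Category.id_comp, Iso.symm_hom, asIso_inv, IsIso.comp_inv_eq]
    rw [← hi k₀]
    rfl
  obtain ⟨k, φ, Uk, hk, pk, sqk, hPk⟩ := hd (W ⋙ Over.forget S) _ hl hW k₀ hh inferInstance inferInstance
    ((Q.cancel_right_of_respectsIso _ _).2 hQ) _ _ sqs hPlim
  let U' : Over S := Over.mk (hk ≫ (W.obj k).hom)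
  let hk' : U' ⟶ W.obj k := Over.homMk hk rfl
  have hpk : (W.map φ).left ≫ (p k₀).left = (p k).left := by rw [← Over.comp_left, (hp φ).1]
  have wk : pk ≫ h₀.left = hk ≫ (p k).left := by
    have h := congrArg (· ≫ (p k₀).left) sqk.w
    simp only [hh, Category.assoc, IsIso.inv_hom_id, Category.comp_id, Functor.comp_map, Over.forget_map] at h
    rwa [hpk] at h
  let pk' : U' ⟶ U₀ := Over.homMk pk (by
    change pk ≫ U₀.hom = hk ≫ (W.obj k).hom
    rw [← Over.w h₀, ← Category.assoc, wk, Category.assoc, Over.w])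
  have sqU : IsPullback pk' hk' h₀ (p k) := by
    refine IsPullback.of_map (Over.forget S) (Over.OverMorphism.ext wk) ?_
    refine sqk.of_iso (Iso.refl _) (Iso.refl _) (Iso.refl _) (asIso (p k₀).left) (by simp [pk']) (by simp [hk'])
      (by simp [hh]) ?_
    simpa using hpk
  refine ⟨k.left, k.hom, fun Xi Yi fi pYi qYi hYi pXi hXi => ?_⟩
  obtain ⟨ai, ei, hai, hei, wi⟩ := chart_baseChange hYi hXi comm (sqj' k) sqU
  exact ⟨U', W.obj k, pk', p k, hk', ai, ei, hai, hei, sqU, wi, hW k, hPk⟩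

end Groth.Agent.MonoPtLib
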