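import Groth.Agent.MonoPtLib.LimDescendProps
/-!
# Descending monomorphisms, isomorphisms, closed immersions and separatedness along affine limits
-/

set_option autoImplicit false
set_option backward.isDefEq.respectTransparency false
set_option backward.isDefEq.respectTransparency.types false
universe u
open CategoryTheory CategoryTheory.Limits AlgebraicGeometry AlgSp

namespace Groth.Agent.MonoPtLib

variable {S : Scheme.{u}}

/-- Squares over a composite give squares over its first factor. -/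
theorem pullback_factor {X₀ Y₀ B₀ X₁ Y₁ B₁ X' Y' B' : Sp S} {f₀ : X₀ ⟶ Y₀} {b₀ : Y₀ ⟶ B₀} {β : B₁ ⟶ B₀}
    {f₁ : X₁ ⟶ Y₁} {p₁ : Y₁ ⟶ Y₀} {q₁ : Y₁ ⟶ B₁} {r₁ : X₁ ⟶ X₀} (hY₁ : IsPullback p₁ q₁ b₀ β)
    (hX₁ : IsPullback r₁ f₁ f₀ p₁) {π : B' ⟶ B₀} {α : B' ⟶ B₁} (e : α ≫ β = π)
    {f' : X' ⟶ Y'} {p' : Y' ⟶ Y₀} {q' : Y' ⟶ B'} {r' : X' ⟶ X₀} (hY : IsPullback p' q' b₀ π)
    (hX : IsPullback r' f' f₀ p') :
    ∃ (m : Y' ⟶ Y₁) (n : X' ⟶ X₁), IsPullback m q' q₁ α ∧ IsPullback n f' f₁ m := by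
  have w : p' ≫ b₀ = (q' ≫ α) ≫ β := by rw [hY.w, Category.assoc, e]
  let m := hY₁.lift p' (q' ≫ α) w
  have hm : IsPullback m q' q₁ α :=
    IsPullback.of_right (by rw [hY₁.lift_fst, e]; exact hY) (hY₁.lift_snd _ _ _) hY₁
  have w' : r' ≫ f₀ = (f' ≫ m) ≫ p₁ := by rw [hX.w, Category.assoc, hY₁.lift_fst]
  refine ⟨m, hX₁.lift r' (f' ≫ m) w', hm,
    IsPullback.of_right (by rw [hX₁.lift_fst, hY₁.lift_fst]; exact hX) (hX₁.lift_snd _ _ _) hX₁⟩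

variable [QuasiSeparatedSpace S] {I : Type u} [SmallCategory I] [IsCofiltered I] (D : I ⥤ Sp S)
  (hD : ∀ i, IsAlgSpace (D.obj i))
  (hDa : ∀ (i j : I) (φ : i ⟶ j), IsAffineMor (D.map φ)) (c : Cone D) (hc : IsLimit c) (i₀ : I)
  {X₀ Y₀ : Sp S} (hX₀ : IsAlgSpace X₀) (hY₀ : IsAlgSpace Y₀) (f₀ : X₀ ⟶ Y₀) (b₀ : Y₀ ⟶ D.obj i₀)
  (hXqc : IsQuasiCompactSp X₀) (hXqs : IsQuasiSeparatedSp X₀) (hYqc : IsQuasiCompactSp Y₀)
  (hYqs : IsQuasiSeparatedSp Y₀)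
  {X Y : Sp S} (f : X ⟶ Y) (pY : Y ⟶ Y₀) (qY : Y ⟶ c.pt) (hY : IsPullback pY qY b₀ (c.π.app i₀))
  (pX : X ⟶ X₀) (hX : IsPullback pX f f₀ pY)

include hX₀ hY₀ hXqc hYqs in
theorem isQuasiCompactSp_self_pullback : IsQuasiCompactSp (pullback f₀ f₀) :=
  AlgSpLib.isQuasiCompactSp_source hX₀
    (AlgSpLib.isQuasiCompactMor_of_isPullback (IsPullback.of_hasPullback f₀ f₀).flip
      (AlgSpLib.isQuasiCompactMor_of_qcSp_qsSp hX₀ hY₀ f₀ hXqc hYqs)) hXqc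

include hD hDa hc hX₀ hY₀ hXqc hXqs hYqs hY hX in
/-- Descent of universal injectivity. -/
theorem descend_univInjective (hf : IsUnivInjectiveMor f) (hf₀ : LocP @LocallyOfFiniteType f₀) :
    ∃ (i : I) (φ : i ⟶ i₀), ∀ (Xi Yi : Sp S) (fi : Xi ⟶ Yi) (pYi : Yi ⟶ Y₀) (qYi : Yi ⟶ D.obj i)
      (_ : IsPullback pYi qYi b₀ (D.map φ)) (pXi : Xi ⟶ X₀) (_ : IsPullback pXi fi f₀ pYi),
      IsUnivInjectiveMor fi := by
  have hYA := AlgSpLib.isAlgSpace_of_isPullback hY₀ (isAlgSpace_limit D hD hDa hc) (hD i₀) hY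
  have hXA := AlgSpLib.isAlgSpace_of_isPullback hX₀ hYA hY₀ hX
  have hΔ := AlgSpLib.repWith_diagonal_properties hXA f
  obtain ⟨i, φ, H⟩ := descend_rep D hDa c hc i₀ (pullback.diagonal f₀) ((pullback.fst f₀ f₀ ≫ f₀) ≫ b₀)
    (pullback.diagonal f) _ _ ((isPullback_map_self hX).paste_vert hY) pX (AlgSpLib.isPullback_diagonal hX)
    limDesc_surjective (AlgSpLib.repWith_lfp_diagonal hX₀ hY₀ hf₀)
    (AlgSpLib.repWith_diagonal_of_diag f₀ hXqs) (AlgSpLib.repWith_diagonal_properties hX₀ f₀).2.2.2.1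
    (isQuasiCompactSp_self_pullback hX₀ hY₀ f₀ hXqc hYqs)
    ((AlgSpLib.repWith_surjective_iff hΔ.1).2 ((AlgSpLib.univInjective_iff_surjective_diagonal hXA).1 hf))
  refine ⟨i, φ, fun Xi Yi fi pYi qYi hYi pXi hXi => ?_⟩
  have hXiA := AlgSpLib.isAlgSpace_of_isPullback hX₀
    (AlgSpLib.isAlgSpace_of_isPullback hY₀ (hD i) (hD i₀) hYi) hY₀ hXi
  obtain ⟨U', V', h', a', e', ha, has, sq, hP⟩ := H _ _ (pullback.diagonal fi) _ _
    ((isPullback_map_self hXi).paste_vert hYi) pXi (AlgSpLib.isPullback_diagonal hXi)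
  refine (AlgSpLib.univInjective_iff_surjective_diagonal hXiA).2 fun y => ?_
  obtain ⟨v, rfl⟩ := AlgSpLib.map_surjective_of_repWith has y
  obtain ⟨v, rfl⟩ := (Points.schemeHomeo V').surjective v
  haveI : Surjective h'.left := hP
  obtain ⟨w, rfl⟩ := h'.left.surjective v
  refine ⟨Points.map e' (Points.schemeHomeo U' w), ?_⟩
  rw [← Points.map_comp, sq.w, Points.map_comp, Points.map_yon_map_apply]

include hD hDa hc hX₀ hY₀ hXqc hXqs hYqs hY hX in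
/-- Descent of monomorphisms. -/
theorem descend_mono [Mono f] (hf₀ : LocP @LocallyOfFiniteType f₀) :
    ∃ (i : I) (φ : i ⟶ i₀), ∀ (Xi Yi : Sp S) (fi : Xi ⟶ Yi) (pYi : Yi ⟶ Y₀) (qYi : Yi ⟶ D.obj i)
      (_ : IsPullback pYi qYi b₀ (D.map φ)) (pXi : Xi ⟶ X₀) (_ : IsPullback pXi fi f₀ pYi),
      Mono fi := by
  haveI : IsIso (pullback.diagonal f) := (pullback.isIso_diagonal_iff f).2 inferInstance
  obtain ⟨i, φ, H⟩ := descend_rep D hDa c hc i₀ (pullback.diagonal f₀) ((pullback.fst f₀ f₀ ≫ f₀) ≫ b₀)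
    (pullback.diagonal f) _ _ ((isPullback_map_self hX).paste_vert hY) pX (AlgSpLib.isPullback_diagonal hX)
    (limDesc_and limDesc_etale limDesc_surjective) (AlgSpLib.repWith_lfp_diagonal hX₀ hY₀ hf₀)
    (AlgSpLib.repWith_diagonal_of_diag f₀ hXqs) (AlgSpLib.repWith_diagonal_properties hX₀ f₀).2.2.2.1
    (isQuasiCompactSp_self_pullback hX₀ hY₀ f₀ hXqc hYqs) (AlgSpLib.repWith_of_isIso _)
  refine ⟨i, φ, fun Xi Yi fi pYi qYi hYi pXi hXi => ?_⟩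
  have hYiA := AlgSpLib.isAlgSpace_of_isPullback hY₀ (hD i) (hD i₀) hYi
  have hXiA := AlgSpLib.isAlgSpace_of_isPullback hX₀ hYiA hY₀ hXi
  have hPA := AlgSpLib.isAlgSpace_pullback hXiA hXiA hYiA fi fi
  obtain ⟨U', V', h', a', e', ha, has, sq, he, hs⟩ := H _ _ (pullback.diagonal fi) _ _
    ((isPullback_map_self hXi).paste_vert hYi) pXi (AlgSpLib.isPullback_diagonal hXi)
  have hs' : IsSurjectiveMor (pullback.diagonal fi) := fun y => by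
    obtain ⟨v, rfl⟩ := AlgSpLib.map_surjective_of_repWith has y
    obtain ⟨v, rfl⟩ := (Points.schemeHomeo V').surjective v
    haveI : Surjective h'.left := hs
    obtain ⟨w, rfl⟩ := h'.left.surjective v
    refine ⟨Points.map e' (Points.schemeHomeo U' w), ?_⟩
    rw [← Points.map_comp, sq.w, Points.map_comp, Points.map_yon_map_apply]
  have he' : IsEtaleMor (pullback.diagonal fi) := (AlgSpLib.isEtaleMor_iff_locP hPA).2
    (AlgSpLib.locP_of_chart (AlgSpLib.repWith_of_isPullback sq.flip ha)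
      (AlgSpLib.repWith_of_isPullback sq.flip has) ha sq.w he)
  haveI : IsIso (pullback.diagonal fi) := AlgSpLib.isIso_of_mono_etale_surjective hXiA hPA _ he' hs'
  exact (pullback.isIso_diagonal_iff fi).1 inferInstance

include hD hDa hc hX₀ hY₀ hXqc hXqs hYqs hY hX in
/-- Descent of separatedness, for morphisms locally of finite type or not. -/
theorem descend_separated (hf : IsSeparatedMor f) :
    ∃ (i : I) (φ : i ⟶ i₀), ∀ (Xi Yi : Sp S) (fi : Xi ⟶ Yi) (pYi : Yi ⟶ Y₀) (qYi : Yi ⟶ D.obj i)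
      (_ : IsPullback pYi qYi b₀ (D.map φ)) (pXi : Xi ⟶ X₀) (_ : IsPullback pXi fi f₀ pYi),
      IsSeparatedMor fi := by
  obtain ⟨i, φ, H⟩ := descend_rep D hDa c hc i₀ (pullback.diagonal f₀) ((pullback.fst f₀ f₀ ≫ f₀) ≫ b₀)
    (pullback.diagonal f) _ _ ((isPullback_map_self hX).paste_vert hY) pX (AlgSpLib.isPullback_diagonal hX)
    limDesc_closedImmersion (AlgSpLib.repWith_diagonal_properties hX₀ f₀).2.1
    (AlgSpLib.repWith_diagonal_of_diag f₀ hXqs) (AlgSpLib.repWith_diagonal_properties hX₀ f₀).2.2.2.1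
    (isQuasiCompactSp_self_pullback hX₀ hY₀ f₀ hXqc hYqs) hf
  refine ⟨i, φ, fun Xi Yi fi pYi qYi hYi pXi hXi => ?_⟩
  obtain ⟨U', V', h', a', e', ha, has, sq, hP⟩ := H _ _ (pullback.diagonal fi) _ _
    ((isPullback_map_self hXi).paste_vert hYi) pXi (AlgSpLib.isPullback_diagonal hXi)
  exact AlgSpLib.repWith_of_etale_cover (fun _ _ g (_ : IsClosedImmersion g) =>
    (inferInstance : IsAffineHom g)) ha has sq ((repWith_yon_map_iff _ _).2 hP)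

include hD hDa hc hX₀ hY₀ hXqc hXqs hYqc hYqs hY hX in
/-- Descent of isomorphisms. -/
theorem descend_iso [IsIso f] (hf₀ : LocP @LocallyOfFinitePresentation f₀) :
    ∃ (i : I) (φ : i ⟶ i₀), ∀ (Xi Yi : Sp S) (fi : Xi ⟶ Yi) (pYi : Yi ⟶ Y₀) (qYi : Yi ⟶ D.obj i)
      (_ : IsPullback pYi qYi b₀ (D.map φ)) (pXi : Xi ⟶ X₀) (_ : IsPullback pXi fi f₀ pYi),
      IsIso fi := by
  have hqc := AlgSpLib.isQuasiCompactMor_of_qcSp_qsSp hX₀ hY₀ f₀ hXqc hYqs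
  have hYA := AlgSpLib.isAlgSpace_of_isPullback hY₀ (isAlgSpace_limit D hD hDa hc) (hD i₀) hY
  obtain ⟨i, φ, Hm⟩ := descend_mono D hD hDa c hc i₀ hX₀ hY₀ f₀ b₀ hXqc hXqs hYqs f pY qY hY pX hX
    (AlgSpLib.locP_mono (fun _ _ g (_ : LocallyOfFinitePresentation g) =>
      (inferInstance : LocallyOfFiniteType g)) hf₀)
  obtain ⟨j, ψ, He⟩ := descend_locP D hDa c hc i₀ hX₀ hY₀ f₀ b₀ f pY qY hY pX hX @Etale limDesc_etale
    hqc hYqc ((AlgSpLib.isEtaleMor_iff_locP hYA).1 (AlgSpLib.isEtaleMor_of_isIso' f)) hf₀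
  obtain ⟨k, ξ, Hs⟩ := descend_surjective D hDa c hc i₀ hX₀ hY₀ f₀ b₀ f pY qY hY pX hX hqc hYqc
    (AlgSpLib.isSurjectiveMor_of_isIso f) hf₀
  obtain ⟨l₁, a, b, e₁⟩ := IsCofiltered.cospan φ ψ
  obtain ⟨l, d, g, e₂⟩ := IsCofiltered.cospan (a ≫ φ) ξ
  refine ⟨l, d ≫ a ≫ φ, fun Xl Yl fl pYl qYl hYl pXl hXl => ?_⟩
  have hYlA := AlgSpLib.isAlgSpace_of_isPullback hY₀ (hD l) (hD i₀) hYl
  have hXlA := AlgSpLib.isAlgSpace_of_isPullback hX₀ hYlA hY₀ hXl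
  have key : ∀ (m : I) (η : m ⟶ i₀) (t : l ⟶ m), t ≫ η = d ≫ a ≫ φ →
      ∃ (Xm Ym : Sp S) (fm : Xm ⟶ Ym) (pYm : Ym ⟶ Y₀) (qYm : Ym ⟶ D.obj m) (pXm : Xm ⟶ X₀)
        (u : Yl ⟶ Ym) (v : Xl ⟶ Xm), IsPullback pYm qYm b₀ (D.map η) ∧ IsPullback pXm fm f₀ pYm ∧
          IsPullback v fl fm u := fun m η t e => by
    obtain ⟨u, v, -, hv⟩ := pullback_factor (IsPullback.of_hasPullback b₀ (D.map η))
      (IsPullback.of_hasPullback f₀ (pullback.fst b₀ (D.map η))) (α := D.map t)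
      (by rw [← D.map_comp, e]) hYl hXl
    exact ⟨_, _, _, _, _, _, u, v, IsPullback.of_hasPullback _ _, IsPullback.of_hasPullback _ _, hv⟩
  obtain ⟨_, _, fm, _, _, _, u, v, h1, h2, hv⟩ := key i φ (d ≫ a) (by simp)
  haveI : Mono fm := Hm _ _ _ _ _ h1 _ h2
  haveI : Mono fl := MorphismProperty.of_isPullback (P := MorphismProperty.monomorphisms (Sp S)) hv
    ‹Mono fm›
  obtain ⟨Xj, Yj, fj, pj, qj, rj, u', v', h1', h2', hv'⟩ := key j ψ (d ≫ b) (by rw [Category.assoc, ← e₁])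
  have hYjA := AlgSpLib.isAlgSpace_of_isPullback hY₀ (hD j) (hD i₀) h1'
  have hel : LocP @Etale fl := AlgSpLib.locP_of_isPullback
    (AlgSpLib.isAlgSpace_of_isPullback hX₀ hYjA hY₀ h2') hYjA hYlA hv' (He _ _ _ _ _ h1' _ h2')
  obtain ⟨Xk, Yk, fk, pk, qk, rk, u'', v'', h1'', h2'', hv''⟩ := key k ξ g e₂.symm
  exact AlgSpLib.isIso_of_mono_etale_surjective hXlA hYlA fl ((AlgSpLib.isEtaleMor_iff_locP hYlA).2 hel)
    (AlgSpLib.map_surjective_of_isPullback hv'' (Hs _ _ _ _ _ h1'' _ h2''))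

include hD hDa hc hX₀ hY₀ hXqc hXqs hYqc hYqs hY hX in
/-- Descent of closed immersions. -/
theorem descend_closedImmersion (hf : RepWith @IsClosedImmersion f) (hf₀ : LocP @LocallyOfFiniteType f₀) :
    ∃ (i : I) (φ : i ⟶ i₀), ∀ (Xi Yi : Sp S) (fi : Xi ⟶ Yi) (pYi : Yi ⟶ Y₀) (qYi : Yi ⟶ D.obj i)
      (_ : IsPullback pYi qYi b₀ (D.map φ)) (pXi : Xi ⟶ X₀) (_ : IsPullback pXi fi f₀ pYi),
      RepWith @IsClosedImmersion fi := by
  have hYA := AlgSpLib.isAlgSpace_of_isPullback hY₀ (isAlgSpace_limit D hD hDa hc) (hD i₀) hY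
  have hXA := AlgSpLib.isAlgSpace_of_isPullback hX₀ hYA hY₀ hX
  haveI : Mono f := (AlgSpLib.closedImmersion_props hXA hYA hf).2.2.1
  obtain ⟨i, φ, Hm⟩ := descend_mono D hD hDa c hc i₀ hX₀ hY₀ f₀ b₀ hXqc hXqs hYqs f pY qY hY pX hX hf₀
  have h1 := IsPullback.of_hasPullback b₀ (D.map φ)
  have h2 := IsPullback.of_hasPullback f₀ (pullback.fst b₀ (D.map φ))
  have hY₁A := AlgSpLib.isAlgSpace_of_isPullback hY₀ (hD i) (hD i₀) h1
  have hX₁A := AlgSpLib.isAlgSpace_of_isPullback hX₀ hY₁A hY₀ h2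
  haveI := Hm _ _ _ _ _ h1 _ h2
  have hl := AlgSpLib.locP_of_isPullback hX₀ hY₀ hY₁A h2 hf₀
  have hr := AlgSpLib.representable_of_mono_lft hX₁A hY₁A hl
  have hqc₁ : RepWith @QuasiCompact (pullback.snd f₀ (pullback.fst b₀ (D.map φ))) :=
    (AlgSpLib.repWith_quasiCompact_iff hX₁A hY₁A hr).2 (AlgSpLib.isQuasiCompactMor_of_isPullback h2
      (AlgSpLib.isQuasiCompactMor_of_qcSp_qsSp hX₀ hY₀ f₀ hXqc hYqs))
  have hY₁qc : IsQuasiCompactSp (pullback b₀ (D.map φ)) :=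
    AlgSpLib.isQuasiCompactSp_source hY₀ (AlgSpLib.isQuasiCompactMor_of_repWith hY₁A hY₀
      (AlgSpLib.repWith_mono (fun _ _ g (_ : IsAffineHom g) => (inferInstance : QuasiCompact g))
        (AlgSpLib.repWith_of_isPullback h1.flip (AlgSpLib.isAffineMor_iff.1 (hDa _ _ φ))))) hYqc
  obtain ⟨m, n, hm, hn⟩ := pullback_factor h1 h2 (α := c.π.app i) (c.w φ) hY hX
  obtain ⟨j, ψ, H⟩ := descend_rep D hDa c hc i _ (pullback.snd b₀ (D.map φ)) f m qY hm n hn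
    limDesc_closedImmersion (AlgSpLib.repWith_of_locP hY₁A hr hl) hqc₁
    (AlgSpLib.repWith_isSeparated_of_mono hr) hY₁qc hf
  refine ⟨j, ψ ≫ φ, fun Xj Yj fj pYj qYj hYj pXj hXj => ?_⟩
  obtain ⟨mj, nj, hmj, hnj⟩ := pullback_factor h1 h2 (α := D.map ψ) (D.map_comp ψ φ).symm hYj hXj
  obtain ⟨U', V', h', a', e', ha, has, sq, hP⟩ := H _ _ fj _ _ hmj _ hnj
  exact AlgSpLib.repWith_of_etale_cover (fun _ _ g (_ : IsClosedImmersion g) =>
    (inferInstance : IsAffineHom g)) ha has sq ((repWith_yon_map_iff _ _).2 hP)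

end Groth.Agent.MonoPtLib
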