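import Groth.Agent.MonoPtLib.LimDescend
import Groth.Agent.AlgSpLib.QcQs
import Groth.Agent.AlgSpLib.Iso
import Groth.Agent.AlgSpLib.Qc
import Groth.Agent.AlgSpLib.MonoRep
import Groth.Agent.S2075
import Groth.Agent.S9189
import Groth.Agent.S9191
import Groth.Agent.S9192
/-!
# Descending flat, smooth, etale, surjective along affine limits of algebraic spaces
-/

set_option autoImplicit false
set_option backward.isDefEq.respectTransparency false
set_option backward.isDefEq.respectTransparency.types false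
universe u
open CategoryTheory CategoryTheory.Limits AlgebraicGeometry AlgSp

namespace Groth.Agent.MonoPtLib

theorem affine_transitions {J : Type u} [SmallCategory J] {W : J ⥤ Scheme.{u}} (hW : ∀ j, IsAffine (W.obj j))
    (i j : J) (f : i ⟶ j) : IsAffineHom (W.map f) :=
  haveI := hW i
  haveI := hW j
  inferInstance

theorem limDesc_flat : LimDesc.{u} @LocallyOfFinitePresentation @Flat := by
  intro J _ _ W cW hcW hW j₀ U h hc hs hQ U' h' q sq hP
  haveI := hc; haveI := hs; haveI : LocallyOfFinitePresentation h := hQ; haveI : Flat h' := hP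
  haveI := affine_transitions hW; haveI := hW j₀
  exact limDesc_of_stage W j₀ h (S2075.result W cW hcW j₀ h (𝟙 _) h' (𝟙 _) (cW.π.app j₀) q
    (isPullback_id_stage cW j₀) sq)

theorem limDesc_smooth : LimDesc.{u} @LocallyOfFinitePresentation @Smooth := by
  intro J _ _ W cW hcW hW j₀ U h hc hs hQ U' h' q sq hP
  haveI := hc; haveI := hs; haveI : LocallyOfFinitePresentation h := hQ; haveI : Smooth h' := hP
  haveI := affine_transitions hW; haveI := hW j₀
  exact limDesc_of_stage W j₀ h (S9191.result W cW hcW j₀ h (𝟙 _) h' (𝟙 _) (cW.π.app j₀) q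
    (isPullback_id_stage cW j₀) sq)

theorem limDesc_etale : LimDesc.{u} @LocallyOfFinitePresentation @Etale := by
  intro J _ _ W cW hcW hW j₀ U h hc hs hQ U' h' q sq hP
  haveI := hc; haveI := hs; haveI : LocallyOfFinitePresentation h := hQ; haveI : Etale h' := hP
  haveI := affine_transitions hW; haveI := hW j₀
  exact limDesc_of_stage W j₀ h (S9192.result W cW hcW j₀ h (𝟙 _) h' (𝟙 _) (cW.π.app j₀) q
    (isPullback_id_stage cW j₀) sq)

theorem limDesc_closedImmersion : LimDesc.{u} @LocallyOfFiniteType @IsClosedImmersion := by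
  intro J _ _ W cW hcW hW j₀ U h hc hs hQ U' h' q sq hP
  haveI := hc; haveI := hs; haveI : LocallyOfFiniteType h := hQ; haveI : IsClosedImmersion h' := hP
  haveI := affine_transitions hW; haveI := hW j₀
  exact limDesc_of_stage W j₀ h (S9189.result W cW hcW j₀ h (𝟙 _) h' (𝟙 _) (cW.π.app j₀) q
    (isPullback_id_stage cW j₀) sq)

variable {S : Scheme.{u}} {I : Type u} [SmallCategory I] [IsCofiltered I] (D : I ⥤ Sp S)
  (hDa : ∀ (i j : I) (φ : i ⟶ j), IsAffineMor (D.map φ)) (c : Cone D) (hc : IsLimit c) (i₀ : I)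
  {X₀ Y₀ : Sp S} (hX₀ : IsAlgSpace X₀) (hY₀ : IsAlgSpace Y₀) (f₀ : X₀ ⟶ Y₀) (b₀ : Y₀ ⟶ D.obj i₀)
  {X Y : Sp S} (f : X ⟶ Y) (pY : Y ⟶ Y₀) (qY : Y ⟶ c.pt) (hY : IsPullback pY qY b₀ (c.π.app i₀))
  (pX : X ⟶ X₀) (hX : IsPullback pX f f₀ pY)

include hX₀ hY₀ in
/-- Affine charts of a quasi-compact morphism with quasi-compact target. -/
theorem exists_affine_charts_mor (hqc : IsQuasiCompactMor f₀) (hYqc : IsQuasiCompactSp Y₀) :
    ∃ (U₀ V₀ : Over S) (a : (yon S).obj V₀ ⟶ Y₀) (E : (yon S).obj U₀ ⟶ pullback f₀ a) (h₀ : U₀ ⟶ V₀),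
      IsAffine V₀.left ∧ IsAffine U₀.left ∧ RepWith @Etale a ∧ RepWith @Surjective a ∧
      RepWith @Etale E ∧ RepWith @Surjective E ∧ E ≫ pullback.snd f₀ a = (yon S).map h₀ := by
  obtain ⟨V₀, a, hV, ha, has⟩ := AlgSpLib.exists_affine_chart hYqc
  haveI : IsAffine V₀.left := hV
  obtain ⟨U₀, E, hU, hE, hEs⟩ := AlgSpLib.exists_affine_chart
    (hqc (IsAlgSpace.yon_obj V₀) (AlgSpLib.isQuasiCompactSp_yon V₀) a _ _ (IsPullback.of_hasPullback f₀ a))
  obtain ⟨h₀, hh⟩ := (yon S).map_surjective (E ≫ pullback.snd f₀ a)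
  exact ⟨U₀, V₀, a, E, h₀, hV, hU, ha, has, hE, hEs, hh.symm⟩

include hX₀ hY₀ hDa hc hY hX in
/-- Descent of properties etale local on source and target. -/
theorem descend_locP (P : MorphismProperty Scheme.{u}) [AlgSpLib.EtLocProp P]
    (hd : LimDesc @LocallyOfFinitePresentation P) (hqc : IsQuasiCompactMor f₀) (hYqc : IsQuasiCompactSp Y₀)
    (hf : LocP P f) (hf₀ : LocP @LocallyOfFinitePresentation f₀) :
    ∃ (i : I) (φ : i ⟶ i₀), ∀ (Xi Yi : Sp S) (fi : Xi ⟶ Yi) (pYi : Yi ⟶ Y₀) (qYi : Yi ⟶ D.obj i)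
      (_ : IsPullback pYi qYi b₀ (D.map φ)) (pXi : Xi ⟶ X₀) (_ : IsPullback pXi fi f₀ pYi),
      LocP P fi := by
  obtain ⟨U₀, V₀, a, E, h₀, hV, hU, ha, has, hE, hEs, hh⟩ :=
    exists_affine_charts_mor hX₀ hY₀ f₀ hqc hYqc
  haveI := hU
  have sqR := IsPullback.of_hasPullback f₀ a
  have he : RepWith @Etale (E ≫ pullback.fst f₀ a) :=
    AlgSpLib.repWith_comp hE (AlgSpLib.repWith_of_isPullback sqR.flip ha)
  have hes : RepWith @Surjective (E ≫ pullback.fst f₀ a) :=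
    AlgSpLib.repWith_comp hEs (AlgSpLib.repWith_of_isPullback sqR.flip has)
  have comm : (E ≫ pullback.fst f₀ a) ≫ f₀ = (yon S).map h₀ ≫ a := by
    rw [Category.assoc, pullback.condition, reassoc_of% hh]
  obtain ⟨i, φ, H⟩ := exists_stage D hDa c hc i₀ f₀ b₀ f pY qY hY pX hX hV a _ h₀ comm hd
    (hf₀ _ _ h₀ he ha comm) (fun U' V' pU pV h' a' e' sa se _ w =>
      hf e' a' h' (AlgSpLib.repWith_of_isPullback se.flip he) (AlgSpLib.repWith_of_isPullback sa.flip ha) w)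
  refine ⟨i, φ, fun Xi Yi fi pYi qYi hYi pXi hXi => ?_⟩
  obtain ⟨U', V', pU, pV, h', a', e', sa, se, -, w, -, hP⟩ := H Xi Yi fi pYi qYi hYi pXi hXi
  exact AlgSpLib.locP_of_chart (AlgSpLib.repWith_of_isPullback se.flip he)
    (AlgSpLib.repWith_of_isPullback se.flip hes) (AlgSpLib.repWith_of_isPullback sa.flip ha) w hP

include hX₀ hY₀ hDa hc hY hX in
/-- Descent of surjectivity. -/
theorem descend_surjective (hqc : IsQuasiCompactMor f₀) (hYqc : IsQuasiCompactSp Y₀)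
    (hf : IsSurjectiveMor f) (hf₀ : LocP @LocallyOfFinitePresentation f₀) :
    ∃ (i : I) (φ : i ⟶ i₀), ∀ (Xi Yi : Sp S) (fi : Xi ⟶ Yi) (pYi : Yi ⟶ Y₀) (qYi : Yi ⟶ D.obj i)
      (_ : IsPullback pYi qYi b₀ (D.map φ)) (pXi : Xi ⟶ X₀) (_ : IsPullback pXi fi f₀ pYi),
      IsSurjectiveMor fi := by
  obtain ⟨U₀, V₀, a, E, h₀, hV, hU, ha, has, hE, hEs, hh⟩ :=
    exists_affine_charts_mor hX₀ hY₀ f₀ hqc hYqc
  haveI := hU
  have sqR := IsPullback.of_hasPullback f₀ a
  have comm : (E ≫ pullback.fst f₀ a) ≫ f₀ = (yon S).map h₀ ≫ a := by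
    rw [Category.assoc, pullback.condition, reassoc_of% hh]
  have he : RepWith @Etale (E ≫ pullback.fst f₀ a) :=
    AlgSpLib.repWith_comp hE (AlgSpLib.repWith_of_isPullback sqR.flip ha)
  obtain ⟨i, φ, H⟩ := exists_stage D hDa c hc i₀ f₀ b₀ f pY qY hY pX hX hV a _ h₀ comm limDesc_surjective
    (hf₀ _ _ h₀ he ha comm) (fun U' V' pU pV h' a' e' sa se sU w => ⟨fun v => by
      obtain ⟨x, hx⟩ := hf (Points.map a' (Points.schemeHomeo V' v))
      obtain ⟨r, -, hr⟩ := AlgSpLib.exists_point_isPullback sqR (Points.map pX x)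
        (Points.map ((yon S).map pV) (Points.schemeHomeo V' v)) (by
          rw [← Points.map_comp, hX.w, Points.map_comp, hx, ← Points.map_comp, sa.w, Points.map_comp])
      obtain ⟨u, rfl⟩ := AlgSpLib.map_surjective_of_repWith hEs r
      obtain ⟨u, rfl⟩ := (Points.schemeHomeo U₀).surjective u
      rw [← Points.map_comp, hh, Points.map_yon_map_apply, Points.map_yon_map_apply] at hr
      obtain ⟨z, -, hz⟩ := Scheme.exists_preimage_of_isPullback (sU.map (Over.forget S)) u v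
        ((Points.schemeHomeo V₀).injective hr)
      exact ⟨z, hz⟩⟩)
  refine ⟨i, φ, fun Xi Yi fi pYi qYi hYi pXi hXi y => ?_⟩
  obtain ⟨U', V', pU, pV, h', a', e', sa, se, -, w, -, hP⟩ := H Xi Yi fi pYi qYi hYi pXi hXi
  obtain ⟨v, rfl⟩ := AlgSpLib.map_surjective_of_repWith (AlgSpLib.repWith_of_isPullback sa.flip has) y
  obtain ⟨v, rfl⟩ := (Points.schemeHomeo V').surjective v
  haveI : Surjective h'.left := hP
  obtain ⟨u, rfl⟩ := h'.left.surjective v
  refine ⟨Points.map e' (Points.schemeHomeo U' u), ?_⟩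
  rw [← Points.map_comp, w, Points.map_comp, Points.map_yon_map_apply]

include hDa hc hY hX in
/-- Descent for a separated quasi-compact representable morphism: a chart of the target over which the
base change has the property. -/
theorem descend_rep {Q P : MorphismProperty Scheme.{u}} [Q.RespectsIso]
    (hd : LimDesc Q P) (hQ : RepWith Q f₀) (hqc : RepWith @QuasiCompact f₀)
    (hsep : RepWith @IsSeparated f₀) (hYqc : IsQuasiCompactSp Y₀) (hf : RepWith P f) :
    ∃ (i : I) (φ : i ⟶ i₀), ∀ (Xi Yi : Sp S) (fi : Xi ⟶ Yi) (pYi : Yi ⟶ Y₀) (qYi : Yi ⟶ D.obj i)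
      (_ : IsPullback pYi qYi b₀ (D.map φ)) (pXi : Xi ⟶ X₀) (_ : IsPullback pXi fi f₀ pYi),
      ∃ (U' V' : Over S) (h' : U' ⟶ V') (a' : (yon S).obj V' ⟶ Yi) (e' : (yon S).obj U' ⟶ Xi),
        RepWith @Etale a' ∧ RepWith @Surjective a' ∧ IsPullback e' ((yon S).map h') fi a' ∧
        P h'.left := by
  obtain ⟨V₀, a, hV, ha, has⟩ := AlgSpLib.exists_affine_chart hYqc
  haveI : IsAffine V₀.left := hV
  obtain ⟨U₀, h₀, e, sq0⟩ : ∃ (U₀ : Over S) (h₀ : U₀ ⟶ V₀) (e : (yon S).obj U₀ ⟶ X₀),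
      IsPullback e ((yon S).map h₀) f₀ a := ⟨_, _, _, hQ.rep.isPullback a⟩
  haveI : QuasiCompact h₀.left := hqc.property a e h₀ sq0
  haveI : IsSeparated h₀.left := hsep.property a e h₀ sq0
  haveI : CompactSpace U₀.left := QuasiCompact.compactSpace_of_compactSpace h₀.left
  haveI : QuasiSeparatedSpace U₀.left := quasiSeparatedSpace_of_quasiSeparated h₀.left
  obtain ⟨i, φ, H⟩ := exists_stage D hDa c hc i₀ f₀ b₀ f pY qY hY pX hX hV a e h₀ sq0.w hd
    (hQ.property a e h₀ sq0) (fun U' V' pU pV h' a' e' sa se sU w =>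
      hf.property a' e' h' (isPullback_chart hX sq0 sU sa se w))
  refine ⟨i, φ, fun Xi Yi fi pYi qYi hYi pXi hXi => ?_⟩
  obtain ⟨U', V', pU, pV, h', a', e', sa, se, sU, w, -, hP⟩ := H Xi Yi fi pYi qYi hYi pXi hXi
  exact ⟨U', V', h', a', e', AlgSpLib.repWith_of_isPullback sa.flip ha,
    AlgSpLib.repWith_of_isPullback sa.flip has, isPullback_chart hXi sq0 sU sa se w, hP⟩

/-- The base change of a self fibre product. -/
theorem isPullback_map_self {X₀ Y₀ X' Y' : Sp S} {f₀ : X₀ ⟶ Y₀} {f' : X' ⟶ Y'} {pY : Y' ⟶ Y₀}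
    {pX : X' ⟶ X₀} (hX : IsPullback pX f' f₀ pY) :
    IsPullback (pullback.map f' f' f₀ f₀ pX pX pY hX.w.symm hX.w.symm) (pullback.fst f' f' ≫ f')
      (pullback.fst f₀ f₀ ≫ f₀) pY := by
  refine IsPullback.paste_vert ?_ hX
  refine IsPullback.of_right (h₁₂ := pullback.snd f₀ f₀) (h₂₂ := f₀) ?_ (pullback.lift_fst _ _ _)
    (IsPullback.of_hasPullback f₀ f₀).flip
  rw [pullback.lift_snd, hX.w]
  exact (IsPullback.of_hasPullback f' f').flip.paste_horiz hX

end Groth.Agent.MonoPtLib
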