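import Groth.Agent.MonoPtLib.LimAffineApps
import Groth.Agent.S9187
/-!
# Finite morphisms and closed immersions in affine limits of algebraic spaces
-/

set_option autoImplicit false
set_option backward.isDefEq.respectTransparency false
set_option backward.isDefEq.respectTransparency.types false
universe u
open CategoryTheory CategoryTheory.Limits AlgebraicGeometry AlgSp

namespace Groth.Agent.MonoPtLib

section
variable {J : Type u} [SmallCategory J] [IsCofiltered J] {W : J ⥤ Scheme.{u}}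
  {cW : Cone W} (hcW : IsLimit cW) (hW : ∀ j, IsAffine (W.obj j)) {V : Scheme.{u}} [IsAffine V]
  (p : ∀ j, W.obj j ⟶ V) (hp : ∀ {j k : J} (φ : j ⟶ k), W.map φ ≫ p k = p j)
  (hlft : ∀ j, LocallyOfFiniteType (p j)) (i : cW.pt ⟶ V) (hi : ∀ j, cW.π.app j ≫ p j = i)

include hlft hW in
theorem exists_generators (j : J) :
    ∃ s : Finset Γ(W.obj j, ⊤), Subring.closure (Set.range (p j).appTop ∪ ↑s) = ⊤ := by
  haveI := hW j; haveI := hlft j
  letI := (p j).appTop.hom.toAlgebra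
  haveI : Algebra.FiniteType Γ(V, ⊤) Γ(W.obj j, ⊤) :=
    HasRingHomProperty.appTop (P := @LocallyOfFiniteType) (p j) inferInstance
  obtain ⟨s, hs⟩ := (inferInstance : Algebra.FiniteType Γ(V, ⊤) Γ(W.obj j, ⊤)).out
  refine ⟨s, ?_⟩
  have h := congrArg Subalgebra.toSubring hs
  rw [Algebra.adjoin_eq_ring_closure, Algebra.top_toSubring] at h
  exact h

include hcW hW in
theorem exists_stage_zero (j₀ : J) (s : Finset Γ(W.obj j₀, ⊤)) (h : ∀ z ∈ s, (cW.π.app j₀).appTop z = 0) :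
    ∃ (m : J) (ψ : m ⟶ j₀), ∀ z ∈ s, (W.map ψ).appTop z = 0 := by
  classical
  haveI := hW
  induction s using Finset.induction with
  | empty => exact ⟨j₀, 𝟙 _, by simp⟩
  | insert x s hx ih =>
    obtain ⟨m, ψ, hψ⟩ := ih fun z hz => h z (Finset.mem_insert_of_mem hz)
    obtain ⟨l, φ, hφ⟩ := exists_appTop_map_eq_zero_of_isAffine_of_isLimit _ _ hcW j₀ x
      (h x (Finset.mem_insert_self _ _))
    obtain ⟨k, a, b, e⟩ := IsCofiltered.cospan ψ φ
    refine ⟨k, a ≫ ψ, fun z hz => ?_⟩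
    rcases Finset.mem_insert.1 hz with rfl | hz
    · rw [e, W.map_comp, Scheme.Hom.comp_appTop, CommRingCat.comp_apply, hφ, map_zero]
    · rw [W.map_comp, Scheme.Hom.comp_appTop, CommRingCat.comp_apply, hψ z hz, map_zero]

include hcW hW hp hi hlft in
/-- Closed immersion at a stage. -/
theorem exists_closedImmersion_stage (hc : ∀ {j k : J} (φ : j ⟶ k), IsClosedImmersion (W.map φ))
    [IsClosedImmersion i] : ∃ j, IsClosedImmersion (p j) := by
  classical
  haveI := hW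
  obtain ⟨j₀⟩ := (IsCofiltered.nonempty : Nonempty J)
  obtain ⟨s, hs⟩ := exists_generators hW p hlft j₀
  haveI : IsAffine cW.pt := isAffine_of_isAffineHom i
  choose r hr using fun b : Γ(W.obj j₀, ⊤) =>
    (IsClosedImmersion.isAffine_surjective_of_isAffine i).2 ((cW.π.app j₀).appTop b)
  have hz : ∀ b, (cW.π.app j₀).appTop ((p j₀).appTop (r b) - b) = 0 := fun b => by
    rw [map_sub, sub_eq_zero, ← CommRingCat.comp_apply, ← Scheme.Hom.comp_appTop, hi]
    exact hr b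
  obtain ⟨m, ψ, hψ⟩ := exists_stage_zero hcW hW j₀ (s.image fun b => (p j₀).appTop (r b) - b)
    (fun z hz' => by obtain ⟨b, -, rfl⟩ := Finset.mem_image.1 hz'; exact hz b)
  let K : Subring Γ(W.obj j₀, ⊤) := (p m).appTop.hom.range.comap (W.map ψ).appTop.hom
  have hK : K = ⊤ := by
    rw [eq_top_iff, ← hs, Subring.closure_le]
    rintro b (⟨a, rfl⟩ | hb)
    · refine ⟨a, ?_⟩
      rw [← hp ψ]
      rfl
    · refine ⟨r b, ?_⟩
      have h := hψ _ (Finset.mem_image.2 ⟨b, hb, rfl⟩)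
      rw [map_sub, sub_eq_zero, ← CommRingCat.comp_apply, ← Scheme.Hom.comp_appTop, hp] at h
      exact h
  refine ⟨m, IsClosedImmersion.of_surjective_of_isAffine _ fun x => ?_⟩
  haveI := hc ψ
  obtain ⟨y, rfl⟩ := (IsClosedImmersion.isAffine_surjective_of_isAffine (W.map ψ)).2 x
  exact (hK ▸ Subring.mem_top y : y ∈ K)

include hcW hW hp hi hlft in
/-- Finiteness at a stage. -/
theorem exists_finite_stage (hf : ∀ {j k : J} (φ : j ⟶ k), IsFinite (W.map φ))
    [IsIntegralHom i] : ∃ j, IsFinite (p j) := by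
  classical
  haveI := hW
  obtain ⟨j₀⟩ := (IsCofiltered.nonempty : Nonempty J)
  obtain ⟨s, hs⟩ := exists_generators hW p hlft j₀
  haveI : IsAffine cW.pt := isAffine_of_isAffineHom i
  have hint : i.appTop.hom.IsIntegral :=
    ((HasAffineProperty.iff_of_isAffine (P := @IsIntegralHom)).1 ‹IsIntegralHom i›).2
  choose P hPm hPz using fun b : Γ(W.obj j₀, ⊤) => hint ((cW.π.app j₀).appTop b)
  have hz : ∀ b, (cW.π.app j₀).appTop (Polynomial.eval₂ (p j₀).appTop.hom b (P b)) = 0 := fun b => by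
    refine (Polynomial.hom_eval₂ _ _ (cW.π.app j₀).appTop.hom _).trans ?_
    rw [← CommRingCat.hom_comp, ← Scheme.Hom.comp_appTop, hi]
    exact hPz b
  obtain ⟨m, ψ, hψ⟩ := exists_stage_zero hcW hW j₀
    (s.image fun b => Polynomial.eval₂ (p j₀).appTop.hom b (P b))
    (fun z hz' => by obtain ⟨b, -, rfl⟩ := Finset.mem_image.1 hz'; exact hz b)
  letI := (p m).appTop.hom.toAlgebra
  let K : Subring Γ(W.obj j₀, ⊤) :=
    (integralClosure Γ(V, ⊤) Γ(W.obj m, ⊤)).toSubring.comap (W.map ψ).appTop.hom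
  have hK : K = ⊤ := by
    rw [eq_top_iff, ← hs, Subring.closure_le]
    rintro b (⟨a, rfl⟩ | hb)
    · change (W.map ψ).appTop ((p j₀).appTop a) ∈ integralClosure Γ(V, ⊤) Γ(W.obj m, ⊤)
      rw [← CommRingCat.comp_apply, ← Scheme.Hom.comp_appTop, hp]
      exact isIntegral_algebraMap
    · refine ⟨P b, hPm b, ?_⟩
      have h0 := hψ _ (Finset.mem_image.2 ⟨b, hb, rfl⟩)
      refine Eq.trans ?_ h0
      refine Eq.trans ?_ (Polynomial.hom_eval₂ _ _ (W.map ψ).appTop.hom _).symm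
      rw [← CommRingCat.hom_comp, ← Scheme.Hom.comp_appTop, hp]
      rfl
  refine ⟨m, (IsFinite.iff_isIntegralHom_and_locallyOfFiniteType _).2 ⟨?_, hlft m⟩⟩
  refine (HasAffineProperty.iff_of_isAffine (P := @IsIntegralHom)).2 ⟨inferInstance, fun x => ?_⟩
  change Γ(W.obj m, ⊤) at x
  haveI := hf ψ
  have hx : (W.map ψ).appTop.hom.IsIntegralElem x :=
    ((HasAffineProperty.iff_of_isAffine (P := @IsIntegralHom)).1 (inferInstance : IsIntegralHom (W.map ψ))).2 x
  let C := integralClosure Γ(V, ⊤) Γ(W.obj m, ⊤)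
  let ψC : Γ(W.obj j₀, ⊤) →+* C := RingHom.codRestrict (W.map ψ).appTop.hom C fun y =>
    (hK ▸ Subring.mem_top y : y ∈ K)
  have hxC : _root_.IsIntegral C (x : Γ(W.obj m, ⊤)) := RingHom.IsIntegralElem.of_comp (f := ψC) (g := algebraMap C Γ(W.obj m, ⊤)) hx
  exact isIntegral_trans x hxC

end

theorem limDesc_finite : LimDesc.{u} @LocallyOfFiniteType @IsFinite := by
  intro J _ _ W cW hcW hW j₀ U h hc hs hQ U' h' q sq hP
  haveI := hc; haveI := hs; haveI : LocallyOfFiniteType h := hQ; haveI : IsFinite h' := hP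
  haveI := affine_transitions hW; haveI := hW j₀
  exact limDesc_of_stage W j₀ h (S9187.result W cW hcW j₀ h (𝟙 _) h' (𝟙 _) (cW.π.app j₀) q
    (isPullback_id_stage cW j₀) sq)

variable {S : Scheme.{u}} [QuasiSeparatedSpace S] {I : Type u} [SmallCategory I] [IsCofiltered I]

/-- A property of the limit map passes to a stage when it does so for systems of affine schemes. -/
theorem eventually_affine_prop {P T R : MorphismProperty Scheme.{u}} [P.IsStableUnderBaseChange]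
    [P.IsStableUnderComposition] [P.DescendsAlong (@Surjective ⊓ @Flat ⊓ @LocallyOfFinitePresentation)]
    (hPa : P ≤ (@IsAffineHom : MorphismProperty Scheme.{u})) (hTa : T ≤ (@IsAffineHom : MorphismProperty Scheme.{u}))
    (hTP : T ≤ P) (hRa : R ≤ (@IsAffineHom : MorphismProperty Scheme.{u}))
    (H : ∀ {J : Type u} [SmallCategory J] [IsCofiltered J] (W : J ⥤ Scheme.{u}) (cW : Cone W)
      (_ : IsLimit cW) (_ : ∀ j, IsAffine (W.obj j)) (V : Scheme.{u}) (_ : IsAffine V) (p : ∀ j, W.obj j ⟶ V)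
      (_ : ∀ {j k : J} (φ : j ⟶ k), W.map φ ≫ p k = p j) (_ : ∀ j, LocallyOfFiniteType (p j))
      (i : cW.pt ⟶ V) (_ : ∀ j, cW.π.app j ≫ p j = i) (_ : ∀ {j k : J} (φ : j ⟶ k), T (W.map φ))
      (_ : R i), ∃ j, P (p j))
    (Y : Sp S) (hY : IsAlgSpace Y) (D : I ⥤ Sp S) (hD : ∀ i, IsAlgSpace (D.obj i))
    (t : D ⟶ (Functor.const I).obj Y) (hDT : ∀ (i j : I) (φ : i ⟶ j), RepWith T (D.map φ))
    (c : Cone D) (hc : IsLimit c) (g : c.pt ⟶ Y) (hg : ∀ i, c.π.app i ≫ t.app i = g)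
    (hqc : ∀ i, IsQuasiCompactSp (D.obj i)) (hqs : ∀ i, IsQuasiSeparatedSp (D.obj i))
    (hYqc : IsQuasiCompactSp Y) (hYqs : IsQuasiSeparatedSp Y)
    (hft : ∀ i, LocP @LocallyOfFiniteType (t.app i)) (hX : RepWith R g) :
    ∃ i₀ : I, ∀ (i : I) (_ : i ⟶ i₀), RepWith P (t.app i) := by
  have hDa : ∀ (i j : I) (φ : i ⟶ j), IsAffineMor (D.map φ) := fun i j φ =>
    AlgSpLib.isAffineMor_iff.2 (AlgSpLib.repWith_mono hTa (hDT i j φ))
  obtain ⟨i₀, haff⟩ := eventually_affine Y hY D hD t hDa c hc g hg hqc hqs hYqc hYqs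
    (AlgSpLib.isAffineMor_iff.2 (AlgSpLib.repWith_mono hRa hX))
  obtain ⟨V, a, hV, ha, has⟩ := AlgSpLib.exists_affine_chart hYqc
  obtain ⟨⟨h1⟩, -, -⟩ := limit_over_data D hc i₀
  haveI : IsConnected (Over i₀) := IsCofiltered.isConnected _
  let τ : Over.forget i₀ ⋙ D ⟶ (Functor.const (Over i₀)).obj Y :=
    { app := fun k => t.app k.left, naturality := fun k l φ => t.naturality φ.left }
  obtain ⟨W, cW, i, fst, p, q, ⟨hcW⟩, -, hW, sqj, hi, -, hp, sqW⟩ :=
    exists_pullback_limit' τ (fun k => haff k.left k.hom) h1 (isLimitConstCone (Over i₀) Y) g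
      (fun k => by exact (Category.comp_id _).trans (hg k.left).symm) hV a
  have sqj' : ∀ k, IsPullback (q k) ((yon S).map (p k)) (t.app k.left) a := fun k => by
    have h := sqj k
    change IsPullback _ _ _ (a ≫ 𝟙 _) at h
    rw [Category.comp_id] at h
    exact h
  obtain ⟨hl⟩ := scheme_isLimit hcW
  obtain ⟨l, hPl⟩ := H (W ⋙ Over.forget S) _ hl hW V.left hV (fun k => (p k).left)
    (fun φ => congrArg CommaMorphism.left (hp φ).1)
    (fun k => (AlgSpLib.repWith_of_locP hY (AlgSpLib.isAffineMor_iff.1 (haff k.left k.hom)).rep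
      (hft k.left)).property _ _ _ (sqj' k))
    i.left (fun k => congrArg CommaMorphism.left (hi k))
    (fun {j k} φ => (hDT _ _ φ.left).property (q k) (q j) (W.map φ)
      (IsPullback.of_bot (v₂₁ := (yon S).map (p k)) (v₂₂ := t.app k.left) (h₃₁ := a)
        (by rw [← Functor.map_comp, (hp φ).1, t.naturality φ.left]
            change IsPullback _ _ (t.app j.left ≫ 𝟙 _) a
            rw [Category.comp_id]; exact sqj' j) (hp φ).2.symm (sqj' k)))
    (hX.property _ _ _ sqW)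
  refine ⟨l.left, fun n ψ => ?_⟩
  let k : Over i₀ := Over.mk (ψ ≫ l.hom)
  let ψ' : k ⟶ l := Over.homMk ψ
  have hk : P (p k).left := by
    rw [← (hp ψ').1, Over.comp_left]
    refine P.comp_mem _ _ (hTP _ ?_) hPl
    exact (hDT _ _ ψ'.left).property (q l) (q k) (W.map ψ')
      (IsPullback.of_bot (v₂₁ := (yon S).map (p l)) (v₂₂ := t.app l.left) (h₃₁ := a)
        (by rw [← Functor.map_comp, (hp ψ').1, t.naturality ψ'.left]
            change IsPullback _ _ (t.app k.left ≫ 𝟙 _) a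
            rw [Category.comp_id]; exact sqj' k) (hp ψ').2.symm (sqj' l))
  exact AlgSpLib.repWith_of_etale_cover hPa ha has (sqj' k) ((repWith_yon_map_iff P _).2 hk)

/-- Descent of finiteness. -/
theorem descend_finite (D : I ⥤ Sp S) (hD : ∀ i, IsAlgSpace (D.obj i))
    (hDa : ∀ (i j : I) (φ : i ⟶ j), IsAffineMor (D.map φ)) (c : Cone D) (hc : IsLimit c) (i₀ : I)
    {X₀ Y₀ : Sp S} (hX₀ : IsAlgSpace X₀) (hY₀ : IsAlgSpace Y₀) (f₀ : X₀ ⟶ Y₀) (b₀ : Y₀ ⟶ D.obj i₀)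
    (hBqs : IsQuasiSeparatedSp (D.obj i₀))
    (hXqc : IsQuasiCompactSp X₀) (hXqs : IsQuasiSeparatedSp X₀) (hYqc : IsQuasiCompactSp Y₀)
    (hYqs : IsQuasiSeparatedSp Y₀) {X Y : Sp S} (f : X ⟶ Y) (pY : Y ⟶ Y₀) (qY : Y ⟶ c.pt)
    (hY : IsPullback pY qY b₀ (c.π.app i₀)) (pX : X ⟶ X₀) (hX : IsPullback pX f f₀ pY)
    (hf : IsFiniteMor f) (hf₀ : LocP @LocallyOfFiniteType f₀) :
    ∃ (i : I) (φ : i ⟶ i₀), ∀ (Xi Yi : Sp S) (fi : Xi ⟶ Yi) (pYi : Yi ⟶ Y₀) (qYi : Yi ⟶ D.obj i)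
      (_ : IsPullback pYi qYi b₀ (D.map φ)) (pXi : Xi ⟶ X₀) (_ : IsPullback pXi fi f₀ pYi),
      IsFiniteMor fi := by
  have hfR := AlgSpLib.isFiniteMor_iff.1 hf
  obtain ⟨i, φ, Ha⟩ := descend_affine D hD hDa c hc i₀ hX₀ hY₀ f₀ b₀ hBqs hXqc hXqs hYqc hYqs f pY qY hY pX hX
    (AlgSpLib.isAffineMor_iff.2 (AlgSpLib.repWith_mono
      (fun _ _ g (_ : IsFinite g) => (inferInstance : IsAffineHom g)) hfR))
  have h1 := IsPullback.of_hasPullback b₀ (D.map φ)
  have h2 := IsPullback.of_hasPullback f₀ (pullback.fst b₀ (D.map φ))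
  have hY₁A := AlgSpLib.isAlgSpace_of_isPullback hY₀ (hD i) (hD i₀) h1
  have ha₁ := AlgSpLib.isAffineMor_iff.1 (Ha _ _ _ _ _ h1 _ h2)
  have hl := AlgSpLib.locP_of_isPullback hX₀ hY₀ hY₁A h2 hf₀
  have hY₁qc : IsQuasiCompactSp (pullback b₀ (D.map φ)) :=
    AlgSpLib.isQuasiCompactSp_source hY₀ (AlgSpLib.isQuasiCompactMor_of_repWith hY₁A hY₀
      (AlgSpLib.repWith_mono (fun _ _ g (_ : IsAffineHom g) => (inferInstance : QuasiCompact g))
        (AlgSpLib.repWith_of_isPullback h1.flip (AlgSpLib.isAffineMor_iff.1 (hDa _ _ φ))))) hYqc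
  obtain ⟨m, n, hm, hn⟩ := pullback_factor h1 h2 (α := c.π.app i) (c.w φ) hY hX
  obtain ⟨j, ψ, H⟩ := descend_rep D hDa c hc i _ (pullback.snd b₀ (D.map φ)) f m qY hm n hn
    limDesc_finite (AlgSpLib.repWith_of_locP hY₁A ha₁.rep hl)
    (AlgSpLib.repWith_mono (fun _ _ g (_ : IsAffineHom g) => (inferInstance : QuasiCompact g)) ha₁)
    (AlgSpLib.repWith_mono (fun _ _ g (_ : IsAffineHom g) => (inferInstance : IsSeparated g)) ha₁)
    hY₁qc hfR
  refine ⟨j, ψ ≫ φ, fun Xj Yj fj pYj qYj hYj pXj hXj => ?_⟩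
  obtain ⟨mj, nj, hmj, hnj⟩ := pullback_factor h1 h2 (α := D.map ψ) (D.map_comp ψ φ).symm hYj hXj
  obtain ⟨U', V', h', a', e', ha, has, sq, hP⟩ := H _ _ fj _ _ hmj _ hnj
  exact AlgSpLib.isFiniteMor_iff.2 (AlgSpLib.repWith_of_etale_cover
    (fun _ _ g (_ : IsFinite g) => (inferInstance : IsAffineHom g)) ha has sq ((repWith_yon_map_iff _ _).2 hP))

end Groth.Agent.MonoPtLib
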