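import Groth.Agent.MonoPtLib.LimAffine
import Groth.Agent.RichLib.LimTop
import Groth.Agent.AlgSpLib.Univ
import Groth.Agent.AlgSpLib.MonoRep
import Groth.Agent.AlgSpLib.Qc
import Groth.Prelude.Def_AlgSpDec
/-!
# The points of an affine limit of algebraic spaces
-/

set_option autoImplicit false
set_option backward.isDefEq.respectTransparency false
set_option backward.isDefEq.respectTransparency.types false
universe u
open CategoryTheory CategoryTheory.Limits AlgebraicGeometry AlgSp

namespace Groth.Agent.MonoPtLib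

/-- Compatible families of points of a system of schemes come from the limit. -/
theorem exists_point_limit {J : Type u} [SmallCategory J] [IsCofiltered J] {W : J ⥤ Scheme.{u}} {cW : Cone W}
    (hcW : IsLimit cW) (hW : ∀ j, IsAffine (W.obj j)) [CompactSpace cW.pt] (w : ∀ j, W.obj j)
    (hw : ∀ {j k : J} (φ : j ⟶ k), W.map φ (w j) = w k) : ∃ z : cW.pt, ∀ j, cW.π.app j z = w j := by
  classical
  haveI : ∀ (i j : J) (f : i ⟶ j), IsAffineHom (W.map f) := fun i j f =>
    haveI := hW i; haveI := hW j; inferInstance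
  let F : J → Set cW.pt := fun j => cW.π.app j ⁻¹' {w j}
  have hsingle : ∀ j, ProCons.IsProConstructible ({w j} : Set (W.obj j)) := fun j => by
    haveI := hW j
    rw [← (W.obj j).range_fromSpecResidueField (w j)]
    exact RichLib.LimTop.isProConstructible_range _
  have hne : ∀ j, (F j).Nonempty := fun j => by
    have : w j ∈ Set.range (cW.π.app j) := by
      rw [RichLib.LimTop.range_π W cW hcW j]
      exact Set.mem_iInter₂.2 fun k φ => ⟨w k, hw φ⟩
    obtain ⟨z, hz⟩ := this
    exact ⟨z, hz⟩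
  by_contra h
  have hempty : ⋂ j, F j ⊆ (∅ : Set cW.pt) := fun z hz => h ⟨z, fun j => Set.mem_iInter.1 hz j⟩
  obtain ⟨K, hK⟩ := Groth.Agent.ProConsLib.exists_finset_inter_subset
    (RichLib.LimTop.isIndConstructible_of_isOpen isOpen_empty) F
    (fun j => Groth.Agent.ProConsLib.isProConstructible_preimage _ (hsingle j)) hempty
  obtain ⟨k, hk⟩ := IsCofiltered.inf_objs_exists K
  obtain ⟨z, hz⟩ := hne k
  have hmem : z ∈ ⋂ i ∈ K, F i := by
    refine Set.mem_iInter₂.2 fun j hj => ?_
    obtain ⟨φ⟩ := hk hj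
    change cW.π.app j z = w j
    rw [← hw φ, ← RichLib.LimTop.π_map_apply W cW φ z]
    exact congrArg _ hz
  exact hK hmem

variable {S : Scheme.{u}}

theorem points_map_injective_of_mono {F G : Sp S} (hF : IsAlgSpace F) (hG : IsAlgSpace G) (f : F ⟶ G) [Mono f] :
    Function.Injective (Points.map f) :=
  AlgSpLib.isUnivInjectiveMor_of_mono hF hG (𝟙 _) (𝟙 _) f IsPullback.of_id_fst

variable {I : Type u} [SmallCategory I] [IsCofiltered I] (D : I ⥤ Sp S) (hD : ∀ i, IsAlgSpace (D.obj i))
  (hDa : ∀ (i j : I) (φ : i ⟶ j), IsAffineMor (D.map φ)) (c : Cone D) (hc : IsLimit c)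

include hD hDa hc in
theorem points_limit_bijective (hdec : ∀ i, IsDecent (D.obj i)) :
    (∀ x x' : Points c.pt, (∀ i, Points.map (c.π.app i) x = Points.map (c.π.app i) x') → x = x') ∧
    (∀ s : ∀ i, Points (D.obj i), (∀ (i j : I) (φ : i ⟶ j), Points.map (D.map φ) (s i) = s j) →
      ∃ x : Points c.pt, ∀ i, Points.map (c.π.app i) x = s i) := by
  obtain ⟨i₀⟩ := (IsCofiltered.nonempty : Nonempty I)
  have main : ∀ x₀ : Points (D.obj i₀),
      (∀ x x' : Points c.pt, Points.map (c.π.app i₀) x = x₀ →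
        (∀ i, Points.map (c.π.app i) x = Points.map (c.π.app i) x') → x = x') ∧
      (∀ s : ∀ i, Points (D.obj i), (∀ (i j : I) (φ : i ⟶ j), Points.map (D.map φ) (s i) = s j) → s i₀ = x₀ →
        ∃ x : Points c.pt, ∀ i, Points.map (c.π.app i) x = s i) := fun x₀ => by
    obtain ⟨pt, hpt, hmono, -⟩ := hdec i₀ x₀
    subst hpt
    haveI := hmono
    have hZ : IsAffine pt.pt.left := inferInstanceAs (IsAffine (Spec (CommRingCat.of pt.K)))
    let z₀ : Points ((yon S).obj pt.pt) := Points.ofScheme pt.pt (IsLocalRing.closedPoint pt.K)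
    have hz₀ : Points.map pt.toHom z₀ = Points.mk pt := by
      rw [Points.map_ofPt, Category.id_comp]
      exact (AlgSpLib.mk_eq_ofPt_toMor pt).symm
    obtain ⟨⟨h1⟩, ⟨h2⟩, h3⟩ := limit_over_data D hc i₀
    obtain ⟨W, cW, iW, fW, p, q, ⟨hcW⟩, haff, hW, sqj, hi, hfW, hp, sqW⟩ :=
      exists_pullback_limit' (overNat D i₀) (fun k => hDa _ _ k.hom) h1 h2 (c.π.app i₀) h3 hZ pt.toHom
    change ∀ k : Over i₀, (yon S).obj (W.obj k) ⟶ D.obj k.left at q
    have sqj' : ∀ k : Over i₀, IsPullback (q k) ((yon S).map (p k)) (D.map k.hom) pt.toHom := fun k => by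
      have h := sqj k
      change IsPullback _ _ _ (pt.toHom ≫ 𝟙 _) at h
      rw [Category.comp_id] at h
      exact h
    have hfW' : ∀ k : Over i₀, fW ≫ c.π.app k.left = (yon S).map (cW.π.app k) ≫ q k := hfW
    have hqinj : ∀ k, Function.Injective (Points.map (q k)) := fun k => by
      haveI : Mono (q k) :=
        MorphismProperty.of_isPullback (P := MorphismProperty.monomorphisms (Sp S)) (sqj' k).flip hmono
      exact points_map_injective_of_mono (IsAlgSpace.yon_obj _) (hD k.left) (q k)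
    obtain ⟨hl⟩ := scheme_isLimit hcW
    haveI := haff
    haveI : ∀ (i j : Over i₀) (f : i ⟶ j), IsAffineHom ((W ⋙ Over.forget S).map f) := fun i j f =>
      haveI : IsAffine ((W ⋙ Over.forget S).obj i) := hW i
      haveI : IsAffine ((W ⋙ Over.forget S).obj j) := hW j
      inferInstance
    refine ⟨fun x x' hx hxx' => ?_, fun s hs hs₀ => ?_⟩
    · obtain ⟨z, rfl, -⟩ := AlgSpLib.exists_point_isPullback sqW x z₀ (hx.trans hz₀.symm)
      obtain ⟨z', rfl, -⟩ := AlgSpLib.exists_point_isPullback sqW x' z₀ (((hxx' i₀).symm.trans hx).trans hz₀.symm)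
      obtain ⟨z, rfl⟩ := (Points.schemeHomeo cW.pt).surjective z
      obtain ⟨z', rfl⟩ := (Points.schemeHomeo cW.pt).surjective z'
      refine congrArg _ (congrArg _ ?_)
      refine RichLib.LimTop.eq_of_forall (W ⋙ Over.forget S) _ hl fun k => ?_
      refine (Points.schemeHomeo (W.obj k)).injective (hqinj k ?_)
      have h := hxx' k.left
      rw [← Points.map_comp, ← Points.map_comp, hfW' k, Points.map_comp, Points.map_comp] at h
      exact ((congrArg _ (Points.map_yon_map_apply (cW.π.app k) z)).symm.trans h).trans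
        (congrArg _ (Points.map_yon_map_apply (cW.π.app k) z'))
    · have hex : ∀ k : Over i₀, ∃ w : (W.obj k).left,
          Points.map (q k) (Points.schemeHomeo (W.obj k) w) = s k.left := fun k => by
        obtain ⟨w, hw, -⟩ := AlgSpLib.exists_point_isPullback (sqj' k) (s k.left) z₀
          ((hs _ _ k.hom).trans (hs₀.trans hz₀.symm))
        obtain ⟨w, rfl⟩ := (Points.schemeHomeo (W.obj k)).surjective w
        exact ⟨w, hw⟩
      choose w hw using hex
      haveI : CompactSpace ↥((Over.forget S).mapCone cW).pt := inferInstanceAs (CompactSpace cW.pt.left)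
      obtain ⟨z, hz⟩ := exists_point_limit hl hW w fun {j k} φ => by
        refine (Points.schemeHomeo (W.obj k)).injective (hqinj k ?_)
        change Points.map (q k) (Points.schemeHomeo (W.obj k) ((W.map φ).left (w j))) = _
        rw [hw k, ← Points.map_yon_map_apply, ← Points.map_comp,
          show (yon S).map (W.map φ) ≫ q k = q j ≫ D.map φ.left from (hp φ).2, Points.map_comp, hw j]
        exact hs _ _ φ.left
      refine ⟨Points.map fW (Points.schemeHomeo cW.pt z), fun i => ?_⟩
      have key : ∀ k : Over i₀,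
          Points.map (c.π.app k.left) (Points.map fW (Points.schemeHomeo cW.pt z)) = s k.left := fun k => by
        rw [← Points.map_comp, hfW' k, Points.map_comp, ← hw k]
        exact (congrArg _ (Points.map_yon_map_apply (cW.π.app k) z)).trans
          (congrArg (fun y => Points.map (q k) (Points.schemeHomeo (W.obj k) y)) (hz k))
      rw [← c.w (IsCofiltered.minToLeft i i₀), Points.map_comp]
      exact (congrArg _ (key (Over.mk (IsCofiltered.minToRight i i₀)))).trans (hs _ _ _)
  exact ⟨fun x x' h => (main _).1 x x' rfl h, fun s hs => (main _).2 s hs rfl⟩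

include hD hDa hc in
/-- Points of the limit in an open set have neighbourhoods coming from compact opens of stages. -/
theorem exists_basic_nhd {O : Set (Points c.pt)} (hO : IsOpen O) (x : Points c.pt) (hx : x ∈ O) :
    ∃ (k : I) (O' : Set (Points (D.obj k))), IsOpen O' ∧ IsCompact O' ∧ Points.map (c.π.app k) x ∈ O' ∧
      Points.map (c.π.app k) ⁻¹' O' ⊆ O := by
  obtain ⟨i₀⟩ := (IsCofiltered.nonempty : Nonempty I)
  obtain ⟨ι, U, a, hU, ha, -, hcov⟩ := AlgSpLib.exists_affine_charts (hD i₀)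
  obtain ⟨j, y, hy⟩ := hcov (Points.map (c.π.app i₀) x)
  obtain ⟨⟨h1⟩, ⟨h2⟩, h3⟩ := limit_over_data D hc i₀
  obtain ⟨W, cW, iW, fW, p, q, ⟨hcW⟩, haff, hW, sqj, hi, hfW, hp, sqW⟩ :=
    exists_pullback_limit' (overNat D i₀) (fun k => hDa _ _ k.hom) h1 h2 (c.π.app i₀) h3 (hU j) (a j)
  change ∀ k : Over i₀, (yon S).obj (W.obj k) ⟶ D.obj k.left at q
  have sqj' : ∀ k : Over i₀, IsPullback (q k) ((yon S).map (p k)) (D.map k.hom) (a j) := fun k => by
    have h := sqj k
    change IsPullback _ _ _ (a j ≫ 𝟙 _) at h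
    rw [Category.comp_id] at h
    exact h
  have hfW' : ∀ k : Over i₀, fW ≫ c.π.app k.left = (yon S).map (cW.π.app k) ≫ q k := hfW
  obtain ⟨z, hz, -⟩ := AlgSpLib.exists_point_isPullback sqW x y hy.symm
  obtain ⟨z, rfl⟩ := (Points.schemeHomeo cW.pt).surjective z
  haveI : ∀ {i j : Over i₀} (f : i ⟶ j), IsAffineHom ((W ⋙ Over.forget S).map f) := fun {i j} f =>
    haveI : IsAffine ((W ⋙ Over.forget S).obj i) := hW i
    haveI : IsAffine ((W ⋙ Over.forget S).obj j) := hW j
    inferInstance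
  obtain ⟨hl⟩ := scheme_isLimit hcW
  have hO₁ : IsOpen ((fun t => Points.map fW (Points.schemeHomeo cW.pt t)) ⁻¹' O) :=
    hO.preimage ((Points.continuous_map fW).comp (Points.schemeHomeo cW.pt).continuous)
  obtain ⟨_, ⟨k, V, hV, rfl⟩, hzV, hVsub⟩ :=
    TopologicalSpace.Opens.isBasis_iff_nbhd.mp (isBasis_preimage_isAffineOpen (W ⋙ Over.forget S) _ hl)
      (U := ⟨_, hO₁⟩) (x := z) (by change Points.map fW _ ∈ O; rw [hz]; exact hx)
  have hsqk : IsPullback fW ((yon S).map (cW.π.app k)) (c.π.app k.left) (q k) :=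
    IsPullback.of_bot (v₂₁ := (yon S).map (p k)) (v₂₂ := D.map k.hom) (h₃₁ := a j)
      (by rw [← Functor.map_comp, hi, c.w]; exact sqW) (hfW' k) (sqj' k)
  refine ⟨k.left, Points.ofPt (q k) '' V.carrier,
    AlgSpLib.isOpenMap_ofPt (AlgSpLib.repWith_of_isPullback (sqj' k).flip (ha j)) _ V.2,
    hV.isCompact.image (Points.continuous_ofPt _), ?_, fun x' hx' => ?_⟩
  · refine ⟨(cW.π.app k).left z, hzV, ?_⟩
    rw [← hz, ← Points.map_comp, hfW' k, Points.map_comp]
    exact (Points.ofPt_eq_map_ofScheme (q k) _).trans (congrArg _ (Points.map_yon_map_apply (cW.π.app k) z).symm)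
  · obtain ⟨o, ho, he⟩ := hx'
    obtain ⟨z', hz', hzo⟩ := AlgSpLib.exists_point_isPullback hsqk x' (Points.schemeHomeo (W.obj k) o)
      (by rw [← he]; exact Points.ofPt_eq_map_ofScheme (q k) o)
    obtain ⟨z', rfl⟩ := (Points.schemeHomeo cW.pt).surjective z'
    have h' := (Points.schemeHomeo (W.obj k)).injective ((Points.map_yon_map_apply (cW.π.app k) z').symm.trans hzo)
    rw [← hz']
    exact hVsub (show (cW.π.app k).left z' ∈ V.carrier from h' ▸ ho)

include hD hDa hc in
theorem points_limit_topology :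
    Points.topologicalSpace c.pt =
      ⨅ i, TopologicalSpace.induced (Points.map (c.π.app i)) (Points.topologicalSpace (D.obj i)) := by
  refine le_antisymm (le_iInf fun i => continuous_iff_le_induced.1 (Points.continuous_map _)) ?_
  intro O hO
  refine (@isOpen_iff_forall_mem_open _ (⨅ i, TopologicalSpace.induced (Points.map (c.π.app i))
    (Points.topologicalSpace (D.obj i))) O).2 fun x hx => ?_
  obtain ⟨k, O', hO', -, hxO', hsub⟩ := exists_basic_nhd D hD hDa c hc hO x hx
  exact ⟨_, hsub, (iInf_le (fun i => TopologicalSpace.induced (Points.map (c.π.app i))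
    (Points.topologicalSpace (D.obj i))) k) _ ⟨O', hO', rfl⟩, hxO'⟩

include hD hDa hc in
/-- Quasi-compact opens of the limit come from stages. -/
theorem exists_qcOpen_stage (U : Sp S) (j : U ⟶ c.pt) (hj : RepWith @IsOpenImmersion j)
    (hU : IsQuasiCompactSp U) :
    ∃ (i : I) (Ui : Sp S) (ji : Ui ⟶ D.obj i) (q : U ⟶ Ui),
      RepWith @IsOpenImmersion ji ∧ IsQuasiCompactSp Ui ∧ IsPullback j q (c.π.app i) ji := by
  classical
  have hcA := isAlgSpace_limit D hD hDa hc
  have hUA : IsAlgSpace U := AlgSpLib.isAlgSpace_of_representable hcA j hj.rep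
  have hR : IsOpen (Set.range (Points.map j)) :=
    (AlgSpLib.isOpenMap_map_of_isEtaleMor hUA (AlgSpLib.isEtaleMor_of_openImmersion hj)).isOpen_range
  haveI := AlgSpLib.compactSpace_points_of_isQuasiCompactSp hU
  have hRc : IsCompact (Set.range (Points.map j)) := isCompact_range (Points.continuous_map j)
  choose k O hO hOc hxO hsub using fun x : Set.range (Points.map j) =>
    exists_basic_nhd D hD hDa c hc hR x.1 x.2
  obtain ⟨s, hs⟩ := hRc.elim_finite_subcover (fun x => Points.map (c.π.app (k x)) ⁻¹' O x)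
    (fun x => (hO x).preimage (Points.continuous_map _)) fun x hx => Set.mem_iUnion.2 ⟨⟨x, hx⟩, hxO _⟩
  obtain ⟨i, hi⟩ := IsCofiltered.inf_objs_exists (s.image k)
  let ψ : ∀ x, x ∈ s → (i ⟶ k x) := fun x hx => (hi (Finset.mem_image_of_mem k hx)).some
  let O₁ : Set (Points (D.obj i)) := ⋃ x : s, Points.map (D.map (ψ x.1 x.2)) ⁻¹' O x.1
  have hO₁ : IsOpen O₁ := isOpen_iUnion fun x => (hO x.1).preimage (Points.continuous_map _)
  have hpre : Points.map (c.π.app i) ⁻¹' O₁ = Set.range (Points.map j) := by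
    ext y
    simp only [O₁, Set.mem_preimage, Set.mem_iUnion, ← Points.map_comp, c.w]
    constructor
    · rintro ⟨x, hx⟩
      exact hsub x.1 hx
    · intro hy
      obtain ⟨x, hx, hy'⟩ := Set.mem_iUnion₂.1 (hs hy)
      exact ⟨⟨x, hx⟩, hy'⟩
  -- shrink to a compact open
  obtain ⟨A, a, ha, has⟩ := (hD i).atlas
  have hloc : ∀ y : Points (D.obj i), y ∈ O₁ → ∃ O₂ : Set (Points (D.obj i)),
      IsOpen O₂ ∧ IsCompact O₂ ∧ y ∈ O₂ ∧ O₂ ⊆ O₁ := fun y hy => by
    obtain ⟨t, rfl⟩ := AlgSpLib.surjective_ofPt has y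
    obtain ⟨V, hV, htV, hVO⟩ := exists_isAffineOpen_mem_and_subset (X := A.left)
      (U := ⟨_, hO₁.preimage (Points.continuous_ofPt a)⟩) (x := t) hy
    exact ⟨Points.ofPt a '' V, AlgSpLib.isOpenMap_ofPt ha _ V.2, hV.isCompact.image (Points.continuous_ofPt a),
      ⟨t, htV, rfl⟩, Set.image_subset_iff.2 hVO⟩
  choose O₂ hO₂ hO₂c hyO₂ hO₂sub using hloc
  have himg : Points.map (c.π.app i) '' Set.range (Points.map j) ⊆ O₁ :=
    Set.image_subset_iff.2 hpre.ge
  obtain ⟨t, ht⟩ := (hRc.image (Points.continuous_map (c.π.app i))).elim_finite_subcover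
    (fun y : O₁ => O₂ y.1 y.2) (fun y => hO₂ y.1 y.2)
    fun y hy => Set.mem_iUnion.2 ⟨⟨y, himg hy⟩, hyO₂ _ _⟩
  let O₃ : Set (Points (D.obj i)) := ⋃ y ∈ t, O₂ y.1 y.2
  have hO₃ : IsOpen O₃ := isOpen_biUnion fun y _ => hO₂ y.1 y.2
  have hO₃c : IsCompact O₃ := t.isCompact_biUnion fun y _ => hO₂c y.1 y.2
  have hpre₃ : Points.map (c.π.app i) ⁻¹' O₃ = Set.range (Points.map j) := by
    refine le_antisymm (fun y hy => hpre.le ?_) fun y hy => ht ⟨y, hy, rfl⟩
    obtain ⟨z, -, hz⟩ := Set.mem_iUnion₂.1 hy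
    exact hO₂sub _ _ hz
  have hι := AlgSpLib.repWith_openSubι (D.obj i) hO₃
  let ι := AlgSpLib.openSubι (D.obj i) O₃
  have hUiA := AlgSpLib.isAlgSpace_openSub (hD i) hO₃
  haveI : Mono ι := AlgSpLib.mono_of_openImmersion hι
  have hemb : Topology.IsOpenEmbedding (Points.map ι) :=
    Topology.IsOpenEmbedding.of_continuous_injective_isOpenMap (Points.continuous_map ι)
      (points_map_injective_of_mono hUiA (hD i) ι)
      (AlgSpLib.isOpenMap_map_of_isEtaleMor hUiA (AlgSpLib.isEtaleMor_of_openImmersion hι))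
  have hUiqc : IsQuasiCompactSp (AlgSpLib.openSub (D.obj i) O₃) := by
    refine AlgSpLib.isQuasiCompactSp_of_compactSpace hUiA ⟨?_⟩
    rw [hemb.isInducing.isCompact_iff, Set.image_univ, AlgSpLib.range_openSubι]
    exact hO₃c
  have sqP := IsPullback.of_hasPullback (c.π.app i) ι
  have hfst : RepWith @IsOpenImmersion (pullback.fst (c.π.app i) ι) :=
    AlgSpLib.repWith_of_isPullback sqP.flip hι
  haveI : Mono j := AlgSpLib.mono_of_openImmersion hj
  haveI : Mono (pullback.fst (c.π.app i) ι) := AlgSpLib.mono_of_openImmersion hfst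
  have hrange : Set.range (Points.map (pullback.fst (c.π.app i) ι)) = Set.range (Points.map j) := by
    rw [AlgSpLib.range_map_of_isPullback sqP.flip, AlgSpLib.range_openSubι, hpre₃]
  obtain ⟨l, hl⟩ := (AlgSpLib.exists_factor_iff hfst j).2 hrange.ge
  obtain ⟨m, hm⟩ := (AlgSpLib.exists_factor_iff hj (pullback.fst (c.π.app i) ι)).2 hrange.le
  let e : pullback (c.π.app i) ι ≅ U :=
    { hom := m
      inv := l
      hom_inv_id := by rw [← cancel_mono (pullback.fst (c.π.app i) ι), Category.assoc, hl, hm, Category.id_comp]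
      inv_hom_id := by rw [← cancel_mono j, Category.assoc, hm, hl, Category.id_comp] }
  exact ⟨i, _, ι, e.inv ≫ pullback.snd _ _, hι, hUiqc,
    sqP.of_iso e (Iso.refl _) (Iso.refl _) (Iso.refl _) (by simp [e, hm]) (by simp) (by simp) (by simp)⟩

end Groth.Agent.MonoPtLib
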