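import Groth.Agent.MonoPtLib.LimClosed
import Groth.Agent.MonoPtLib.LimPoints
import Groth.Agent.MonoPtLib.LimAffineApps
/-!
# Immersions into a limit are immersions into a stage
-/

set_option autoImplicit false
set_option backward.isDefEq.respectTransparency false
set_option backward.isDefEq.respectTransparency.types false
universe u
open CategoryTheory CategoryTheory.Limits AlgebraicGeometry AlgSp

namespace Groth.Agent.MonoPtLib

variable {S : Scheme.{u}}

/-- The image of an immersion is closed in an open set. -/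
theorem isOpen_coborder_range {F G : Sp S} (hG : IsAlgSpace G) {f : F ⟶ G} (hf : RepWith @IsImmersion f) :
    IsOpen (coborder (Set.range (Points.map f))) := by
  obtain ⟨U, a, ha, has⟩ := hG.atlas
  rw [← (AlgSpLib.isQuotientMap_ofPt ha has).isOpen_preimage,
    ← coborder_preimage (AlgSpLib.isOpenMap_ofPt ha) (Points.continuous_ofPt a)]
  haveI : IsImmersion (hf.rep.snd a).left := hf.property_snd a
  have e : Points.ofPt a ⁻¹' Set.range (Points.map f) = Set.range (hf.rep.snd a).left := by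
    ext t
    rw [Set.mem_preimage, show Points.ofPt a t = _ from Points.ofPt_eq_map_ofScheme a t, ← Set.mem_preimage,
      ← AlgSpLib.range_map_of_isPullback (hf.rep.isPullback a)]
    constructor
    · rintro ⟨w, hw⟩
      obtain ⟨w, rfl⟩ := (Points.schemeHomeo _).surjective w
      exact ⟨w, (Points.schemeHomeo U).injective ((Points.map_yon_map_apply _ w).symm.trans hw)⟩
    · rintro ⟨w, rfl⟩
      exact ⟨Points.schemeHomeo _ w, Points.map_yon_map_apply _ w⟩
  rw [e]
  exact (hf.rep.snd a).left.isLocallyClosed_range.isOpen_coborder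

/-- An immersion with closed image is a closed immersion. -/
theorem closedImmersion_of_isClosed_range {F G : Sp S} {f : F ⟶ G} (hf : RepWith @IsImmersion f)
    (h : IsClosed (Set.range (Points.map f))) : RepWith @IsClosedImmersion f := by
  refine ⟨hf.rep, fun T W g fst snd sq => ?_⟩
  haveI : IsImmersion snd.left := hf.property g fst snd sq
  refine IsClosedImmersion.of_isPreimmersion snd.left ?_
  have e : Set.range snd.left =
      Points.schemeHomeo T ⁻¹' (Points.map g ⁻¹' Set.range (Points.map f)) := by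
    ext t
    rw [Set.mem_preimage, ← AlgSpLib.range_map_of_isPullback sq]
    constructor
    · rintro ⟨w, rfl⟩
      exact ⟨Points.schemeHomeo W w, Points.map_yon_map_apply _ w⟩
    · rintro ⟨w, hw⟩
      obtain ⟨w, rfl⟩ := (Points.schemeHomeo W).surjective w
      exact ⟨w, (Points.schemeHomeo T).injective ((Points.map_yon_map_apply _ w).symm.trans hw)⟩
  rw [e]
  exact (h.preimage (Points.continuous_map g)).preimage (Points.schemeHomeo T).continuous

variable {I : Type u} [SmallCategory I] [IsCofiltered I] (D : I ⥤ Sp S)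
  (hD : ∀ i, IsAlgSpace (D.obj i)) (hDa : ∀ (i j : I) (φ : i ⟶ j), IsAffineMor (D.map φ))
  (c : Cone D) (hc : IsLimit c)

include hD hDa hc in
/-- Compact sets of the limit have neighbourhoods coming from compact opens of stages. -/
theorem exists_qcOpen_nhd {U : Set (Points c.pt)} (hU : IsOpen U) {K : Set (Points c.pt)}
    (hK : IsCompact K) (hKU : K ⊆ U) :
    ∃ (i : I) (O : Set (Points (D.obj i))), IsOpen O ∧ IsCompact O ∧
      Points.map (c.π.app i) '' K ⊆ O ∧ Points.map (c.π.app i) ⁻¹' O ⊆ U := by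
  classical
  choose k O hO hOc hxO hsub using fun x : K =>
    exists_basic_nhd D hD hDa c hc hU x.1 (hKU x.2)
  obtain ⟨s, hs⟩ := hK.elim_finite_subcover (fun x => Points.map (c.π.app (k x)) ⁻¹' O x)
    (fun x => (hO x).preimage (Points.continuous_map _)) fun x hx => Set.mem_iUnion.2 ⟨⟨x, hx⟩, hxO _⟩
  obtain ⟨i, hi⟩ := IsCofiltered.inf_objs_exists (s.image k)
  let ψ : ∀ x, x ∈ s → (i ⟶ k x) := fun x hx => (hi (Finset.mem_image_of_mem k hx)).some
  let O₁ : Set (Points (D.obj i)) := ⋃ x : s, Points.map (D.map (ψ x.1 x.2)) ⁻¹' O x.1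
  have hO₁ : IsOpen O₁ := isOpen_iUnion fun x => (hO x.1).preimage (Points.continuous_map _)
  have hpre : Points.map (c.π.app i) ⁻¹' O₁ ⊆ U := fun y hy => by
    simp only [O₁, Set.mem_preimage, Set.mem_iUnion, ← Points.map_comp, c.w] at hy
    obtain ⟨x, hx⟩ := hy
    exact hsub x.1 hx
  have hK₁ : Points.map (c.π.app i) '' K ⊆ O₁ := by
    rintro _ ⟨y, hy, rfl⟩
    obtain ⟨x, hx, hy'⟩ := Set.mem_iUnion₂.1 (hs hy)
    refine Set.mem_iUnion.2 ⟨⟨x, hx⟩, ?_⟩
    rw [Set.mem_preimage, ← Points.map_comp, c.w]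
    exact hy'
  -- shrink to a compact open
  obtain ⟨A, a, ha, has⟩ := (hD i).atlas
  have hloc : ∀ y : Points (D.obj i), y ∈ O₁ → ∃ O₂ : Set (Points (D.obj i)),
      IsOpen O₂ ∧ IsCompact O₂ ∧ y ∈ O₂ ∧ O₂ ⊆ O₁ := fun y hy => by
    obtain ⟨t, rfl⟩ := AlgSpLib.surjective_ofPt has y
    obtain ⟨V, hV, htV, hVO⟩ := exists_isAffineOpen_mem_and_subset (X := A.left)
      (U := ⟨_, hO₁.preimage (Points.continuous_ofPt a)⟩) (x := t) hy
    exact ⟨Points.ofPt a '' V, AlgSpLib.isOpenMap_ofPt ha _ V.2, hV.isCompact.image (Points.continuous_ofPt a),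
      ⟨t, htV, rfl⟩, Set.image_subset_iff.2 hVO⟩
  choose O₂ hO₂ hO₂c hyO₂ hO₂sub using hloc
  obtain ⟨t, ht⟩ := (hK.image (Points.continuous_map (c.π.app i))).elim_finite_subcover
    (fun y : O₁ => O₂ y.1 y.2) (fun y => hO₂ y.1 y.2)
    fun y hy => Set.mem_iUnion.2 ⟨⟨y, hK₁ hy⟩, hyO₂ _ _⟩
  refine ⟨i, ⋃ y ∈ t, O₂ y.1 y.2, isOpen_biUnion fun y _ => hO₂ y.1 y.2,
    t.isCompact_biUnion fun y _ => hO₂c y.1 y.2, ht, fun y hy => hpre ?_⟩
  obtain ⟨z, -, hz⟩ := Set.mem_iUnion₂.1 hy
  exact hO₂sub _ _ hz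

include hD hDa hc in
/-- Immersions into a limit are eventually immersions into the stages. -/
theorem eventually_immersion (B : Sp S) (hB : IsAlgSpace B) (t : D ⟶ (Functor.const I).obj B)
    (Y : Sp S) (hY : IsAlgSpace Y) (hYqc : IsQuasiCompactSp Y) (y : Y ⟶ c.pt) (hy : RepWith @IsImmersion y)
    (i₁ : I) (hYB : LocP @LocallyOfFiniteType (y ≫ c.π.app i₁ ≫ t.app i₁)) :
    ∃ i₀ : I, ∀ (i : I) (_ : i ⟶ i₀), RepWith @IsImmersion (y ≫ c.π.app i) := by
  have hcA := isAlgSpace_limit D hD hDa hc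
  haveI := AlgSpLib.compactSpace_points_of_isQuasiCompactSp hYqc
  let R : Set (Points c.pt) := Set.range (Points.map y)
  obtain ⟨i, O, hO, hOc, hRO, hOU⟩ := exists_qcOpen_nhd D hD hDa c hc
    (isOpen_coborder_range hcA hy) (isCompact_range (Points.continuous_map y)) subset_coborder
  have hι := AlgSpLib.repWith_openSubι (D.obj i) hO
  let ι := AlgSpLib.openSubι (D.obj i) O
  have hUiA := AlgSpLib.isAlgSpace_openSub (hD i) hO
  haveI : Mono ι := AlgSpLib.mono_of_openImmersion hι
  have hemb : Topology.IsOpenEmbedding (Points.map ι) :=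
    Topology.IsOpenEmbedding.of_continuous_injective_isOpenMap (Points.continuous_map ι)
      (points_map_injective_of_mono hUiA (hD i) ι)
      (AlgSpLib.isOpenMap_map_of_isEtaleMor hUiA (AlgSpLib.isEtaleMor_of_openImmersion hι))
  have hUiqc : IsQuasiCompactSp (AlgSpLib.openSub (D.obj i) O) := by
    refine AlgSpLib.isQuasiCompactSp_of_compactSpace hUiA ⟨?_⟩
    rw [hemb.isInducing.isCompact_iff, Set.image_univ, AlgSpLib.range_openSubι]
    exact hOc
  -- pass below `i₁`
  let i₂ := IsCofiltered.min i i₁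
  let a := IsCofiltered.minToLeft i i₁
  let b := IsCofiltered.minToRight i i₁
  obtain ⟨⟨h1⟩, -, -⟩ := limit_over_data D hc i₂
  let t' : Over.forget i₂ ⋙ D ⟶ (Functor.const (Over i₂)).obj (D.obj i) :=
    overNat D i₂ ≫ (Functor.const (Over i₂)).map (D.map a)
  obtain ⟨P, cP, hcP, u, r, f, s, sqk, sqlim, sqtr, hPr, hs, hu⟩ :=
    exists_pullback_system t' h1 (c.π.app i)
      (fun k => by
        change c.π.app k.left ≫ D.map k.hom ≫ D.map a = _
        rw [← Category.assoc, c.w, c.w]) ι
  have hu' : ∀ k, RepWith @IsOpenImmersion (u k) := fun k => AlgSpLib.repWith_of_isPullback (sqk k).flip hι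
  have hf : RepWith @IsOpenImmersion f := AlgSpLib.repWith_of_isPullback sqlim.flip hι
  haveI : Mono f := AlgSpLib.mono_of_openImmersion hf
  have hPA : ∀ k, IsAlgSpace (P.obj k) := fun k =>
    AlgSpLib.isAlgSpace_of_representable (hD k.left) (u k) (hu' k).rep
  have hPa : ∀ (k l : Over i₂) (φ : k ⟶ l), IsAffineMor (P.map φ) := fun k l φ =>
    AlgSpLib.isAffineMor_iff.2 (AlgSpLib.repWith_of_isPullback (sqtr φ)
      (AlgSpLib.isAffineMor_iff.1 (hDa k.left l.left φ.left)))
  have hrange : Set.range (Points.map f) = Points.map (c.π.app i) ⁻¹' O := by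
    rw [AlgSpLib.range_map_of_isPullback sqlim.flip]
    exact congrArg _ (AlgSpLib.range_openSubι _)
  have hRf : R ⊆ Set.range (Points.map f) := by
    rw [hrange]
    exact Set.image_subset_iff.1 hRO
  obtain ⟨y', hy'⟩ := (AlgSpLib.exists_factor_iff hf y).2 hRf
  have hy'imm : RepWith @IsImmersion y' := by
    have sq : IsPullback (𝟙 Y) y' y f :=
      ⟨⟨by rw [Category.id_comp, hy']⟩, ⟨PullbackCone.IsLimit.mk _ (fun s => s.fst)
        (fun s => Category.comp_id _)
        (fun s => by rw [← cancel_mono f, Category.assoc, hy', s.condition])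
        (fun s m h1 _ => by simpa using h1)⟩⟩
    exact AlgSpLib.repWith_of_isPullback sq hy
  have hy'cl : RepWith @IsClosedImmersion y' := by
    refine closedImmersion_of_isClosed_range hy'imm ?_
    have e : Set.range (Points.map y') = Points.map f ⁻¹' closure R := by
      ext z
      constructor
      · rintro ⟨w, rfl⟩
        exact subset_closure ⟨w, by rw [← Points.map_comp, hy']⟩
      · intro hz
        have h2 : Points.map f z ∈ coborder R := hOU (hrange.le ⟨z, rfl⟩)
        have h3 : Points.map f z ∈ closure R ∩ coborder R := ⟨hz, h2⟩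
        rw [closure_inter_coborder] at h3
        obtain ⟨w, hw⟩ := h3
        refine ⟨w, points_map_injective_of_mono (AlgSpLib.isAlgSpace_of_representable hcA f hf.rep) hcA f ?_⟩
        rw [← Points.map_comp, hy', hw]
    rw [e]
    exact isClosed_closure.preimage (Points.continuous_map f)
  let k₀ : Over i₂ := Over.mk (𝟙 i₂)
  have hqc₀ : IsQuasiCompactSp (P.obj k₀) :=
    AlgSpLib.isQuasiCompactSp_of_mor hUiA
      (AlgSpLib.isQuasiCompactMor_of_repWith (hPA k₀) hUiA
        (AlgSpLib.repWith_mono (fun _ _ g (_ : IsAffineHom g) => (inferInstance : QuasiCompact g))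
          (AlgSpLib.repWith_of_isPullback (sqk k₀) (by
            change RepWith @IsAffineHom (D.map (𝟙 i₂) ≫ D.map a)
            rw [← D.map_comp, Category.id_comp]
            exact AlgSpLib.isAffineMor_iff.1 (hDa _ _ a))))) hUiqc
  obtain ⟨k, hk⟩ := eventually_closedImmersion B hB P hPA hPa cP hcP Y hY y' hy'cl k₀ hqc₀
    (u k₀ ≫ D.map b ≫ t.app i₁) (by
      have e : y' ≫ cP.π.app k₀ ≫ u k₀ ≫ D.map b ≫ t.app i₁ = y ≫ c.π.app i₁ ≫ t.app i₁ := by
        rw [reassoc_of% (hu k₀), reassoc_of% hy']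
        change y ≫ c.π.app i₂ ≫ D.map b ≫ t.app i₁ = _
        rw [← Category.assoc (c.π.app i₂), c.w]
      rw [e]
      exact hYB)
  refine ⟨k.left, fun i' φ => ?_⟩
  let k' : Over i₂ := Over.mk (φ ≫ k.hom)
  have e : y ≫ c.π.app i' = (y' ≫ cP.π.app k') ≫ u k' := by
    rw [Category.assoc, hu k', reassoc_of% hy']
    rfl
  rw [e]
  exact AlgSpLib.repWith_comp
    (AlgSpLib.repWith_mono (fun _ _ g (_ : IsClosedImmersion g) => (inferInstance : IsImmersion g))
      (hk k' (Over.homMk φ)))
    (AlgSpLib.repWith_mono (fun _ _ g (_ : IsOpenImmersion g) => (inferInstance : IsImmersion g)) (hu' k'))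

end Groth.Agent.MonoPtLib
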