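import Groth.Agent.MonoPtLib.LimAffine
import Groth.Agent.AlgSpLib.Noeth
import Groth.Agent.AlgSpLib.SheafDesc
/-!
# Closed immersion systems with finitely presented limit are eventually constant
-/

set_option autoImplicit false
set_option backward.isDefEq.respectTransparency false
set_option backward.isDefEq.respectTransparency.types false
universe u
open CategoryTheory CategoryTheory.Limits AlgebraicGeometry AlgSp

namespace Groth.Agent.MonoPtLib

variable {S : Scheme.{u}} {I : Type u} [SmallCategory I] [IsCofiltered I]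

theorem isAffineMor_of_closedImmersion {F G : Sp S} {f : F ⟶ G} (hf : RepWith @IsClosedImmersion f) :
    IsAffineMor f :=
  AlgSpLib.isAffineMor_iff.2
    (AlgSpLib.repWith_mono (fun _ _ g (_ : IsClosedImmersion g) => (inferInstance : IsAffineHom g)) hf)

theorem mono_map (D : I ⥤ Sp S) (hDc : ∀ (i j : I) (φ : i ⟶ j), RepWith @IsClosedImmersion (D.map φ))
    {i j : I} (φ : i ⟶ j) : Mono (D.map φ) :=
  AlgSpLib.mono_of_repWith (fun g (_ : IsClosedImmersion g) => inferInstance) (hDc i j φ)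

/-- Closed immersion systems with finitely presented limit are eventually constant. -/
theorem eventually_iso (B : Sp S) (hB : IsAlgSpace B) (D : I ⥤ Sp S) (hD : ∀ i, IsAlgSpace (D.obj i))
    (hDc : ∀ (i j : I) (φ : i ⟶ j), RepWith @IsClosedImmersion (D.map φ))
    (c : Cone D) (hc : IsLimit c) (i₁ : I) (hqc : IsQuasiCompactSp (D.obj i₁))
    (t₁ : D.obj i₁ ⟶ B) (hft : LocP @LocallyOfFiniteType t₁)
    (hX : LocP @LocallyOfFinitePresentation (c.π.app i₁ ≫ t₁)) :
    ∃ i₀ : I, ∀ (i : I) (_ : i ⟶ i₀), IsIso (c.π.app i) := by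
  have hDa : ∀ (i j : I) (φ : i ⟶ j), IsAffineMor (D.map φ) :=
    fun i j φ => isAffineMor_of_closedImmersion (hDc i j φ)
  have hπ : LocP @LocallyOfFinitePresentation (c.π.app i₁) :=
    AlgSpLib.locP_lfp_of_comp (isAlgSpace_limit D hD hDa hc) (hD i₁) hB hX hft
  obtain ⟨E, b, hE, hb, hbs⟩ := AlgSpLib.exists_affine_chart hqc
  obtain ⟨⟨h1⟩, ⟨h2⟩, h3⟩ := limit_over_data D hc i₁
  obtain ⟨Z, cZ, ι, fZ, p, q, ⟨hcZ⟩, haff, hZ, sqj, hi, hfZ, hp, sqZ⟩ :=
    exists_pullback_limit' (overNat D i₁) (fun k => hDa _ _ k.hom) h1 h2 (c.π.app i₁) h3 hE b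
  change ∀ k : Over i₁, (yon S).obj (Z.obj k) ⟶ D.obj k.left at q
  have sqj' : ∀ k : Over i₁, IsPullback (q k) ((yon S).map (p k)) (D.map k.hom) b := fun k => by
    have h := sqj k
    change IsPullback _ _ _ (b ≫ 𝟙 _) at h
    rw [Category.comp_id] at h
    exact h
  have hfZ' : ∀ k : Over i₁, fZ ≫ c.π.app k.left = (yon S).map (cZ.π.app k) ≫ q k := hfZ
  have sqk : ∀ k : Over i₁, IsPullback fZ ((yon S).map (cZ.π.app k)) (c.π.app k.left) (q k) := fun k =>
    IsPullback.of_bot (v₂₁ := (yon S).map (p k)) (v₂₂ := D.map k.hom) (h₃₁ := b)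
      (by rw [← Functor.map_comp, hi, c.w]; exact sqZ) (hfZ' k) (sqj' k)
  let k₀ : Over i₁ := Over.mk (𝟙 i₁)
  haveI : LocallyOfFinitePresentation (cZ.π.app k₀).left :=
    (AlgSpLib.locP_yon_map_iff _).1 (AlgSpLib.locP_of_isPullback (isAlgSpace_limit D hD hDa hc) (hD i₁)
      (IsAlgSpace.yon_obj _) (sqk k₀) hπ)
  haveI : ∀ {i j : Over i₁} (f : i ⟶ j), IsAffineHom ((Z ⋙ Over.forget S).map f) := fun {i j} f =>
    haveI : IsAffine ((Z ⋙ Over.forget S).obj i) := hZ i
    haveI : IsAffine ((Z ⋙ Over.forget S).obj j) := hZ j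
    inferInstance
  haveI : ∀ k, IsAffine ((Z ⋙ Over.forget S).obj k) := hZ
  obtain ⟨hl⟩ := scheme_isLimit hcZ
  let hom₀ : ∀ k : Over i₁, k ⟶ k₀ := fun k => Over.homMk k.hom
  let t : Z ⋙ Over.forget S ⟶ (Functor.const _).obj (Z.obj k₀).left :=
    { app := fun k => (Z.map (hom₀ k)).left
      naturality := fun k l φ => by
        change (Z.map φ).left ≫ (Z.map (hom₀ l)).left = (Z.map (hom₀ k)).left ≫ 𝟙 _
        rw [Category.comp_id, ← Over.comp_left, ← Functor.map_comp,
          show φ ≫ hom₀ l = hom₀ k from Over.OverMorphism.ext (by simp [hom₀])] }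
  obtain ⟨k, u, hu, hu'⟩ := Scheme.exists_π_app_comp_eq_of_locallyOfFinitePresentation
    (Z ⋙ Over.forget S) t (cZ.π.app k₀).left _ hl (𝟙 _) (NatTrans.ext (funext fun k => by
      change (cZ.π.app k).left ≫ (Z.map (hom₀ k)).left = 𝟙 _ ≫ (cZ.π.app k₀).left
      rw [Category.id_comp, ← Over.comp_left, cZ.w]))
  change (cZ.π.app k).left ≫ u = 𝟙 cZ.pt.left at hu
  change u ≫ (cZ.π.app k₀).left = (Z.map (hom₀ k)).left at hu'
  -- the transition map is a monomorphism
  haveI : Mono (D.map k.hom) := mono_map D hDc k.hom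
  haveI : Mono ((yon S).map (p k)) :=
    MorphismProperty.of_isPullback (P := MorphismProperty.monomorphisms (Sp S)) (sqj' k)
      (inferInstanceAs (Mono (D.map k.hom)))
  haveI : Mono (p k) := (yon S).mono_of_mono_map inferInstance
  have hpk : Z.map (hom₀ k) ≫ p k₀ = p k := (hp (hom₀ k)).1
  have huS : u ≫ cZ.pt.hom = (Z.obj k).hom :=
    ((congrArg (u ≫ ·) (Over.w (cZ.π.app k₀)).symm).trans (Category.assoc u (cZ.π.app k₀).left _).symm).trans
      ((congrArg (· ≫ (Z.obj k₀).hom) hu').trans (Over.w (Z.map (hom₀ k))))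
  let u' : Z.obj k ⟶ cZ.pt := Over.homMk u huS
  have e1 : cZ.π.app k ≫ u' = 𝟙 _ := Over.OverMorphism.ext hu
  have e2 : u' ≫ cZ.π.app k = 𝟙 _ := by
    rw [← cancel_mono (p k), Category.id_comp, ← hpk, Category.assoc, ← Category.assoc (cZ.π.app k),
      cZ.w, ← Category.assoc, show u' ≫ cZ.π.app k₀ = Z.map (hom₀ k) from Over.OverMorphism.ext hu']
  haveI : IsIso (cZ.π.app k) := ⟨u', e1, e2⟩
  haveI : Sheaf.IsLocallySurjective (q k) :=
    AlgSpLib.isLocallySurjective_of_repWith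
      (AlgSpLib.repWith_mono (fun _ _ g (_ : Etale g) => (inferInstance : Flat g))
        (AlgSpLib.repWith_of_isPullback (sqj' k).flip hb))
      (AlgSpLib.repWith_mono (fun _ _ g (_ : Etale g) => (inferInstance : LocallyOfFinitePresentation g))
        (AlgSpLib.repWith_of_isPullback (sqj' k).flip hb))
      (AlgSpLib.repWith_of_isPullback (sqj' k).flip hbs)
  haveI : IsIso (c.π.app k.left) := AlgSpLib.isIso_of_isPullback (sqk k)
  refine ⟨k.left, fun i φ => ?_⟩
  haveI : Mono (D.map φ) := mono_map D hDc φ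
  have e : c.π.app i ≫ D.map φ = c.π.app k.left := c.w φ
  refine ⟨D.map φ ≫ inv (c.π.app k.left), ?_, ?_⟩
  · rw [← Category.assoc, e, IsIso.hom_inv_id]
  · rw [← cancel_mono (D.map φ), Category.assoc, e, Category.assoc, IsIso.inv_hom_id, Category.comp_id,
      Category.id_comp]

end Groth.Agent.MonoPtLib
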