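import Groth.Agent.MonoPtLib.LimLfp
import Groth.Agent.MonoPtLib.LimAffineSpace
/-!
# Morphisms of finite presentation and limits of algebraic spaces
-/

set_option autoImplicit false
set_option backward.isDefEq.respectTransparency false
set_option backward.isDefEq.respectTransparency.types false
universe u
open CategoryTheory CategoryTheory.Limits AlgebraicGeometry AlgSp Opposite

namespace Groth.Agent.MonoPtLib

variable {S : Scheme.{u}} {I : Type u} [SmallCategory I] [IsCofiltered I] (D : I ⥤ Sp S)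
  (hDa : ∀ (i j : I) (φ : i ⟶ j), IsAffineMor (D.map φ)) (c : Cone D) (hc : IsLimit c)

include hDa hc in
theorem exists_eq_stage_space {X Y : Sp S} (hX : IsAlgSpace X) (hY : IsAlgSpace Y) {f : X ⟶ Y}
    (hf : LocP @LocallyOfFiniteType f) (i : I) (hqc : IsQuasiCompactSp (D.obj i)) (a b : D.obj i ⟶ X)
    (e : a ≫ f = b ≫ f) (e' : c.π.app i ≫ a = c.π.app i ≫ b) :
    ∃ (j : I) (φ : j ⟶ i), D.map φ ≫ a = D.map φ ≫ b := by
  obtain ⟨E₀, p₀, hE₀, hp₀, hps₀⟩ := AlgSpLib.exists_affine_chart hqc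
  obtain ⟨⟨h1⟩, ⟨h2⟩, h3⟩ := limit_over_data D hc i
  obtain ⟨W, cW, ι, fst, p, q, ⟨hcW⟩, haff, hW, sqj, hi, hfW, hp, sqW⟩ :=
    exists_pullback_limit' (overNat D i) (fun k => hDa _ _ k.hom) h1 h2 (c.π.app i) h3 hE₀ p₀
  change ∀ k : Over i, (yon S).obj (W.obj k) ⟶ D.obj k.left at q
  have sqj' : ∀ k : Over i, IsPullback (q k) ((yon S).map (p k)) (D.map k.hom) p₀ := fun k => by
    have h := sqj k
    change IsPullback _ _ _ (p₀ ≫ 𝟙 _) at h
    rw [Category.comp_id] at h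
    exact h
  have hfW' : ∀ k : Over i, fst ≫ c.π.app k.left = (yon S).map (cW.π.app k) ≫ q k := hfW
  obtain ⟨hl⟩ := scheme_isLimit hcW
  let k₀ : Over i := Over.mk (𝟙 i)
  obtain ⟨k, φ, hk⟩ := exists_eq_stage W cW hl hW hX hY hf k₀ (q k₀ ≫ a) (q k₀ ≫ b)
    (by rw [Category.assoc, e, Category.assoc])
    (by rw [← Category.assoc, ← hfW', Category.assoc, ← Category.assoc ((yon S).map _), ← hfW', Category.assoc]
        exact congrArg (fst ≫ ·) e')
  refine ⟨k.left, k.hom, AlgSpLib.hom_ext_of_atlas (AlgSpLib.repWith_of_isPullback (sqj' k).flip hp₀)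
    (AlgSpLib.repWith_of_isPullback (sqj' k).flip hps₀) ?_⟩
  rw [← Category.assoc ((yon S).map (W.map φ)), ← Category.assoc ((yon S).map (W.map φ)), (hp φ).2,
    Category.assoc, Category.assoc] at hk
  change q k ≫ D.map φ.left ≫ a = q k ≫ D.map φ.left ≫ b at hk
  rw [show φ.left = k.hom from by simpa [k₀] using Over.w φ] at hk
  exact hk

variable [QuasiSeparatedSpace S] (hD : ∀ i, IsAlgSpace (D.obj i))
  (hqc : ∀ i, IsQuasiCompactSp (D.obj i)) (hqs : ∀ i, IsQuasiSeparatedSp (D.obj i))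

include hDa hc hD hqc hqs in
theorem exists_lift_stage_space {X Y : Sp S} (hX : IsAlgSpace X) (hY : IsAlgSpace Y) {f : X ⟶ Y}
    (hf : LocP @LocallyOfFinitePresentation f) (x : c.pt ⟶ X) (i : I) (y : D.obj i ⟶ Y)
    (e : x ≫ f = c.π.app i ≫ y) :
    ∃ (i' : I) (φ : i' ⟶ i) (x' : D.obj i' ⟶ X), c.π.app i' ≫ x' = x ∧ x' ≫ f = D.map φ ≫ y := by
  have hlft : LocP @LocallyOfFiniteType f := fun U V a b h ha hb e => by
    haveI : LocallyOfFinitePresentation h.left := hf a b h ha hb e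
    infer_instance
  obtain ⟨E₀, p₀, hE₀, hp₀, hps₀⟩ := AlgSpLib.exists_affine_chart (hqc i)
  obtain ⟨⟨h1⟩, ⟨h2⟩, h3⟩ := limit_over_data D hc i
  obtain ⟨W, cW, ι, fst, p, q, ⟨hcW⟩, haff, hW, sqj, hi, hfW, hp, sqW⟩ :=
    exists_pullback_limit' (overNat D i) (fun k => hDa _ _ k.hom) h1 h2 (c.π.app i) h3 hE₀ p₀
  change ∀ k : Over i, (yon S).obj (W.obj k) ⟶ D.obj k.left at q
  have sqj' : ∀ k : Over i, IsPullback (q k) ((yon S).map (p k)) (D.map k.hom) p₀ := fun k => by
    have h := sqj k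
    change IsPullback _ _ _ (p₀ ≫ 𝟙 _) at h
    rw [Category.comp_id] at h
    exact h
  have hfW' : ∀ k : Over i, fst ≫ c.π.app k.left = (yon S).map (cW.π.app k) ≫ q k := hfW
  obtain ⟨hl⟩ := scheme_isLimit hcW
  let k₀ : Over i := Over.mk (𝟙 i)
  obtain ⟨l, ψ, xl, hxl, hxl'⟩ := lifts_of_locP_lfp hX hY hf W cW hl hW haff (fst ≫ x) k₀ (q k₀ ≫ y) (by
    rw [Category.assoc, e, ← Category.assoc ((yon S).map _), ← hfW', Category.assoc]
    rfl)
  have hxlf : xl ≫ f = q l ≫ D.map l.hom ≫ y := by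
    rw [hxl', ← Category.assoc, (hp ψ).2, Category.assoc]
    change q l ≫ D.map ψ.left ≫ y = _
    rw [show ψ.left = l.hom from by simpa [k₀] using Over.w ψ]
  have sql : IsPullback fst ((yon S).map (cW.π.app l)) (c.π.app l.left) (q l) :=
    IsPullback.of_bot (v₂₁ := (yon S).map (p l)) (v₂₂ := D.map l.hom) (h₃₁ := p₀)
      (by rw [← Functor.map_comp, hi, c.w]; exact sqW) (hfW' l) (sqj' l)
  -- the kernel pair at stage `l`, with an affine cover
  have hqe := AlgSpLib.repWith_of_isPullback (sqj' l).flip hp₀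
  haveI : IsAffine (W.obj l).left := hW l
  have hqqc : RepWith @QuasiCompact (q l) :=
    (AlgSpLib.repWith_quasiCompact_iff (IsAlgSpace.yon_obj _) (hD _) hqe.rep).2
      (AlgSpLib.isQuasiCompactMor_of_qcSp_qsSp (IsAlgSpace.yon_obj _) (hD _) _
        (AlgSpLib.isQuasiCompactSp_yon _) (hqs _))
  obtain ⟨R, r₀, r₁, sqR⟩ := AlgSpLib.exists_isPullback_yon (q l) (q l) hqe.rep
  haveI : QuasiCompact r₁.left := hqqc.property (q l) ((yon S).map r₀) r₁ sqR
  haveI : CompactSpace R.left := QuasiCompact.compactSpace_of_compactSpace r₁.left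
  obtain ⟨O, π', hO, hπe, hπs⟩ := AlgSpLib.exists_affine_chart (AlgSpLib.isQuasiCompactSp_yon R)
  obtain ⟨π, rfl⟩ := (yon S).map_surjective π'
  have hr : (yon S).map (π ≫ r₀) ≫ q l = (yon S).map (π ≫ r₁) ≫ q l := by
    rw [Functor.map_comp, Functor.map_comp, Category.assoc, Category.assoc, sqR.w]
  obtain ⟨⟨h1'⟩, ⟨h2'⟩, h3'⟩ := limit_over_data D hc l.left
  obtain ⟨V, cV, ιV, fstV, pV, qV, ⟨hcV⟩, -, hV, sqjV, hiV, -, hpV, sqV⟩ :=
    exists_pullback_limit' (overNat D l.left) (fun r => hDa _ _ r.hom) h1' h2' (c.π.app l.left) h3' hO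
      ((yon S).map (π ≫ r₀) ≫ q l)
  change ∀ r : Over l.left, (yon S).obj (V.obj r) ⟶ D.obj r.left at qV
  have sqV' : ∀ r : Over l.left,
      IsPullback (qV r) ((yon S).map (pV r)) (D.map r.hom) ((yon S).map (π ≫ r₀) ≫ q l) := fun r => by
    have h := sqjV r
    change IsPullback _ _ _ (((yon S).map (π ≫ r₀) ≫ q l) ≫ 𝟙 _) at h
    rw [Category.comp_id] at h
    exact h
  let k₂ : Over l.left := Over.mk (𝟙 l.left)
  have key : ∀ ρ : O ⟶ W.obj l, (yon S).map ρ ≫ q l = (yon S).map (π ≫ r₀) ≫ q l →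
      (yon S).map (ιV ≫ ρ) ≫ xl = fstV ≫ x := fun ρ hρ => by
    obtain ⟨n, hn1, hn2⟩ : ∃ n, n ≫ fst = fstV ∧ n ≫ (yon S).map (cW.π.app l) = (yon S).map (ιV ≫ ρ) := by
      refine ⟨sql.lift fstV ((yon S).map (ιV ≫ ρ)) ?_, sql.lift_fst _ _ _, sql.lift_snd _ _ _⟩
      rw [Functor.map_comp, Category.assoc, hρ]
      exact sqV.w
    rw [← hn2, Category.assoc, hxl, ← Category.assoc, hn1]
  obtain ⟨hlV⟩ := scheme_isLimit hcV
  obtain ⟨r, φ, hφ⟩ := exists_eq_stage V cV hlV hV hX hY hlft k₂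
    ((yon S).map (pV k₂ ≫ π ≫ r₀) ≫ xl) ((yon S).map (pV k₂ ≫ π ≫ r₁) ≫ xl) (by
      simp only [Category.assoc, hxlf, Functor.map_comp]
      rw [← Category.assoc ((yon S).map r₀), sqR.w, Category.assoc]) (by
      rw [← Category.assoc, ← Functor.map_comp, ← Category.assoc (cV.π.app k₂), hiV, key _ rfl,
        ← Category.assoc ((yon S).map (cV.π.app k₂)), ← Functor.map_comp, ← Category.assoc (cV.π.app k₂), hiV,
        key _ hr.symm])
  let lm : Over i := Over.mk (r.hom ≫ l.hom)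
  let θ : lm ⟶ l := Over.homMk r.hom
  have hme := AlgSpLib.repWith_of_isPullback (sqj' lm).flip hp₀
  have hms := AlgSpLib.repWith_of_isPullback (sqj' lm).flip hps₀
  have hθ : (yon S).map (W.map θ) ≫ q l = q lm ≫ D.map r.hom := (hp θ).2
  obtain ⟨x', hx'⟩ := AlgSpLib.exists_desc_of_atlas hme hms ((yon S).map (W.map θ) ≫ xl) (fun Z z z' ez => by
    have hk : (yon S).map (z ≫ W.map θ) ≫ q l = (yon S).map (z' ≫ W.map θ) ≫ q l := by
      simp only [Functor.map_comp, Category.assoc, hθ]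
      exact (Category.assoc _ _ _).symm.trans ((congrArg (· ≫ D.map r.hom) ez).trans (Category.assoc _ _ _))
    obtain ⟨rr, hrr⟩ := (yon S).map_surjective (sqR.lift ((yon S).map (z ≫ W.map θ))
      ((yon S).map (z' ≫ W.map θ)) hk)
    have h0 : rr ≫ r₀ = z ≫ W.map θ := (yon S).map_injective (by
      rw [Functor.map_comp, hrr, sqR.lift_fst])
    have h1' : rr ≫ r₁ = z' ≫ W.map θ := (yon S).map_injective (by
      rw [Functor.map_comp, hrr, sqR.lift_snd])
    have sqZ : IsPullback ((yon S).map (pullback.fst rr π)) ((yon S).map (pullback.snd rr π))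
        ((yon S).map rr) ((yon S).map π) := (IsPullback.of_hasPullback rr π).map (yon S)
    have hc0 : pullback.fst rr π ≫ z ≫ W.map θ = pullback.snd rr π ≫ π ≫ r₀ := by
      rw [← h0, pullback.condition_assoc]
    have hc1 : pullback.fst rr π ≫ z' ≫ W.map θ = pullback.snd rr π ≫ π ≫ r₁ := by
      rw [← h1', pullback.condition_assoc]
    refine AlgSpLib.hom_ext_of_atlas (AlgSpLib.repWith_of_isPullback sqZ.flip hπe)
      (AlgSpLib.repWith_of_isPullback sqZ.flip hπs) ?_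
    simp only [← Functor.map_comp_assoc]
    rw [hc0, hc1]
    obtain ⟨v, hv⟩ := (yon S).map_surjective ((sqV' r).lift ((yon S).map (pullback.fst rr π ≫ z) ≫ q lm)
      ((yon S).map (pullback.snd rr π)) (by
        simp only [Category.assoc, ← hθ, ← Functor.map_comp_assoc]
        rw [hc0]))
    have hv' : v ≫ pV r = pullback.snd rr π := (yon S).map_injective (by
      rw [Functor.map_comp, hv, (sqV' r).lift_snd])
    have hh' := congrArg ((yon S).map v ≫ ·) hφ
    simp only [← Functor.map_comp_assoc, Category.assoc] at hh'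
    rw [← Category.assoc (V.map φ) (pV k₂), ← Category.assoc (V.map φ) (pV k₂), (hpV φ).1,
      ← Category.assoc v (pV r), ← Category.assoc v (pV r), hv'] at hh'
    exact hh')
  have hfe : RepWith @Etale fst := AlgSpLib.repWith_of_isPullback sqW.flip hp₀
  have hfs : RepWith @Surjective fst := AlgSpLib.repWith_of_isPullback sqW.flip hps₀
  refine ⟨r.left, r.hom ≫ l.hom, x', ?_, ?_⟩
  · refine AlgSpLib.hom_ext_of_atlas hfe hfs ?_
    rw [← Category.assoc, show fst ≫ c.π.app r.left = (yon S).map (cW.π.app lm) ≫ q lm from hfW' lm,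
      Category.assoc, hx', ← Category.assoc ((yon S).map (cW.π.app lm)), ← Functor.map_comp, cW.w, hxl]
  · refine AlgSpLib.hom_ext_of_atlas hme hms ?_
    rw [← Category.assoc, hx', Category.assoc, hxlf, ← Category.assoc, hθ, Category.assoc, D.map_comp,
      Category.assoc]

omit [IsCofiltered I] in
theorem colimMap_yoneda_ι_apply {X Y : Sp S} (f : X ⟶ Y) (i : Iᵒᵖ) (x : (D.op ⋙ yoneda.obj X).obj i) :
    colimMap (Functor.whiskerLeft D.op (yoneda.map f)) (colimit.ι (D.op ⋙ yoneda.obj X) i x) =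
      colimit.ι (D.op ⋙ yoneda.obj Y) i (x ≫ f) :=
  ConcreteCategory.congr_hom (ι_colimMap (Functor.whiskerLeft D.op (yoneda.map f)) i) x

omit [IsCofiltered I] in
theorem desc_yoneda_ι_apply (X : Sp S) (i : Iᵒᵖ) (x : (D.op ⋙ yoneda.obj X).obj i) :
    colimit.desc (D.op ⋙ yoneda.obj X) ((yoneda.obj X).mapCocone c.op) (colimit.ι (D.op ⋙ yoneda.obj X) i x) =
      c.π.app i.unop ≫ x :=
  ConcreteCategory.congr_hom (colimit.ι_desc ((yoneda.obj X).mapCocone c.op) i) x

include hDa hc hD hqc hqs in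
theorem isPullback_colimit_hom {X Y : Sp S} (hX : IsAlgSpace X) (hY : IsAlgSpace Y) {f : X ⟶ Y}
    (hf : LocP @LocallyOfFinitePresentation f) :
    IsPullback (colimMap (Functor.whiskerLeft D.op (yoneda.map f)))
      (colimit.desc (D.op ⋙ yoneda.obj X) ((yoneda.obj X).mapCocone c.op))
      (colimit.desc (D.op ⋙ yoneda.obj Y) ((yoneda.obj Y).mapCocone c.op))
      ((yoneda.map f).app (op c.pt)) := by
  have hlft : LocP @LocallyOfFiniteType f := fun U V a b h ha hb e => by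
    haveI : LocallyOfFinitePresentation h.left := hf a b h ha hb e
    infer_instance
  refine (Types.isPullback_iff _ _ _ _).2 ⟨colimit.hom_ext fun i => ?_, fun p p' hpp' => ?_, fun z x hzx => ?_⟩
  · rw [ι_colimMap_assoc, colimit.ι_desc, colimit.ι_desc_assoc]
    exact ((yoneda.map f).naturality _).symm
  · obtain ⟨i, x, rfl⟩ := Types.jointly_surjective' p
    obtain ⟨j, x', rfl⟩ := Types.jointly_surjective' p'
    obtain ⟨h1, h2⟩ := hpp'
    erw [colimMap_yoneda_ι_apply, colimMap_yoneda_ι_apply, Types.FilteredColimit.colimit_eq_iff] at h1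
    erw [desc_yoneda_ι_apply, desc_yoneda_ι_apply] at h2
    obtain ⟨k, u, v, huv⟩ := h1
    change D.obj i.unop ⟶ X at x
    change D.obj j.unop ⟶ X at x'
    change D.map u.unop ≫ x ≫ f = D.map v.unop ≫ x' ≫ f at huv
    obtain ⟨l, ψ, hψ⟩ := exists_eq_stage_space D hDa c hc hX hY hlft k.unop (hqc _)
      (D.map u.unop ≫ x) (D.map v.unop ≫ x') (by simpa only [Category.assoc] using huv)
      (by rw [← Category.assoc, ← Category.assoc, c.w, c.w]; exact h2)
    refine (Types.FilteredColimit.colimit_eq_iff _).2 ⟨op l, u ≫ ψ.op, v ≫ ψ.op, ?_⟩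
    change D.map (ψ ≫ u.unop) ≫ x = D.map (ψ ≫ v.unop) ≫ x'
    rw [D.map_comp, D.map_comp, Category.assoc, Category.assoc, hψ]
  · obtain ⟨i, y, rfl⟩ := Types.jointly_surjective' z
    erw [desc_yoneda_ι_apply] at hzx
    change c.pt ⟶ X at x
    change D.obj i.unop ⟶ Y at y
    change c.π.app i.unop ≫ y = x ≫ f at hzx
    obtain ⟨i', φ, x', h1, h2⟩ := exists_lift_stage_space D hDa c hc hD hqc hqs hX hY hf x i.unop y hzx.symm
    refine ⟨colimit.ι (D.op ⋙ yoneda.obj X) (op i') x', ?_, ?_⟩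
    · erw [colimMap_yoneda_ι_apply, Types.FilteredColimit.colimit_eq_iff]
      refine ⟨op i', 𝟙 _, φ.op, ?_⟩
      change D.map (𝟙 i') ≫ x' ≫ f = D.map φ ≫ y
      rw [D.map_id, Category.id_comp, h2]
    · erw [desc_yoneda_ι_apply]
      exact h1

theorem lifts_of_isPullback_colimit_hom {X Y : Sp S} {f : X ⟶ Y}
    (h : ∀ ⦃I : Type u⦄ [SmallCategory I] [IsCofiltered I] (D : I ⥤ Sp S),
      (∀ i, IsAlgSpace (D.obj i)) → (∀ (i j : I) (φ : i ⟶ j), IsAffineMor (D.map φ)) →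
      (∀ i, IsQuasiCompactSp (D.obj i)) → (∀ i, IsQuasiSeparatedSp (D.obj i)) →
      ∀ (c : Cone D) (_ : IsLimit c),
        IsPullback (colimMap (Functor.whiskerLeft D.op (yoneda.map f)))
          (colimit.desc (D.op ⋙ yoneda.obj X) ((yoneda.obj X).mapCocone c.op))
          (colimit.desc (D.op ⋙ yoneda.obj Y) ((yoneda.obj Y).mapCocone c.op))
          ((yoneda.map f).app (op c.pt))) : LiftsLimits f := by
  intro J _ _ D c hc hD hT x i y e
  haveI : IsConnected J := IsCofiltered.isConnected J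
  haveI := hD
  have hcS : IsLimit c := isLimitOfReflects (Over.forget S) hc
  obtain ⟨-, -, hsurj⟩ := (Types.isPullback_iff _ _ _ _).mp (h (D ⋙ yon S) (fun j => IsAlgSpace.yon_obj _)
    (fun j k φ => AlgSpLib.isAffineMor_iff.2 ((repWith_yon_map_iff _ _).2
      (inferInstanceAs (IsAffineHom (D.map φ).left))))
    (fun j => AlgSpLib.isQuasiCompactSp_yon _) (fun j => isQuasiSeparatedSp_yon _)
    ((yon S).mapCone c) (isLimitOfPreserves (yon S) hcS))
  obtain ⟨p, hp1, hp2⟩ := hsurj (colimit.ι ((D ⋙ yon S).op ⋙ yoneda.obj Y) (op i) y) x (by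
    erw [desc_yoneda_ι_apply (D ⋙ yon S) ((yon S).mapCone c) Y (op i) y]
    exact e.symm)
  obtain ⟨j, w, rfl⟩ := Types.jointly_surjective' p
  erw [colimMap_yoneda_ι_apply, Types.FilteredColimit.colimit_eq_iff] at hp1
  erw [desc_yoneda_ι_apply] at hp2
  obtain ⟨k, u, v, huv⟩ := hp1
  change (yon S).obj (D.obj j.unop) ⟶ X at w
  change (yon S).map (D.map u.unop) ≫ w ≫ f = (yon S).map (D.map v.unop) ≫ y at huv
  refine ⟨k.unop, v.unop, (yon S).map (D.map u.unop) ≫ w, ?_, ?_⟩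
  · rw [← Category.assoc, ← Functor.map_comp, c.w]
    exact hp2
  · rw [Category.assoc]
    exact huv

end Groth.Agent.MonoPtLib
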