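import Groth.Agent.MonoPtLib.LimAffine
import Groth.Agent.AlgSpLib.Sep
import Groth.Agent.AlgSpLib.LocP
/-!
# Lifting points of limits of affine schemes along morphisms of finite presentation
-/

set_option autoImplicit false
set_option backward.isDefEq.respectTransparency false
set_option backward.isDefEq.respectTransparency.types false
universe u
open CategoryTheory CategoryTheory.Limits AlgebraicGeometry AlgSp

namespace Groth.Agent.MonoPtLib

variable {S : Scheme.{u}} {I : Type u} [SmallCategory I] [IsCofiltered I] (D : I ⥤ Over S) (c : Cone D)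
  (hc : IsLimit ((Over.forget S).mapCone c)) (hD : ∀ i, IsAffine (D.obj i).left)

include hc hD in
/-- Points of a limit lift to stages along a representable morphism of finite presentation. -/
theorem exists_lift_rep {F G : Sp S} {g : F ⟶ G} (hg : RepWith @LocallyOfFinitePresentation g)
    (x : (yon S).obj c.pt ⟶ F) (i : I) (y : (yon S).obj (D.obj i) ⟶ G)
    (e : x ≫ g = (yon S).map (c.π.app i) ≫ y) :
    ∃ (i' : I) (φ : i' ⟶ i) (x' : (yon S).obj (D.obj i') ⟶ F),
      (yon S).map (c.π.app i') ≫ x' = x ∧ x' ≫ g = (yon S).map (D.map φ) ≫ y := by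
  let W := hg.rep.pullback y
  haveI : LocallyOfFinitePresentation (hg.rep.snd y).left := hg.property_snd y
  obtain ⟨u, hu⟩ : ∃ u : c.pt ⟶ W, (yon S).map u ≫ hg.rep.fst y = x ∧ u ≫ hg.rep.snd y = c.π.app i :=
    ⟨hg.rep.lift x (c.π.app i) e, hg.rep.lift_fst .., hg.rep.lift_snd ..⟩
  haveI : IsConnected (Over i) := IsCofiltered.isConnected _
  let E : Over i ⥤ Scheme.{u} := Over.forget i ⋙ D ⋙ Over.forget S
  let cE : Cone E := ((Over.forget S).mapCone c).whisker (Over.forget i)
  have hE : IsLimit cE := (Functor.Initial.isLimitWhiskerEquiv (Over.forget i) _).symm hc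
  haveI : ∀ k, IsAffine (E.obj k) := fun k => hD k.left
  haveI : ∀ {k l : Over i} (φ : k ⟶ l), IsAffineHom (E.map φ) := fun {k l} φ => inferInstance
  let t : E ⟶ (Functor.const (Over i)).obj (D.obj i).left :=
    { app := fun k => (D.map k.hom).left
      naturality := fun k l φ => by
        change (D.map φ.left).left ≫ (D.map l.hom).left = (D.map k.hom).left ≫ 𝟙 _
        rw [Category.comp_id, ← Over.comp_left, ← D.map_comp, Over.w φ] }
  obtain ⟨k, g', hg1, hg2⟩ := Scheme.exists_π_app_comp_eq_of_locallyOfFinitePresentation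
    E t (hg.rep.snd y).left cE hE u.left (NatTrans.ext (funext fun k => by
      change (c.π.app k.left).left ≫ (D.map k.hom).left = u.left ≫ (hg.rep.snd y).left
      rw [← Over.comp_left, ← Over.comp_left, c.w, hu.2]))
  change g' ≫ (hg.rep.snd y).left = (D.map k.hom).left at hg2
  let u' : D.obj k.left ⟶ W := Over.homMk g' (by
    rw [← Over.w (hg.rep.snd y), ← Category.assoc]
    exact (congrArg (· ≫ (D.obj i).hom) hg2).trans (Over.w (D.map k.hom)))
  have e1 : c.π.app k.left ≫ u' = u := Over.OverMorphism.ext hg1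
  have e2 : u' ≫ hg.rep.snd y = D.map k.hom := Over.OverMorphism.ext hg2
  refine ⟨k.left, k.hom, (yon S).map u' ≫ hg.rep.fst y, ?_, ?_⟩
  · rw [← Category.assoc, ← Functor.map_comp, e1, hu.1]
  · rw [Category.assoc, hg.rep.w, ← Category.assoc, ← Functor.map_comp, e2]

include hc hD in
/-- Two points of a stage agreeing on the limit and over the base agree at a later stage. -/
theorem exists_eq_stage {X Y : Sp S} (hX : IsAlgSpace X) (hY : IsAlgSpace Y) {f : X ⟶ Y}
    (hf : LocP @LocallyOfFiniteType f) (i : I) (a b : (yon S).obj (D.obj i) ⟶ X) (e : a ≫ f = b ≫ f)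
    (e' : (yon S).map (c.π.app i) ≫ a = (yon S).map (c.π.app i) ≫ b) :
    ∃ (j : I) (φ : j ⟶ i), (yon S).map (D.map φ) ≫ a = (yon S).map (D.map φ) ≫ b := by
  obtain ⟨j, φ, x', -, hx'⟩ := exists_lift_rep D c hc hD (AlgSpLib.repWith_lfp_diagonal hX hY hf)
    ((yon S).map (c.π.app i) ≫ a) i (pullback.lift a b e) (by
      apply pullback.hom_ext
      · simp
      · simp [e'])
  have h1 := congrArg (· ≫ pullback.fst f f) hx'
  have h2 := congrArg (· ≫ pullback.snd f f) hx'
  simp only [Category.assoc, pullback.diagonal_fst, pullback.diagonal_snd, pullback.lift_fst,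
    pullback.lift_snd, Category.comp_id] at h1 h2
  exact ⟨j, φ, h1.symm.trans h2⟩

end Groth.Agent.MonoPtLib
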