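import Groth.Agent.MonoPtLib.LimLift
import Groth.Agent.MonoPtLib.EtaleModelAffine
import Groth.Agent.AlgSpLib.Descend
import Groth.Agent.AlgSpLib.Qc
/-!
# Points of limits of affine schemes lift along morphisms of finite presentation
-/

set_option autoImplicit false
set_option backward.isDefEq.respectTransparency false
set_option backward.isDefEq.respectTransparency.types false
universe u
open CategoryTheory CategoryTheory.Limits AlgebraicGeometry AlgSp

namespace Groth.Agent.MonoPtLib

variable {S : Scheme.{u}}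

/-- An etale surjection onto an affine scheme is dominated by an affine one. -/
theorem exists_affine_refinement {W T : Over S} (π : W ⟶ T) [Etale π.left] [Surjective π.left]
    [CompactSpace T.left] :
    ∃ (T' : Over S) (w : T' ⟶ W), IsAffine T'.left ∧ Etale (w ≫ π).left ∧ Surjective (w ≫ π).left := by
  classical
  obtain ⟨s, hs⟩ := isCompact_univ.elim_finite_subcover
    (fun O : W.left.affineOpens => π.left '' (O.1 : Set W.left))
    (fun O => π.left.isOpenMap _ O.1.2) fun t _ => by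
      obtain ⟨z, rfl⟩ := π.left.surjective t
      obtain ⟨O, hO, hzO, -⟩ := exists_isAffineOpen_mem_and_subset (X := W.left) (U := ⊤) (x := z) trivial
      exact Set.mem_iUnion.2 ⟨⟨O, hO⟩, z, hzO, rfl⟩
  let Y : s → Scheme.{u} := fun O => O.1.1.toScheme
  haveI : ∀ O, IsAffine (Y O) := fun O => O.1.2
  let d : (∐ Y) ⟶ W.left := Sigma.desc fun O => O.1.1.ι
  haveI : Etale d := IsZariskiLocalAtSource.sigmaDesc (P := @Etale) fun O => inferInstance
  let T' : Over S := Over.mk (d ≫ W.hom)
  let w : T' ⟶ W := Over.homMk d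
  refine ⟨T', w, inferInstanceAs (IsAffine (∐ Y)), ?_, ⟨fun t => ?_⟩⟩
  · rw [Over.comp_left]
    exact inferInstanceAs (Etale (d ≫ π.left))
  · obtain ⟨O, hO, z, hzO, rfl⟩ := Set.mem_iUnion₂.1 (hs (Set.mem_univ t))
    refine ⟨(Sigma.ι Y ⟨O, hO⟩) ⟨z, hzO⟩, ?_⟩
    rw [Over.comp_left]
    change (Sigma.ι Y ⟨O, hO⟩ ≫ d ≫ π.left) _ = _
    rw [← Category.assoc, Sigma.ι_desc]
    rfl

variable {I : Type u} [SmallCategory I] [IsCofiltered I] (D : I ⥤ Over S) (c : Cone D)
  (hc : IsLimit ((Over.forget S).mapCone c)) (hD : ∀ i, IsAffine (D.obj i).left)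

include hc hD in
/-- A point of the limit lifts to a stage, over an affine base. -/
theorem exists_lift_over_stage (hT : IsAffine c.pt.left) {X : Sp S} (hX : IsAlgSpace X) (i : I)
    (f : X ⟶ (yon S).obj (D.obj i)) (hf : LocP @LocallyOfFinitePresentation f)
    (σ : (yon S).obj c.pt ⟶ X) (hσ : σ ≫ f = (yon S).map (c.π.app i)) :
    ∃ (i' : I) (φ : i' ⟶ i) (x' : (yon S).obj (D.obj i') ⟶ X),
      (yon S).map (c.π.app i') ≫ x' = σ ∧ x' ≫ f = (yon S).map (D.map φ) := by
  classical
  haveI := hT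
  haveI := hD
  haveI : IsConnected I := IsCofiltered.isConnected I
  -- an affine cover of the limit lifting to an atlas
  obtain ⟨A, a, ha, has⟩ := hX.atlas
  obtain ⟨h, hh⟩ := (yon S).map_surjective (a ≫ f)
  haveI : LocallyOfFinitePresentation h.left :=
    hf a (𝟙 _) h ha (repWith_id _ _) (by rw [Category.comp_id, hh])
  haveI : Etale (ha.rep.snd σ).left := ha.property_snd σ
  haveI : Surjective (ha.rep.snd σ).left := has.property σ _ _ (ha.rep.isPullback σ)
  obtain ⟨T', w, hT', hme, hms⟩ := exists_affine_refinement (ha.rep.snd σ)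
  let m : T' ⟶ c.pt := w ≫ ha.rep.snd σ
  let u₀ : (yon S).obj T' ⟶ (yon S).obj A := (yon S).map w ≫ ha.rep.fst σ
  have hu₀ : u₀ ≫ a = (yon S).map m ≫ σ := by
    simp only [u₀, m, Category.assoc, ha.rep.w, Functor.map_comp]
  haveI := hT'
  haveI : Etale m.left := hme
  haveI : Surjective m.left := hms
  -- descend the cover to a stage
  obtain ⟨M, U₁, f₁, τ, g₁, hM, hU₁, hMfp, hf₁, hf₁s, sq₁⟩ := exists_model m.left
  haveI := hM; haveI := hU₁; haveI := hMfp; haveI := hf₁; haveI := hf₁s
  haveI : ∀ j, IsAffine ((D ⋙ Over.forget S).obj j) := hD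
  haveI : ∀ {k l : I} (φ : k ⟶ l), IsAffineHom ((D ⋙ Over.forget S).map φ) := fun {k l} φ => inferInstance
  let tt : D ⋙ Over.forget S ⟶ (Functor.const I).obj (⊤_ Scheme.{u}) :=
    { app := fun _ => terminal.from _, naturality := fun _ _ _ => terminal.hom_ext _ _ }
  obtain ⟨k', v', hv', -⟩ := Scheme.exists_π_app_comp_eq_of_locallyOfFinitePresentation
    (D ⋙ Over.forget S) tt (terminal.from M) _ hc τ (NatTrans.ext (funext fun j => terminal.hom_ext _ _))
  change (c.π.app k').left ≫ v' = τ at hv'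
  let k := IsCofiltered.min k' i
  let χ : k ⟶ i := IsCofiltered.minToRight k' i
  let uk : (D.obj k).left ⟶ M := (D.map (IsCofiltered.minToLeft k' i)).left ≫ v'
  have huk : (c.π.app k).left ≫ uk = τ := by
    simp only [uk]
    rw [← Category.assoc, ← Over.comp_left, c.w, hv']
  let Uk : Over S := Over.mk (pullback.snd f₁ uk ≫ (D.obj k).hom)
  let πk : Uk ⟶ D.obj k := Over.homMk (pullback.snd f₁ uk)
  haveI : IsAffine Uk.left := inferInstanceAs (IsAffine (pullback f₁ uk))
  haveI : Etale πk.left := inferInstanceAs (Etale (pullback.snd f₁ uk))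
  haveI : Surjective πk.left := inferInstanceAs (Surjective (pullback.snd f₁ uk))
  let gT : T' ⟶ Uk := Over.homMk (pullback.lift g₁ (m ≫ c.π.app k).left
      (by rw [sq₁.w, ← huk, ← Category.assoc, ← Over.comp_left])) (by
    change pullback.lift _ _ _ ≫ pullback.snd f₁ uk ≫ _ = _
    rw [pullback.lift_snd_assoc]
    exact Over.w (m ≫ c.π.app k))
  have sqT' : IsPullback m gT (c.π.app k) πk := by
    refine IsPullback.of_map (Over.forget S) (Over.OverMorphism.ext ?_) ?_
    · change (m ≫ c.π.app k).left = pullback.lift _ _ _ ≫ pullback.snd f₁ uk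
      rw [pullback.lift_snd]
    · refine (IsPullback.of_right ?_ ?_ (IsPullback.of_hasPullback f₁ uk)).flip
      · change IsPullback (pullback.lift _ _ _ ≫ pullback.fst f₁ uk) m.left f₁ ((c.π.app k).left ≫ uk)
        rw [pullback.lift_fst, huk]
        exact sq₁
      · change pullback.lift _ _ _ ≫ pullback.snd f₁ uk = _
        rw [pullback.lift_snd]
        rfl
  have hcS : IsLimit c := isLimitOfReflects (Over.forget S) hc
  have hsys : ∀ (k : I) (j j' : I) (φ : j ⟶ j'), IsAffineMor ((yon S).map (D.map φ)) := fun _ j j' φ => by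
    haveI := hD j
    haveI := hD j'
    exact AlgSpLib.isAffineMor_iff.2 ((repWith_yon_map_iff _ _).2 (inferInstanceAs (IsAffineHom (D.map φ).left)))
  obtain ⟨⟨h1⟩, ⟨h2⟩, h3⟩ := limit_over_data (D ⋙ yon S) (isLimitOfPreserves (yon S) hcS) k
  obtain ⟨W, cW, ι, fst, p, q, ⟨hcW⟩, haff, hW, sqj, hi, hfW, hp, sqW⟩ :=
    exists_pullback_limit' (overNat (D ⋙ yon S) k) (fun l => hsys k _ _ l.hom) h1 h2
      (((yon S).mapCone c).π.app k) h3 (inferInstanceAs (IsAffine Uk.left)) ((yon S).map πk)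
  change ∀ l : Over k, (yon S).obj (W.obj l) ⟶ (yon S).obj (D.obj l.left) at q
  have sqj' : ∀ l : Over k, IsPullback (q l) ((yon S).map (p l)) ((yon S).map (D.map l.hom)) ((yon S).map πk) :=
    fun l => by
      have h := sqj l
      change IsPullback _ _ _ ((yon S).map πk ≫ 𝟙 _) at h
      rw [Category.comp_id] at h
      exact h
  have hfW' : ∀ l : Over k, fst ≫ (yon S).map (c.π.app l.left) = (yon S).map (cW.π.app l) ≫ q l := hfW
  have sql : ∀ l : Over k, IsPullback fst ((yon S).map (cW.π.app l)) ((yon S).map (c.π.app l.left)) (q l) :=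
    fun l => IsPullback.of_bot (v₂₁ := (yon S).map (p l)) (v₂₂ := (yon S).map (D.map l.hom))
      (h₃₁ := (yon S).map πk)
      (by rw [← Functor.map_comp, hi, ← Functor.map_comp, c.w]; exact sqW) (hfW' l) (sqj' l)
  let eT : (yon S).obj cW.pt ≅ (yon S).obj T' := sqW.isoIsPullback _ _ (sqT'.map (yon S))
  have heT : eT.hom ≫ (yon S).map m = fst := sqW.isoIsPullback_hom_fst _ _ (sqT'.map (yon S))
  let z : (yon S).obj cW.pt ⟶ (yon S).obj A := eT.hom ≫ u₀
  have hz : z ≫ a = fst ≫ σ := by rw [Category.assoc, hu₀, ← Category.assoc, heT]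
  -- lift the point of the atlas
  obtain ⟨hl⟩ := scheme_isLimit hcW
  let k₁ : Over k := Over.mk (𝟙 k)
  obtain ⟨l, ψ, xl, hxl, hxl'⟩ := exists_lift_rep W cW hl hW (g := (yon S).map h)
    ((repWith_yon_map_iff _ _).2 ‹_›) z k₁ (q k₁ ≫ (yon S).map (D.map χ)) (by
      rw [hh, ← Category.assoc, hz, Category.assoc, hσ, ← Category.assoc, ← hfW', Category.assoc,
        ← Functor.map_comp]
      exact congrArg (fun t => fst ≫ (yon S).map t) (c.w χ).symm)
  have hxlh : xl ≫ (yon S).map h = q l ≫ (yon S).map (D.map (l.hom ≫ χ)) := by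
    rw [hxl', ← Category.assoc, (hp ψ).2, Category.assoc]
    refine congrArg (q l ≫ ·) ?_
    change (yon S).map (D.map ψ.left) ≫ _ = _
    rw [← Functor.map_comp, ← D.map_comp, show ψ.left = l.hom from by simpa [k₁] using Over.w ψ]
  -- the two pullbacks agree at a later stage
  obtain ⟨ql, hql⟩ := (yon S).map_surjective (q l)
  haveI : IsAffine (W.obj l).left := hW l
  haveI : IsAffine (D.obj l.left).left := hD l.left
  let R : Over S := Over.mk (pullback.fst ql.left ql.left ≫ (W.obj l).hom)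
  let pr₁ : R ⟶ W.obj l := Over.homMk (pullback.fst ql.left ql.left)
  let pr₂ : R ⟶ W.obj l := Over.homMk (pullback.snd ql.left ql.left) (by
    change _ = pullback.fst ql.left ql.left ≫ _
    rw [← Over.w ql, ← Category.assoc, ← Category.assoc, pullback.condition])
  have hpr : pr₁ ≫ ql = pr₂ ≫ ql := Over.OverMorphism.ext pullback.condition
  haveI : IsAffine R.left := inferInstanceAs (IsAffine (pullback ql.left ql.left))
  obtain ⟨⟨h1'⟩, ⟨h2'⟩, h3'⟩ := limit_over_data (D ⋙ yon S) (isLimitOfPreserves (yon S) hcS) l.left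
  obtain ⟨V, cV, ιV, fstV, pV, qV, ⟨hcV⟩, -, hV, sqjV, hiV, -, hpV, sqV⟩ :=
    exists_pullback_limit' (overNat (D ⋙ yon S) l.left) (fun r => hsys k _ _ r.hom) h1' h2'
      (((yon S).mapCone c).π.app l.left) h3' (inferInstanceAs (IsAffine R.left)) ((yon S).map (pr₁ ≫ ql))
  change ∀ r : Over l.left, (yon S).obj (V.obj r) ⟶ (yon S).obj (D.obj r.left) at qV
  have sqV' : ∀ r : Over l.left,
      IsPullback (qV r) ((yon S).map (pV r)) ((yon S).map (D.map r.hom)) ((yon S).map (pr₁ ≫ ql)) :=
    fun r => by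
      have h := sqjV r
      change IsPullback _ _ _ ((yon S).map (pr₁ ≫ ql) ≫ 𝟙 _) at h
      rw [Category.comp_id] at h
      exact h
  let k₂ : Over l.left := Over.mk (𝟙 l.left)
  have key : ∀ pr : R ⟶ W.obj l, pr ≫ ql = pr₁ ≫ ql →
      (yon S).map (ιV ≫ pr) ≫ xl ≫ a = fstV ≫ σ := fun pr hpr' => by
    obtain ⟨n, hn1, hn2⟩ : ∃ n, n ≫ fst = fstV ∧ n ≫ (yon S).map (cW.π.app l) = (yon S).map (ιV ≫ pr) := by
      refine ⟨(sql l).lift fstV ((yon S).map (ιV ≫ pr)) ?_, (sql l).lift_fst _ _ _, (sql l).lift_snd _ _ _⟩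
      rw [← hql, ← Functor.map_comp, Category.assoc, hpr', Functor.map_comp]
      exact sqV.w
    rw [← hn2, Category.assoc, ← Category.assoc ((yon S).map (cW.π.app l)), hxl, hz, ← Category.assoc, hn1]
  have hlft : LocP @LocallyOfFiniteType f := fun U V a b h ha hb e => by
    haveI : LocallyOfFinitePresentation h.left := hf a b h ha hb e
    infer_instance
  obtain ⟨hlV⟩ := scheme_isLimit hcV
  obtain ⟨r, φ, hφ⟩ := exists_eq_stage V cV hlV hV hX (IsAlgSpace.yon_obj _) hlft k₂
    ((yon S).map (pV k₂ ≫ pr₁) ≫ xl ≫ a) ((yon S).map (pV k₂ ≫ pr₂) ≫ xl ≫ a) (by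
      simp only [Category.assoc, ← hh, hxlh, ← hql]
      simp only [← Functor.map_comp, Category.assoc, reassoc_of% hpr]) (by
      rw [← Category.assoc, ← Functor.map_comp, ← Category.assoc (cV.π.app k₂), hiV, key pr₁ rfl,
        ← Category.assoc ((yon S).map (cV.π.app k₂)), ← Functor.map_comp, ← Category.assoc (cV.π.app k₂), hiV,
        key pr₂ hpr.symm])
  -- descend
  let lm : Over k := Over.mk (r.hom ≫ l.hom)
  let θ : lm ⟶ l := Over.homMk r.hom
  have hqe : RepWith @Etale (q lm) := AlgSpLib.repWith_of_isPullback (sqj' lm).flip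
    ((repWith_yon_map_iff _ _).2 ‹Etale πk.left›)
  have hqs : RepWith @Surjective (q lm) := AlgSpLib.repWith_of_isPullback (sqj' lm).flip
    ((repWith_yon_map_iff _ _).2 ‹Surjective πk.left›)
  have hθ : (yon S).map (W.map θ) ≫ q l = q lm ≫ (yon S).map (D.map r.hom) := (hp θ).2
  obtain ⟨x', hx'⟩ := AlgSpLib.exists_desc_of_atlas hqe hqs ((yon S).map (W.map θ) ≫ xl ≫ a)
    (fun Z z z' e => by
      have e' : (z ≫ W.map θ) ≫ ql = (z' ≫ W.map θ) ≫ ql := (yon S).map_injective (by
        simp only [Functor.map_comp, Category.assoc, hql, hθ]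
        exact (Category.assoc _ _ _).symm.trans
          ((congrArg (· ≫ (yon S).map (D.map r.hom)) e).trans (Category.assoc _ _ _)))
      let zz : Z ⟶ R := Over.homMk (pullback.lift (z ≫ W.map θ).left (z' ≫ W.map θ).left
        (congrArg (fun t => t.left) e')) (by
          change pullback.lift _ _ _ ≫ pullback.fst _ _ ≫ _ = _
          rw [pullback.lift_fst_assoc]
          exact Over.w (z ≫ W.map θ))
      have hz1 : zz ≫ pr₁ = z ≫ W.map θ := Over.OverMorphism.ext (pullback.lift_fst _ _ _)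
      have hz2 : zz ≫ pr₂ = z' ≫ W.map θ := Over.OverMorphism.ext (pullback.lift_snd _ _ _)
      obtain ⟨v, hv⟩ := (yon S).map_surjective ((sqV' r).lift ((yon S).map z ≫ q lm) ((yon S).map zz) (by
        rw [Category.assoc, ← hθ, ← hql, ← Functor.map_comp, ← Functor.map_comp, ← Functor.map_comp,
          ← Category.assoc zz, hz1, Category.assoc]))
      have hv' : v ≫ pV r = zz := (yon S).map_injective (by rw [Functor.map_comp, hv, (sqV' r).lift_snd])
      have hh' := congrArg ((yon S).map v ≫ ·) hφ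
      simp only [← Functor.map_comp_assoc, Category.assoc] at hh'
      have ev : ∀ pr : R ⟶ W.obj l, v ≫ V.map φ ≫ pV k₂ ≫ pr = zz ≫ pr := fun pr => by
        rw [← Category.assoc (V.map φ), (hpV φ).1, ← Category.assoc, hv']
      rw [ev, ev, hz1, hz2] at hh'
      simpa only [Functor.map_comp, Category.assoc] using hh')
  refine ⟨r.left, r.hom ≫ l.hom ≫ χ, x', ?_, ?_⟩
  · have hfe : RepWith @Etale fst := AlgSpLib.repWith_of_isPullback sqW.flip
      ((repWith_yon_map_iff _ _).2 ‹Etale πk.left›)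
    have hfs : RepWith @Surjective fst := AlgSpLib.repWith_of_isPullback sqW.flip
      ((repWith_yon_map_iff _ _).2 ‹Surjective πk.left›)
    refine AlgSpLib.hom_ext_of_atlas hfe hfs ?_
    have e1 : fst ≫ (yon S).map (c.π.app r.left) = (yon S).map (cW.π.app lm) ≫ q lm := hfW' lm
    rw [← Category.assoc, e1, Category.assoc, hx', ← Category.assoc ((yon S).map (cW.π.app lm)),
      ← Functor.map_comp, cW.w, ← Category.assoc, hxl, hz]
  · refine AlgSpLib.hom_ext_of_atlas hqe hqs ?_
    rw [← Category.assoc, hx', Category.assoc, Category.assoc, ← hh, hxlh, ← Category.assoc, hθ,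
      Category.assoc, ← Functor.map_comp, ← D.map_comp]

include hc hD in
/-- Points of limits lift along morphisms of finite presentation. -/
theorem exists_lift_stage (hT : IsAffine c.pt.left) {X Y : Sp S} (hX : IsAlgSpace X) (hY : IsAlgSpace Y)
    {f : X ⟶ Y} (hf : LocP @LocallyOfFinitePresentation f) (x : (yon S).obj c.pt ⟶ X) (i : I)
    (y : (yon S).obj (D.obj i) ⟶ Y) (e : x ≫ f = (yon S).map (c.π.app i) ≫ y) :
    ∃ (i' : I) (φ : i' ⟶ i) (x' : (yon S).obj (D.obj i') ⟶ X),
      (yon S).map (c.π.app i') ≫ x' = x ∧ x' ≫ f = (yon S).map (D.map φ) ≫ y := by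
  obtain ⟨i', φ, x', h1, h2⟩ := exists_lift_over_stage D c hc hD hT
    (AlgSpLib.isAlgSpace_pullback hX (IsAlgSpace.yon_obj _) hY f y) i (pullback.snd f y)
    (AlgSpLib.locP_of_isPullback hX hY (IsAlgSpace.yon_obj _) (IsPullback.of_hasPullback f y) hf)
    (pullback.lift x ((yon S).map (c.π.app i)) e) (pullback.lift_snd _ _ _)
  refine ⟨i', φ, x' ≫ pullback.fst f y, ?_, ?_⟩
  · rw [← Category.assoc, h1, pullback.lift_fst]
  · rw [Category.assoc, pullback.condition, ← Category.assoc, h2]

end Groth.Agent.MonoPtLib
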