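import Groth.Agent.MonoPtLib.LimLfp
import Groth.Agent.AlgSpRelLim.Basic
/-!
# Locally of finite presentation is relatively limit preserving
-/

set_option autoImplicit false
set_option backward.isDefEq.respectTransparency false
set_option backward.isDefEq.respectTransparency.types false
universe u
open CategoryTheory CategoryTheory.Limits AlgebraicGeometry AlgSp Opposite

namespace Groth.Agent.MonoPtLib

variable {S : Scheme.{u}}

/-- Sections are maps from representables. -/
noncomputable def sec {F : Sp S} {T : Over S} : ((yon S).obj T ⟶ F) ≃ F.obj.obj (op T) :=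
  (AlgSp.J S).uliftYonedaEquiv.{u + 1}

theorem sec_map {F : Sp S} {T T' : Over S} (g : T' ⟶ T) (x : (yon S).obj T ⟶ F) :
    F.obj.map g.op (sec x) = sec ((yon S).map g ≫ x) :=
  GrothendieckTopology.uliftYonedaEquiv_naturality.{u + 1} (AlgSp.J S) x g

theorem sec_comp {F G : Sp S} {T : Over S} (x : (yon S).obj T ⟶ F) (f : F ⟶ G) :
    f.hom.app (op T) (sec x) = sec (x ≫ f) :=
  (GrothendieckTopology.uliftYonedaEquiv_comp.{u + 1} (AlgSp.J S) x f).symm

theorem isRelLimitPreserving_of_lifts {X Y : Sp S} (hX : IsAlgSpace X) (hY : IsAlgSpace Y) {f : X ⟶ Y}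
    (hf : LocP @LocallyOfFinitePresentation f) : IsRelLimitPreserving f.hom := by
  have hlft : LocP @LocallyOfFiniteType f := fun U V a b h ha hb e => by
    haveI : LocallyOfFinitePresentation h.left := hf a b h ha hb e
    infer_instance
  refine AlgSpRelLim.of_sq _ fun I _ _ D c hc hD hT => ?_
  refine (Types.isPullback_iff _ _ _ _).2 ⟨AlgSpRelLim.sq_comm f.hom D c, fun p p' hpp' => ?_, fun z x hzx => ?_⟩
  · obtain ⟨i, xi, rfl⟩ := Types.jointly_surjective' p
    obtain ⟨j, xj, rfl⟩ := Types.jointly_surjective' p'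
    obtain ⟨h1, h2⟩ := hpp'
    erw [AlgSpRelLim.colimMap_ι_apply, AlgSpRelLim.colimMap_ι_apply, Types.FilteredColimit.colimit_eq_iff] at h1
    erw [AlgSpRelLim.desc_ι_apply, AlgSpRelLim.desc_ι_apply] at h2
    obtain ⟨k, u, v, huv⟩ := h1
    obtain ⟨x, rfl⟩ := (sec (F := X) (T := D.obj i.unop)).surjective xi
    obtain ⟨x', rfl⟩ := (sec (F := X) (T := D.obj j.unop)).surjective xj
    change Y.obj.map (D.map u.unop).op (f.hom.app _ (sec x)) =
      Y.obj.map (D.map v.unop).op (f.hom.app _ (sec x')) at huv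
    rw [sec_comp, sec_comp, sec_map, sec_map] at huv
    rw [sec_map, sec_map] at h2
    have h2' := sec.injective h2
    obtain ⟨l, ψ, hψ⟩ := exists_eq_stage D c hc hD hX hY hlft k.unop
      ((yon S).map (D.map u.unop) ≫ x) ((yon S).map (D.map v.unop) ≫ x')
      (by simpa only [Category.assoc] using sec.injective huv)
      (by rw [← Category.assoc, ← Category.assoc, ← Functor.map_comp, ← Functor.map_comp, c.w, c.w, h2'])
    refine (Types.FilteredColimit.colimit_eq_iff _).2 ⟨op l, u ≫ ψ.op, v ≫ ψ.op, ?_⟩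
    change X.obj.map (D.map (ψ ≫ u.unop)).op (sec x) = X.obj.map (D.map (ψ ≫ v.unop)).op (sec x')
    rw [sec_map, sec_map, D.map_comp, D.map_comp, Functor.map_comp, Functor.map_comp, Category.assoc,
      Category.assoc, hψ]
  · obtain ⟨i, zi, rfl⟩ := Types.jointly_surjective' z
    obtain ⟨y, rfl⟩ := (sec (F := Y) (T := D.obj i.unop)).surjective zi
    obtain ⟨x, rfl⟩ := (sec (F := X) (T := c.pt)).surjective x
    erw [AlgSpRelLim.desc_ι_apply, sec_map, sec_comp] at hzx
    obtain ⟨i', φ, x', h1, h2⟩ := lifts_of_locP_lfp hX hY hf D c hc hD hT x i.unop y (sec.injective hzx).symm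
    refine ⟨colimit.ι (D.op ⋙ X.obj) (op i') (sec x'), ?_, ?_⟩
    · erw [AlgSpRelLim.colimMap_ι_apply, Types.FilteredColimit.colimit_eq_iff]
      refine ⟨op i', 𝟙 _, φ.op, ?_⟩
      change Y.obj.map (D.map (𝟙 i')).op (f.hom.app _ (sec x')) = Y.obj.map (D.map φ).op (sec y)
      rw [sec_comp, sec_map, sec_map, D.map_id, CategoryTheory.Functor.map_id, Category.id_comp, h2]
    · erw [AlgSpRelLim.desc_ι_apply, sec_map, h1]
      rfl

theorem lifts_of_isRelLimitPreserving {X Y : Sp S} {f : X ⟶ Y} (h : IsRelLimitPreserving f.hom) :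
    LiftsLimits f := by
  intro I _ _ D c hc hD hT x i y e
  obtain ⟨-, -, hsurj⟩ := (Types.isPullback_iff _ _ _ _).mp (AlgSpRelLim.sq_of _ h D c hc hD hT)
  obtain ⟨p, hp1, hp2⟩ := hsurj (colimit.ι (D.op ⋙ Y.obj) (op i) (sec y)) (sec x) (by
    erw [AlgSpRelLim.desc_ι_apply, sec_map, sec_comp, e]
    rfl)
  obtain ⟨j, w, rfl⟩ := Types.jointly_surjective' p
  erw [AlgSpRelLim.colimMap_ι_apply, Types.FilteredColimit.colimit_eq_iff] at hp1
  erw [AlgSpRelLim.desc_ι_apply] at hp2
  obtain ⟨k, u, v, huv⟩ := hp1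
  obtain ⟨w, rfl⟩ := (sec (F := X) (T := D.obj j.unop)).surjective w
  change Y.obj.map (D.map u.unop).op (f.hom.app _ (sec w)) = Y.obj.map (D.map v.unop).op (sec y) at huv
  rw [sec_comp, sec_map, sec_map] at huv
  rw [sec_map] at hp2
  refine ⟨k.unop, v.unop, (yon S).map (D.map u.unop) ≫ w, ?_, ?_⟩
  · rw [← Category.assoc, ← Functor.map_comp, c.w]
    exact sec.injective hp2
  · rw [Category.assoc]
    exact sec.injective huv

theorem locP_lfp_iff_isRelLimitPreserving {X Y : Sp S} (hX : IsAlgSpace X) (hY : IsAlgSpace Y) {f : X ⟶ Y} :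
    LocP @LocallyOfFinitePresentation f ↔ IsRelLimitPreserving f.hom :=
  ⟨isRelLimitPreserving_of_lifts hX hY, fun h => locP_lfp_of_lifts hX hY (lifts_of_isRelLimitPreserving h)⟩

end Groth.Agent.MonoPtLib
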