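import Groth.Agent.MonoPtLib.LimPoints
import Groth.Agent.MonoPtLib.LimAffineApps
import Groth.Agent.AlgSpLib.OpenGlue
import Groth.Agent.AlgSpLib.Noeth
/-!
# A limit which is a scheme comes from a scheme
-/

set_option autoImplicit false
set_option backward.isDefEq.respectTransparency false
set_option backward.isDefEq.respectTransparency.types false
universe u
open CategoryTheory CategoryTheory.Limits AlgebraicGeometry AlgSp

namespace Groth.Agent.MonoPtLib

variable {S : Scheme.{u}}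

/-- Open immersions of algebraic spaces are quasi-separated. -/
theorem isQuasiSeparatedMor_of_mono {F G : Sp S} (f : F ⟶ G) [Mono f] : IsQuasiSeparatedMor f :=
  AlgSpLib.repWith_of_isIso (pullback.diagonal f)

theorem exists_iso_of_isRepresentable {F : Sp S} (h : F.obj.IsRepresentable) :
    ∃ T : Over S, Nonempty ((yon S).obj T ≅ F) := by
  obtain ⟨T, ⟨e⟩⟩ := h.has_representation
  exact ⟨T, ⟨isoOfRepresentableBy e⟩⟩

variable [QuasiSeparatedSpace S] {I : Type u} [SmallCategory I] [IsCofiltered I] (D : I ⥤ Sp S)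
  (hD : ∀ i, IsAlgSpace (D.obj i)) (hDa : ∀ (i j : I) (φ : i ⟶ j), IsAffineMor (D.map φ))
  (hqc : ∀ i, IsQuasiCompactSp (D.obj i)) (hqs : ∀ i, IsQuasiSeparatedSp (D.obj i))
  (c : Cone D) (hc : IsLimit c)

include hD hDa hqc hqs hc in
/-- An affine open of the limit comes from an affine open of a stage. -/
theorem exists_affine_open_stage (V : Over S) (hV : IsAffine V.left) (j : (yon S).obj V ⟶ c.pt)
    (hj : RepWith @IsOpenImmersion j) :
    ∃ (i : I) (V' : Over S) (_ : IsAffine V'.left) (a : (yon S).obj V' ⟶ D.obj i)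
      (q : (yon S).obj V ⟶ (yon S).obj V'), RepWith @IsOpenImmersion a ∧ IsPullback j q (c.π.app i) a := by
  haveI := hV
  obtain ⟨i, Ui, ji, q, hji, hUiqc, sq⟩ :=
    exists_qcOpen_stage D hD hDa c hc _ j hj (AlgSpLib.isQuasiCompactSp_yon V)
  obtain ⟨⟨h1⟩, -, h3⟩ := limit_over_data D hc i
  obtain ⟨P, cP, hcP, u, r, f, s, sqk, sqlim, sqtr, hPr, hs, hu⟩ :=
    exists_pullback_system (overNat D i) h1 (c.π.app i)
      (fun k => by
        change c.π.app k.left ≫ D.map k.hom = _
        rw [c.w]) ji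
  have hUiA : IsAlgSpace Ui := AlgSpLib.isAlgSpace_of_representable (hD i) ji hji.rep
  let eV : (yon S).obj V ≅ cP.pt := sq.isoIsPullback _ _ sqlim
  have hu' : ∀ k, RepWith @IsOpenImmersion (u k) := fun k => AlgSpLib.repWith_of_isPullback (sqk k).flip hji
  have hPA : ∀ k, IsAlgSpace (P.obj k) := fun k =>
    AlgSpLib.isAlgSpace_of_representable (hD k.left) (u k) (hu' k).rep
  have hPa : ∀ (k l : Over i) (φ : k ⟶ l), IsAffineMor (P.map φ) := fun k l φ =>
    AlgSpLib.isAffineMor_iff.2 (AlgSpLib.repWith_of_isPullback (sqtr φ)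
      (AlgSpLib.isAffineMor_iff.1 (hDa k.left l.left φ.left)))
  have hr : ∀ k, RepWith @QuasiCompact (r k) := fun k =>
    AlgSpLib.repWith_mono (fun _ _ g (_ : IsAffineHom g) => (inferInstance : QuasiCompact g))
      (AlgSpLib.repWith_of_isPullback (sqk k) (AlgSpLib.isAffineMor_iff.1 (hDa _ _ k.hom)))
  obtain ⟨k, V', hV', ⟨eV'⟩⟩ := exists_affine_stage P hPa cP hcP hPA
    (fun k => AlgSpLib.isQuasiCompactSp_of_mor hUiA
      (AlgSpLib.isQuasiCompactMor_of_repWith (hPA k) hUiA (hr k)) hUiqc)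
    (fun k => by
      haveI := AlgSpLib.mono_of_openImmersion (hu' k)
      exact AlgSpLib.isQuasiSeparatedSp_of_mor (isQuasiSeparatedMor_of_mono (u k)) (hqs k.left))
    V hV eV
  have sq2 : IsPullback f (cP.π.app k) (c.π.app k.left) (u k) :=
    IsPullback.of_bot (v₂₁ := r k) (v₂₂ := (overNat D i).app k) (h₃₁ := ji)
      (by
        rw [hs]
        change IsPullback f s (c.π.app k.left ≫ D.map k.hom) ji
        rw [c.w]
        exact sqlim) (hu k).symm (sqk k)
  exact ⟨k.left, V', hV', eV'.hom ≫ u k, eV.hom ≫ cP.π.app k ≫ eV'.inv,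
    AlgSpLib.repWith_comp (AlgSpLib.repWith_of_isIso eV'.hom) (hu' k),
    sq2.of_iso eV.symm (Iso.refl _) eV'.symm (Iso.refl _) (by simp [eV]) (by simp) (by simp) (by simp)⟩

include hD hDa hqc hqs hc in
/-- If the limit is a scheme, some stage is a scheme. -/
theorem exists_representable_stage (T : Over S) (e : (yon S).obj T ≅ c.pt) : ∃ i, AlgSpLib.IsRepSh (D.obj i) := by
  classical
  obtain ⟨i₀⟩ := (IsCofiltered.nonempty : Nonempty I)
  have hcA := isAlgSpace_limit D hD hDa hc
  -- quasi-compactness of the limit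
  have hTqc : IsQuasiCompactSp ((yon S).obj T) := by
    refine AlgSpLib.isQuasiCompactSp_of_mor (hD i₀) (f := e.hom ≫ c.π.app i₀)
      (AlgSpLib.isQuasiCompactMor_of_repWith (IsAlgSpace.yon_obj T) (hD i₀)
        (AlgSpLib.repWith_mono (fun _ _ g (_ : IsAffineHom g) => (inferInstance : QuasiCompact g))
          (AlgSpLib.repWith_comp (AlgSpLib.repWith_of_isIso e.hom)
            (AlgSpLib.isAffineMor_iff.1 (isAffineMor_proj D hDa hc i₀))))) (hqc i₀)
  haveI := AlgSpLib.compactSpace_points_of_isQuasiCompactSp hTqc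
  haveI : CompactSpace T.left := (Points.schemeHomeo T).symm.compactSpace
  -- finitely many affine opens
  obtain ⟨s, hs⟩ := isCompact_univ.elim_finite_subcover (fun O : T.left.affineOpens => (O.1 : Set T.left))
    (fun O => O.1.2) fun t _ => by
      obtain ⟨O, hO, htO, -⟩ := exists_isAffineOpen_mem_and_subset (X := T.left) (U := ⊤) (x := t) trivial
      exact Set.mem_iUnion.2 ⟨⟨O, hO⟩, htO⟩
  let V : T.left.affineOpens → Over S := fun O => Over.mk (O.1.ι ≫ T.hom)
  let jm : ∀ O, V O ⟶ T := fun O => Over.homMk O.1.ι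
  let j : ∀ O, (yon S).obj (V O) ⟶ c.pt := fun O => (yon S).map (jm O) ≫ e.hom
  have hj : ∀ O, RepWith @IsOpenImmersion (j O) := fun O =>
    AlgSpLib.repWith_comp ((repWith_yon_map_iff _ _).2 (inferInstanceAs (IsOpenImmersion O.1.ι)))
      (AlgSpLib.repWith_of_isIso e.hom)
  choose iO V' hV' a qO ha sqO using fun O : T.left.affineOpens =>
    exists_affine_open_stage D hD hDa hqc hqs c hc (V O) O.2 (j O) (hj O)
  obtain ⟨i₁, hi₁⟩ := IsCofiltered.inf_objs_exists (insert i₀ (s.image iO))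
  -- the opens at the stage `i₁`
  choose W w fw sqW hW using fun (O : s) =>
    hDa i₁ (iO O.1) (hi₁ (Finset.mem_insert_of_mem (Finset.mem_image_of_mem iO O.2))).some (hV' O.1) (a O.1)
  have hfw : ∀ O, RepWith @IsOpenImmersion (fw O) := fun O =>
    AlgSpLib.repWith_of_isPullback (sqW O).flip (ha O.1)
  let R : Set (Points (D.obj i₁)) := ⋃ O, Set.range (Points.map (fw O))
  have hR : IsOpen R := isOpen_iUnion fun O =>
    (AlgSpLib.isOpenMap_map_of_isEtaleMor (IsAlgSpace.yon_obj _)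
      (AlgSpLib.isEtaleMor_of_openImmersion (hfw O))).isOpen_range
  have hlim : ∀ x : Points c.pt, Points.map (c.π.app i₁) x ∈ R := fun x => by
    obtain ⟨t, ht⟩ : ∃ t : T.left, Points.map e.hom (Points.schemeHomeo T t) = x :=
      ⟨(Points.schemeHomeo T).symm (Points.map e.inv x), by
        rw [Homeomorph.apply_symm_apply, ← Points.map_comp, e.inv_hom_id, Points.map_id]⟩
    obtain ⟨O, hO, htO⟩ := Set.mem_iUnion₂.1 (hs (Set.mem_univ t))
    refine Set.mem_iUnion.2 ⟨⟨O, hO⟩, ?_⟩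
    let φ := (hi₁ (Finset.mem_insert_of_mem (Finset.mem_image_of_mem iO hO))).some
    have h1 : Points.map (c.π.app i₁) x ∈ Points.map (D.map φ) ⁻¹' Set.range (Points.map (a O)) := by
      refine ⟨Points.map (qO O) (Points.schemeHomeo (V O) ⟨t, htO⟩), ?_⟩
      rw [← Points.map_comp, ← (sqO O).w, ← Points.map_comp, c.w, ← ht, Points.map_comp]
      refine congrArg _ ?_
      simp only [j, Points.map_comp]
      exact congrArg _ (Points.map_yon_map_apply (jm O) _)
    rw [← AlgSpLib.range_map_of_isPullback (sqW ⟨O, hO⟩).flip] at h1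
    exact h1
  -- the union is everything at a later stage
  obtain ⟨E, b, hE, hb, hbs⟩ := AlgSpLib.exists_affine_chart (hqc i₁)
  obtain ⟨⟨h1⟩, ⟨h2⟩, h3⟩ := limit_over_data D hc i₁
  obtain ⟨Z, cZ, ι, fZ, p, q, ⟨hcZ⟩, haff, hZ, sqj, hi, hfZ, hp, sqZ⟩ :=
    exists_pullback_limit' (overNat D i₁) (fun k => hDa _ _ k.hom) h1 h2 (c.π.app i₁) h3 hE b
  change ∀ k : Over i₁, (yon S).obj (Z.obj k) ⟶ D.obj k.left at q
  have sqj' : ∀ k : Over i₁, IsPullback (q k) ((yon S).map (p k)) (D.map k.hom) b := fun k => by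
    have h := sqj k
    change IsPullback _ _ _ (b ≫ 𝟙 _) at h
    rw [Category.comp_id] at h
    exact h
  have hfZ' : ∀ k : Over i₁, fZ ≫ c.π.app k.left = (yon S).map (cZ.π.app k) ≫ q k := hfZ
  haveI : ∀ (i j : Over i₁) (f : i ⟶ j), IsAffineHom ((Z ⋙ Over.forget S).map f) := fun i j f =>
    haveI : IsAffine ((Z ⋙ Over.forget S).obj i) := hZ i
    haveI : IsAffine ((Z ⋙ Over.forget S).obj j) := hZ j
    inferInstance
  let k₀ : Over i₁ := Over.mk (𝟙 i₁)
  obtain ⟨hl⟩ := scheme_isLimit hcZ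
  haveI : IsAffine ((Z ⋙ Over.forget S).obj k₀) := hZ k₀
  obtain ⟨k, φ, hφ⟩ := RichLib.LimTop.exists_inter_range_subset' (Z ⋙ Over.forget S) _ hl (i := k₀)
    (E := Points.ofPt (q k₀) ⁻¹' R)
    (RichLib.LimTop.isIndConstructible_of_isOpen (hR.preimage (Points.continuous_ofPt _))) (by
      rintro _ ⟨z, rfl⟩
      change Points.ofPt (q k₀) ((cZ.π.app k₀).left z) ∈ R
      rw [show Points.ofPt (q k₀) ((cZ.π.app k₀).left z) = _ from Points.ofPt_eq_map_ofScheme (q k₀) _,
        show Points.ofScheme (Z.obj k₀) ((cZ.π.app k₀).left z) = _ from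
          (Points.map_yon_map_apply (cZ.π.app k₀) z).symm, ← Points.map_comp, ← hfZ' k₀, Points.map_comp]
      exact hlim _)
  change k ⟶ k₀ at φ
  have hall : ∀ y : Points (D.obj k.left), Points.map (D.map k.hom) y ∈ R := fun y => by
    obtain ⟨z, rfl⟩ := AlgSpLib.surjective_ofPt (AlgSpLib.repWith_of_isPullback (sqj' k).flip hbs) y
    have hz := hφ ⟨z, rfl⟩
    change Points.ofPt (q k₀) ((Z.map φ).left z) ∈ R at hz
    rw [show Points.ofPt (q k₀) ((Z.map φ).left z) = _ from Points.ofPt_eq_map_ofScheme (q k₀) _,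
      show Points.ofScheme (Z.obj k₀) ((Z.map φ).left z) = _ from
        (Points.map_yon_map_apply (Z.map φ) z).symm, ← Points.map_comp,
      show (yon S).map (Z.map φ) ≫ q k₀ = q k ≫ D.map φ.left from (hp φ).2, Points.map_comp] at hz
    rw [show φ.left = k.hom by simpa [k₀] using Over.w φ] at hz
    rw [show Points.ofPt (q k) z = _ from Points.ofPt_eq_map_ofScheme (q k) z]
    exact hz
  choose W₂ w₂ fw₂ sq₂ hW₂ using fun O : s => hDa k.left i₁ k.hom (hW O) (fw O)
  have hfw₂ : ∀ O, RepWith @IsOpenImmersion (fw₂ O) := fun O =>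
    AlgSpLib.repWith_of_isPullback (sq₂ O).flip (hfw O)
  let g : ULift.{u} s → Over S := fun O => W₂ O.down
  refine ⟨k.left, AlgSpLib.isRepSh_of_openCover (W := g) (fun O : ULift.{u} s => fw₂ O.down)
    (fun O => hfw₂ O.down) fun T' b' t => ?_⟩
  obtain ⟨O, hO⟩ := Set.mem_iUnion.1 (hall (Points.map b' (Points.schemeHomeo T' t)))
  refine ⟨⟨O⟩, ?_⟩
  have h : Points.map b' (Points.schemeHomeo T' t) ∈ Set.range (Points.map (fw₂ O)) := by
    rw [AlgSpLib.range_map_of_isPullback (sq₂ O).flip]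
    exact hO
  have h' : Points.schemeHomeo T' t ∈
      Set.range (Points.map ((yon S).map ((hfw₂ O).rep.snd b'))) := by
    rw [AlgSpLib.range_map_of_isPullback ((hfw₂ O).rep.isPullback b')]
    exact h
  obtain ⟨z, hz⟩ := h'
  obtain ⟨z, rfl⟩ := (Points.schemeHomeo _).surjective z
  exact ⟨z, (Points.schemeHomeo T').injective ((Points.map_yon_map_apply _ z).symm.trans hz)⟩

end Groth.Agent.MonoPtLib
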