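import Mathlib.AlgebraicGeometry.AffineTransitionLimit
import Mathlib.AlgebraicGeometry.Morphisms.ClosedImmersion
import Groth.Agent.MonoPtLib.LimFiniteApps
/-!
# Closed immersions between systems of affine schemes
-/

set_option autoImplicit false
set_option backward.isDefEq.respectTransparency false
set_option backward.isDefEq.respectTransparency.types false
universe u
open CategoryTheory CategoryTheory.Limits AlgebraicGeometry

namespace Groth.Agent.MonoPtLib

variable {J : Type u} [SmallCategory J] [IsCofiltered J] {T W : J ⥤ Scheme.{u}}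
  {cT : Cone T} (hcT : IsLimit cT) {cW : Cone W} (hcW : IsLimit cW)
  (hT : ∀ j, IsAffine (T.obj j)) (hW : ∀ j, IsAffine (W.obj j)) (h : T ⟶ W)
  (hlft : ∀ j, LocallyOfFiniteType (h.app j))
  (hcl : ∀ {m j : J} (ψ : m ⟶ j), IsClosedImmersion
    (pullback.lift (f := h.app j) (g := W.map ψ) (T.map ψ) (h.app m) (h.naturality ψ)))
  (i : cT.pt ⟶ cW.pt) (hi : ∀ j, i ≫ cW.π.app j = cT.π.app j ≫ h.app j)

include hcT hcW hT hW hlft hcl hi in
theorem exists_closedImmersion_sys [IsAffine cW.pt] [IsClosedImmersion i] :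
    ∃ j, IsClosedImmersion (h.app j) := by
  classical
  haveI := hT; haveI := hW
  obtain ⟨j₀⟩ := (IsCofiltered.nonempty : Nonempty J)
  haveI := hlft j₀
  letI := (h.app j₀).appTop.hom.toAlgebra
  haveI : Algebra.FiniteType Γ(W.obj j₀, ⊤) Γ(T.obj j₀, ⊤) :=
    HasRingHomProperty.appTop (P := @LocallyOfFiniteType) (h.app j₀) inferInstance
  obtain ⟨s, hs⟩ := (inferInstance : Algebra.FiniteType Γ(W.obj j₀, ⊤) Γ(T.obj j₀, ⊤)).out
  replace hs := congrArg Subalgebra.toSubring hs
  rw [Algebra.adjoin_eq_ring_closure, Algebra.top_toSubring] at hs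
  haveI : IsAffine cT.pt := isAffine_of_isAffineHom i
  have key : ∀ b : Γ(T.obj j₀, ⊤), ∃ (m : J) (ψ : m ⟶ j₀),
      (T.map ψ).appTop b ∈ (h.app m).appTop.hom.range := fun b => by
    obtain ⟨r, hr⟩ := (IsClosedImmersion.isAffine_surjective_of_isAffine i).2 ((cT.π.app j₀).appTop b)
    obtain ⟨l, t, ht⟩ := exists_appTop_π_eq_of_isAffine_of_isLimit _ _ hcW r
    let α := IsCofiltered.minToLeft l j₀
    let β := IsCofiltered.minToRight l j₀
    have hz : (cT.π.app _).appTop ((h.app _).appTop ((W.map α).appTop t) - (T.map β).appTop b) = 0 := by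
      rw [map_sub, sub_eq_zero, ← CommRingCat.comp_apply, ← CommRingCat.comp_apply, ← CommRingCat.comp_apply,
        ← Scheme.Hom.comp_appTop, ← Scheme.Hom.comp_appTop, ← Scheme.Hom.comp_appTop, ← hi, Category.assoc,
        cW.w, cT.w, Scheme.Hom.comp_appTop, CommRingCat.comp_apply]
      exact (congrArg _ ht).trans hr
    obtain ⟨m, χ, hm⟩ := exists_appTop_map_eq_zero_of_isAffine_of_isLimit _ _ hcT _ _ hz
    refine ⟨m, χ ≫ β, (W.map (χ ≫ α)).appTop t, ?_⟩
    rw [map_sub, sub_eq_zero, ← CommRingCat.comp_apply, ← CommRingCat.comp_apply, ← CommRingCat.comp_apply,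
      ← Scheme.Hom.comp_appTop, ← Scheme.Hom.comp_appTop, ← Scheme.Hom.comp_appTop, ← T.map_comp,
      h.naturality χ, Category.assoc, ← W.map_comp] at hm
    change (h.app m).appTop ((W.map (χ ≫ α)).appTop t) = _
    rw [← CommRingCat.comp_apply, ← Scheme.Hom.comp_appTop, hm]
  have mono : ∀ {m n : J} (ψ : m ⟶ j₀) (χ : n ⟶ m) (b : Γ(T.obj j₀, ⊤)),
      (T.map ψ).appTop b ∈ (h.app m).appTop.hom.range →
      (T.map (χ ≫ ψ)).appTop b ∈ (h.app n).appTop.hom.range := fun {m n} ψ χ b hb => by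
    obtain ⟨w, hw⟩ := hb
    refine ⟨(W.map χ).appTop w, ?_⟩
    change (h.app n).appTop ((W.map χ).appTop w) = _
    rw [T.map_comp, Scheme.Hom.comp_appTop, CommRingCat.comp_apply, ← hw]
    change _ = (T.map χ).appTop ((h.app m).appTop w)
    rw [← CommRingCat.comp_apply, ← Scheme.Hom.comp_appTop, ← CommRingCat.comp_apply,
      ← Scheme.Hom.comp_appTop, h.naturality]
  have all : ∀ s' : Finset Γ(T.obj j₀, ⊤), ∃ (m : J) (ψ : m ⟶ j₀),
      ∀ b ∈ s', (T.map ψ).appTop b ∈ (h.app m).appTop.hom.range := fun s' => by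
    induction s' using Finset.induction with
    | empty => exact ⟨j₀, 𝟙 _, by simp⟩
    | insert x t hx ih =>
      obtain ⟨m, ψ, hψ⟩ := ih
      obtain ⟨l, φ, hφ⟩ := key x
      obtain ⟨k, a, b, e⟩ := IsCofiltered.cospan ψ φ
      refine ⟨k, a ≫ ψ, fun z hz => ?_⟩
      rcases Finset.mem_insert.1 hz with rfl | hz
      · rw [e]; exact mono φ b _ hφ
      · exact mono ψ a _ (hψ z hz)
  obtain ⟨m, ψ, hψ⟩ := all s
  let R : Subring Γ(T.obj m, ⊤) := (h.app m).appTop.hom.range
  have hK : ∀ b, (T.map ψ).appTop b ∈ R := by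
    have hle : R.comap (T.map ψ).appTop.hom = ⊤ := by
      rw [eq_top_iff, ← hs, Subring.closure_le]
      rintro b (⟨a, rfl⟩ | hb)
      · refine ⟨(W.map ψ).appTop a, ?_⟩
        change (h.app m).appTop ((W.map ψ).appTop a) = (T.map ψ).appTop ((h.app j₀).appTop a)
        rw [← CommRingCat.comp_apply, ← Scheme.Hom.comp_appTop, ← CommRingCat.comp_apply,
          ← Scheme.Hom.comp_appTop, h.naturality]
      · exact hψ b hb
    exact fun b => (hle ▸ Subring.mem_top b : b ∈ R.comap (T.map ψ).appTop.hom)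
  let v₀ : CommRingCat.of Γ(T.obj j₀, ⊤) ⟶ CommRingCat.of R :=
    CommRingCat.ofHom ((T.map ψ).appTop.hom.codRestrict R hK)
  let w₀ : CommRingCat.of Γ(W.obj m, ⊤) ⟶ CommRingCat.of R :=
    CommRingCat.ofHom (h.app m).appTop.hom.rangeRestrict
  let u : T.obj m ⟶ Spec (CommRingCat.of R) := (T.obj m).isoSpec.hom ≫ Spec.map (CommRingCat.ofHom R.subtype)
  let v : Spec (CommRingCat.of R) ⟶ T.obj j₀ := Spec.map v₀ ≫ (T.obj j₀).isoSpec.inv
  let w : Spec (CommRingCat.of R) ⟶ W.obj m := Spec.map w₀ ≫ (W.obj m).isoSpec.inv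
  have huv : u ≫ v = T.map ψ := by
    simp only [u, v, Category.assoc, ← Spec.map_comp_assoc]
    rw [show v₀ ≫ CommRingCat.ofHom R.subtype = (T.map ψ).appTop from rfl,
      Scheme.isoSpec_inv_naturality, Iso.hom_inv_id_assoc]
  have huw : u ≫ w = h.app m := by
    simp only [u, w, Category.assoc, ← Spec.map_comp_assoc]
    rw [show w₀ ≫ CommRingCat.ofHom R.subtype = (h.app m).appTop from rfl,
      Scheme.isoSpec_inv_naturality, Iso.hom_inv_id_assoc]
  have hvw : v ≫ h.app j₀ = w ≫ W.map ψ := by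
    simp only [v, w, Category.assoc]
    rw [← Scheme.isoSpec_inv_naturality, ← Scheme.isoSpec_inv_naturality, ← Spec.map_comp_assoc,
      ← Spec.map_comp_assoc]
    refine congrArg (fun t => Spec.map t ≫ _) ?_
    ext a
    change (T.map ψ).appTop ((h.app j₀).appTop a) = (h.app m).appTop ((W.map ψ).appTop a)
    rw [← CommRingCat.comp_apply, ← Scheme.Hom.comp_appTop, ← CommRingCat.comp_apply,
      ← Scheme.Hom.comp_appTop, h.naturality]
  haveI := hcl ψ
  haveI : IsClosedImmersion (u ≫ pullback.lift (f := h.app j₀) (g := W.map ψ) v w hvw) := by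
    have e : u ≫ pullback.lift (f := h.app j₀) (g := W.map ψ) v w hvw =
        pullback.lift (f := h.app j₀) (g := W.map ψ) (T.map ψ) (h.app m) (h.naturality ψ) := by
      apply pullback.hom_ext <;> simp [huv, huw]
    rw [e]
    infer_instance
  haveI : IsClosedImmersion u := IsClosedImmersion.of_comp u (pullback.lift (f := h.app j₀) (g := W.map ψ) v w hvw)
  haveI : IsClosedImmersion (Spec.map (CommRingCat.ofHom R.subtype)) :=
    (MorphismProperty.cancel_left_of_respectsIso @IsClosedImmersion (T.obj m).isoSpec.hom _).1 ‹_›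
  refine ⟨m, IsClosedImmersion.of_surjective_of_isAffine _ fun x => ?_⟩
  obtain ⟨y, hy⟩ := (IsClosedImmersion.isAffine_surjective_of_isAffine
    (Spec.map (CommRingCat.ofHom R.subtype))).2 ((Scheme.ΓSpecIso (CommRingCat.of Γ(T.obj m, ⊤))).inv x)
  have := congrArg (Scheme.ΓSpecIso (CommRingCat.of Γ(T.obj m, ⊤))).hom hy
  rw [← CommRingCat.comp_apply, Scheme.ΓSpecIso_naturality, CommRingCat.comp_apply,
    ← CommRingCat.comp_apply (Scheme.ΓSpecIso _).inv, Iso.inv_hom_id, CommRingCat.id_apply] at this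
  obtain ⟨z, hz⟩ := ((Scheme.ΓSpecIso (CommRingCat.of R)).hom y).2
  exact ⟨z, hz.trans this⟩

end Groth.Agent.MonoPtLib
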