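import Groth.Agent.MonoPtLib.LimScheme
import Groth.Agent.MonoPtLib.LimMono
import Groth.Agent.MonoPtLib.LimIso
/-!
# Minimal closed subspaces which are not schemes
-/

set_option autoImplicit false
set_option backward.isDefEq.respectTransparency false
set_option backward.isDefEq.respectTransparency.types false
universe u
open CategoryTheory CategoryTheory.Limits AlgebraicGeometry AlgSp

namespace Groth.Agent.MonoPtLib

variable {S : Scheme.{u}} {X : Sp S} {E : Over S} (b : (yon S).obj E ⟶ X)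

/-- The ideal, on an affine chart, of a closed subspace. -/
noncomputable def chartIdeal {Z : Sp S} {ζ : Z ⟶ X} (hζ : RepWith @IsClosedImmersion ζ) : Ideal Γ(E.left, ⊤) :=
  RingHom.ker (hζ.rep.snd b).left.appTop.hom

theorem chartIdeal_le_of_factor {Z Z' : Sp S} {ζ : Z ⟶ X} (hζ : RepWith @IsClosedImmersion ζ)
    {ζ' : Z' ⟶ X} (hζ' : RepWith @IsClosedImmersion ζ') (m : Z ⟶ Z') (hm : m ≫ ζ' = ζ) :
    chartIdeal b hζ' ≤ chartIdeal b hζ := by
  obtain ⟨l, hl⟩ : ∃ l, l ≫ hζ'.rep.snd b = hζ.rep.snd b :=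
    ⟨hζ'.rep.lift (hζ.rep.fst b ≫ m) (hζ.rep.snd b) (by rw [Category.assoc, hm]; exact hζ.rep.w b),
      hζ'.rep.lift_snd ..⟩
  intro x hx
  rw [chartIdeal, RingHom.mem_ker] at hx ⊢
  rw [← hl, Over.comp_left, Scheme.Hom.comp_appTop, CommRingCat.hom_comp, RingHom.comp_apply, hx, map_zero]

variable [IsAffine E.left] (hb : RepWith @Etale b) (hbs : RepWith @Surjective b)

include hb hbs in
/-- Closed subspaces are ordered by their ideals on a chart. -/
theorem exists_factor_of_chartIdeal_le {Z Z' : Sp S} {ζ : Z ⟶ X} (hζ : RepWith @IsClosedImmersion ζ)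
    {ζ' : Z' ⟶ X} (hζ' : RepWith @IsClosedImmersion ζ') (h : chartIdeal b hζ' ≤ chartIdeal b hζ) :
    ∃ m : Z ⟶ Z', m ≫ ζ' = ζ := by
  haveI : IsClosedImmersion (hζ.rep.snd b).left := hζ.property_snd b
  haveI : IsClosedImmersion (hζ'.rep.snd b).left := hζ'.property_snd b
  have hker : (hζ'.rep.snd b).left.ker ≤ (hζ.rep.snd b).left.ker :=
    Scheme.IdealSheafData.le_of_isAffine (by rw [Scheme.Hom.ker_apply, Scheme.Hom.ker_apply]; exact h)
  let mE : hζ.rep.pullback b ⟶ hζ'.rep.pullback b :=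
    Over.homMk (IsClosedImmersion.lift _ _ hker) (by
      rw [← Over.w (hζ'.rep.snd b), IsClosedImmersion.lift_fac_assoc, Over.w])
  have hmE : mE ≫ hζ'.rep.snd b = hζ.rep.snd b :=
    Over.OverMorphism.ext (IsClosedImmersion.lift_fac _ _ hker)
  have hP : RepWith @IsClosedImmersion (pullback.fst ζ ζ') :=
    AlgSpLib.repWith_of_isPullback (IsPullback.of_hasPullback ζ ζ').flip hζ'
  haveI : Mono (pullback.fst ζ ζ') :=
    AlgSpLib.mono_of_repWith (fun g (_ : IsClosedImmersion g) => inferInstance) hP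
  -- the base change to the chart has a section
  have hfE : RepWith @Etale (hζ.rep.fst b) := AlgSpLib.repWith_of_isPullback (hζ.rep.isPullback b).flip hb
  have hfEs : RepWith @Surjective (hζ.rep.fst b) :=
    AlgSpLib.repWith_of_isPullback (hζ.rep.isPullback b).flip hbs
  haveI : Sheaf.IsLocallySurjective (hζ.rep.fst b) := AlgSpLib.isLocallySurjective_of_repWith
    (AlgSpLib.repWith_mono (fun _ _ g (_ : Etale g) => (inferInstance : Flat g)) hfE)
    (AlgSpLib.repWith_mono (fun _ _ g (_ : Etale g) => (inferInstance : LocallyOfFinitePresentation g)) hfE)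
    hfEs
  have sq := IsPullback.of_hasPullback (pullback.fst ζ ζ') (hζ.rep.fst b)
  haveI : IsIso (pullback.snd (pullback.fst ζ ζ') (hζ.rep.fst b)) := by
    refine ⟨pullback.lift (pullback.lift (hζ.rep.fst b) ((yon S).map mE ≫ hζ'.rep.fst b) ?_) (𝟙 _) ?_,
      ?_, pullback.lift_snd _ _ _⟩
    · rw [Category.assoc, hζ'.rep.w b, ← Category.assoc, ← Functor.map_comp, hmE]
      exact hζ.rep.w b
    · rw [pullback.lift_fst, Category.id_comp]
    · rw [← cancel_mono (pullback.snd (pullback.fst ζ ζ') (hζ.rep.fst b)), Category.assoc, pullback.lift_snd,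
        Category.comp_id, Category.id_comp]
  haveI : IsIso (pullback.fst ζ ζ') := AlgSpLib.isIso_of_isPullback sq
  exact ⟨inv (pullback.fst ζ ζ') ≫ pullback.snd ζ ζ', by
    rw [Category.assoc, ← pullback.condition, IsIso.inv_hom_id_assoc]⟩

include hb hbs in
theorem isIso_of_chartIdeal_le {Z Z' : Sp S} {ζ : Z ⟶ X} (hζ : RepWith @IsClosedImmersion ζ)
    (i : Z' ⟶ Z) [Mono i] (hi : RepWith @IsClosedImmersion (i ≫ ζ))
    (h : chartIdeal b hi ≤ chartIdeal b hζ) : IsIso i := by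
  obtain ⟨m, hm⟩ := exists_factor_of_chartIdeal_le b hb hbs hζ hi h
  haveI : Mono ζ := AlgSpLib.mono_of_repWith (fun g (_ : IsClosedImmersion g) => inferInstance) hζ
  have e : m ≫ i = 𝟙 Z := by rw [← cancel_mono ζ, Category.assoc, hm, Category.id_comp]
  exact ⟨m, by rw [← cancel_mono i, Category.assoc, e, Category.comp_id, Category.id_comp], e⟩

omit [IsAffine E.left] in
/-- The limit of a system of closed subspaces is a closed subspace. -/
theorem closedImmersion_proj {J : Type u} [SmallCategory J] [IsCofiltered J] (D : J ⥤ Sp S)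
    (hDc : ∀ (i j : J) (φ : i ⟶ j), RepWith @IsClosedImmersion (D.map φ))
    (c : Cone D) (hc : IsLimit c) (j₀ : J) (hqc : IsQuasiCompactSp (D.obj j₀)) :
    RepWith @IsClosedImmersion (c.π.app j₀) := by
  obtain ⟨U, a, hU, ha, has⟩ := AlgSpLib.exists_affine_chart hqc
  obtain ⟨⟨h1⟩, ⟨h2⟩, h3⟩ := limit_over_data D hc j₀
  obtain ⟨W, cW, i, fW, p, q, ⟨hcW⟩, haff, hW, sqj, hi, -, -, sqW⟩ :=
    exists_pullback_limit' (overNat D j₀) (fun k => isAffineMor_of_closedImmersion (hDc _ _ k.hom))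
      h1 h2 (c.π.app j₀) h3 hU a
  haveI := hU
  haveI := haff
  have hp : ∀ k, IsClosedImmersion (p k).left := fun k =>
    (repWith_yon_map_iff (P := @IsClosedImmersion) _).1
      (AlgSpLib.repWith_of_isPullback (sqj k) (hDc _ _ k.hom))
  haveI : ∀ k, IsAffine ((W ⋙ Over.forget S).obj k) := hW
  obtain ⟨hl⟩ := scheme_isLimit hcW
  haveI : IsClosedImmersion i.left := by
    refine IsClosedImmersion.of_surjective_of_isAffine _ fun x => ?_
    obtain ⟨k, t, ht⟩ := exists_appTop_π_eq_of_isAffine_of_isLimit (W ⋙ Over.forget S) _ hl x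
    haveI := hW k
    haveI := hp k
    obtain ⟨z, hz⟩ := (IsClosedImmersion.isAffine_surjective_of_isAffine (p k).left).2 t
    refine ⟨z, ?_⟩
    rw [← hi k, Over.comp_left, Scheme.Hom.comp_appTop, ← ht]
    exact congrArg (cW.π.app k).left.appTop hz
  exact AlgSpLib.repWith_of_etale_cover (fun _ _ g (_ : IsClosedImmersion g) => inferInstance) ha has sqW
    ((repWith_yon_map_iff _ _).2 ‹IsClosedImmersion i.left›)

include hb hbs in
/-- A non-schematic quasi-compact quasi-separated space has a minimal non-schematic closed subspace. -/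
theorem exists_minimal_nonSch [QuasiSeparatedSpace S] (hX : IsAlgSpace X) (hXqc : IsQuasiCompactSp X)
    (hXqs : IsQuasiSeparatedSp X) (hnX : ¬ X.obj.IsRepresentable) :
    ∃ (Z : Sp S) (ζ : Z ⟶ X), RepWith @IsClosedImmersion ζ ∧ ¬ Z.obj.IsRepresentable ∧
      ∀ (Z' : Sp S) (i : Z' ⟶ Z), RepWith @IsClosedImmersion i → ¬ IsIso i → Z'.obj.IsRepresentable := by
  classical
  let F : Set (Ideal Γ(E.left, ⊤)) := {J | ∃ (Z : Sp S) (ζ : Z ⟶ X) (hζ : RepWith @IsClosedImmersion ζ),
    chartIdeal b hζ = J ∧ ¬ Z.obj.IsRepresentable}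
  have h1X : RepWith @IsClosedImmersion (𝟙 X) := AlgSpLib.repWith_of_isIso _
  obtain ⟨I, -, ⟨Z, ζ, hζ, hI, hnZ⟩, hmax⟩ := zorn_le_nonempty₀ F (fun C hCF hC J hJ => by
    choose Zs ζs hζs hJs hns using fun K : C => hCF K.2
    haveI : ∀ K, Mono (ζs K) := fun K =>
      AlgSpLib.mono_of_repWith (fun g (_ : IsClosedImmersion g) => inferInstance) (hζs K)
    haveI : Nonempty (↥C)ᵒᵈ := ⟨OrderDual.toDual ⟨J, hJ⟩⟩
    haveI : IsCofiltered (↥C)ᵒᵈ := by
      haveI : IsCodirectedOrder (↥C)ᵒᵈ := ⟨fun a b => by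
        obtain ⟨k, hk, h1, h2⟩ := hC.directedOn _ (OrderDual.ofDual a).2 _ (OrderDual.ofDual b).2
        exact ⟨OrderDual.toDual ⟨k, hk⟩, h1, h2⟩⟩
      infer_instance
    choose m hm using fun (K L : C) (h : L.1 ≤ K.1) =>
      exists_factor_of_chartIdeal_le b hb hbs (hζs K) (hζs L) (by rw [hJs, hJs]; exact h)
    let D : (↥C)ᵒᵈ ⥤ Sp S :=
      { obj := fun K => Zs (OrderDual.ofDual K)
        map := fun {K L} φ => m (OrderDual.ofDual K) (OrderDual.ofDual L) (leOfHom φ)
        map_id := fun K => by rw [← cancel_mono (ζs (OrderDual.ofDual K)), hm, Category.id_comp]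
        map_comp := fun {K L M} φ ψ => by
          rw [← cancel_mono (ζs (OrderDual.ofDual M)), Category.assoc, hm, hm, hm] }
    have hDc : ∀ (K L : (↥C)ᵒᵈ) (φ : K ⟶ L), RepWith @IsClosedImmersion (D.map φ) := fun K L φ => by
      have sq : IsPullback (𝟙 _) (D.map φ) (ζs (OrderDual.ofDual K)) (ζs (OrderDual.ofDual L)) :=
        ⟨⟨by rw [Category.id_comp]; exact (hm _ _ (leOfHom φ)).symm⟩,
          ⟨PullbackCone.IsLimit.mk _ (fun s => s.fst) (fun s => Category.comp_id _)
          (fun s => by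
            rw [← cancel_mono (ζs (OrderDual.ofDual L)), Category.assoc]
            exact (congrArg (s.fst ≫ ·) (hm _ _ (leOfHom φ))).trans s.condition)
          (fun s l h1 _ => by simpa using h1)⟩⟩
      exact AlgSpLib.repWith_of_isPullback sq (hζs _)
    have hDA : ∀ K, IsAlgSpace (D.obj K) := fun K =>
      AlgSpLib.isAlgSpace_of_representable hX _ (hζs _).rep
    have hDqc : ∀ K, IsQuasiCompactSp (D.obj K) := fun K =>
      AlgSpLib.isQuasiCompactSp_of_mor hX (AlgSpLib.isQuasiCompactMor_of_repWith (hDA K) hX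
        (AlgSpLib.repWith_mono (fun _ _ g (_ : IsClosedImmersion g) => (inferInstance : QuasiCompact g)) (hζs _)))
        hXqc
    let K₀ : (↥C)ᵒᵈ := OrderDual.toDual ⟨J, hJ⟩
    let c := limit.cone D
    let g : c.pt ⟶ X := c.π.app K₀ ≫ ζs (OrderDual.ofDual K₀)
    have hg : RepWith @IsClosedImmersion g :=
      AlgSpLib.repWith_comp (closedImmersion_proj D hDc c (limit.isLimit D) K₀ (hDqc K₀)) (hζs _)
    refine ⟨chartIdeal b hg, ⟨_, g, hg, rfl, fun hrep => ?_⟩, fun K hK => ?_⟩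
    · obtain ⟨T, ⟨e⟩⟩ := exists_iso_of_isRepresentable hrep
      obtain ⟨k, W, ⟨eW⟩⟩ := exists_representable_stage D hDA
        (fun a b φ => isAffineMor_of_closedImmersion (hDc a b φ)) hDqc
        (fun K => AlgSpLib.isQuasiSeparatedSp_of_mor (isQuasiSeparatedMor_of_mono (ζs (OrderDual.ofDual K))) hXqs)
        c (limit.isLimit D) T e
      exact hns _ (representableByOfIso eW).isRepresentable
    · let K' : (↥C)ᵒᵈ := OrderDual.toDual ⟨K, hK⟩
      obtain ⟨M, f₁, f₂, -⟩ := IsCofilteredOrEmpty.cone_objs K₀ K'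
      refine (hJs ⟨K, hK⟩).symm.trans_le (chartIdeal_le_of_factor b hg (hζs ⟨K, hK⟩) (c.π.app K') ?_)
      change c.π.app K' ≫ ζs (OrderDual.ofDual K') = _
      simp only [g]
      rw [← c.w f₁, ← c.w f₂, Category.assoc, Category.assoc]
      exact congrArg _ ((hm _ _ (leOfHom f₂)).trans (hm _ _ (leOfHom f₁)).symm))
    (chartIdeal b h1X) ⟨X, 𝟙 X, h1X, rfl, hnX⟩
  refine ⟨Z, ζ, hζ, hnZ, fun Z' i hi hniso => ?_⟩
  by_contra hn
  haveI : Mono i := AlgSpLib.mono_of_repWith (fun g (_ : IsClosedImmersion g) => inferInstance) hi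
  have hiζ := AlgSpLib.repWith_comp hi hζ
  refine hniso (isIso_of_chartIdeal_le b hb hbs hζ i hiζ ?_)
  have hle : chartIdeal b hζ ≤ chartIdeal b hiζ := chartIdeal_le_of_factor b hiζ hζ i rfl
  rw [hI] at hle ⊢
  exact hmax ⟨Z', i ≫ ζ, hiζ, rfl, hn⟩ hle

end Groth.Agent.MonoPtLib
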