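import Groth.Agent.MonoPtLib.LimScheme
import Groth.Agent.MonoPtLib.LimMono
/-!
# Maximal ideals with non-schematic base change
-/

set_option autoImplicit false
set_option backward.isDefEq.respectTransparency false
set_option backward.isDefEq.respectTransparency.types false
universe u
open CategoryTheory CategoryTheory.Limits AlgebraicGeometry AlgSp

namespace Groth.Agent.MonoPtLib

variable {A : CommRingCat.{u}}

/-- The closed subscheme of an ideal, over `Spec A`. -/
noncomputable def qOb (I : Ideal A) : Over (Spec A) :=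
  Over.mk (Spec.map (CommRingCat.ofHom (Ideal.Quotient.mk I)))

noncomputable def qMap {I J : Ideal A} (h : I ≤ J) : qOb J ⟶ qOb I :=
  Over.homMk (Spec.map (CommRingCat.ofHom (Ideal.Quotient.factor h))) (by
    change Spec.map _ ≫ Spec.map _ = Spec.map _
    rw [← Spec.map_comp, ← CommRingCat.ofHom_comp, Ideal.Quotient.factor_comp_mk])

instance (I : Ideal A) : IsClosedImmersion (qOb I).hom :=
  IsClosedImmersion.spec_of_surjective _ Ideal.Quotient.mk_surjective

theorem qOb_hom_ext {I : Ideal A} {T : Over (Spec A)} (a b : T ⟶ qOb I) : a = b :=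
  Over.OverMorphism.ext ((cancel_mono (qOb I).hom).1 ((Over.w a).trans (Over.w b).symm))

theorem eq_toSpecΓ {T : Scheme.{u}} (f : T ⟶ Spec A) :
    f = T.toSpecΓ ≫ Spec.map ((Scheme.ΓSpecIso A).inv ≫ f.appTop) := by
  rw [Spec.map_comp, ← Category.assoc, ← Scheme.toSpecΓ_naturality, Category.assoc,
    toSpecΓ_SpecMap_ΓSpecIso_inv, Category.comp_id]

theorem exists_hom_qOb_iff (I : Ideal A) (T : Over (Spec A)) :
    Nonempty (T ⟶ qOb I) ↔ ∀ x ∈ I, ((Scheme.ΓSpecIso A).inv ≫ T.hom.appTop).hom x = 0 := by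
  constructor
  · rintro ⟨g⟩ x hx
    have e : (Scheme.ΓSpecIso A).inv ≫ T.hom.appTop = CommRingCat.ofHom (Ideal.Quotient.mk I) ≫
        (Scheme.ΓSpecIso _).inv ≫ g.left.appTop := by
      rw [← Over.w g, Scheme.Hom.comp_appTop, Scheme.ΓSpecIso_inv_naturality_assoc]
      rfl
    rw [e]
    have h0 : Ideal.Quotient.mk I x = 0 := Ideal.Quotient.eq_zero_iff_mem.2 hx
    rw [CommRingCat.hom_comp, RingHom.comp_apply, CommRingCat.hom_ofHom, h0, map_zero]
  · intro h
    refine ⟨Over.homMk (T.left.toSpecΓ ≫ Spec.map (CommRingCat.ofHom (Ideal.Quotient.lift I _ h))) ?_⟩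
    change (_ ≫ _) ≫ Spec.map _ = T.hom
    rw [Category.assoc, ← Spec.map_comp]
    exact (eq_toSpecΓ T.hom).symm

variable (C : Set (Ideal A))

/-- The closed subschemes of a chain of ideals. -/
noncomputable def chainDiag : (↥C)ᵒᵈ ⥤ Over (Spec A) where
  obj I := qOb (OrderDual.ofDual I).1
  map φ := qMap (OrderDual.ofDual_le_ofDual.2 (leOfHom φ))
  map_id _ := qOb_hom_ext _ _
  map_comp _ _ := qOb_hom_ext _ _

noncomputable def chainCone : Cone (chainDiag C) where
  pt := qOb (sSup C)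
  π :=
    { app := fun I => qMap (le_sSup (OrderDual.ofDual I).2)
      naturality := fun _ _ _ => qOb_hom_ext _ _ }

noncomputable def chainConeIsLimit (hd : DirectedOn (· ≤ ·) C) (hne : C.Nonempty) :
    IsLimit (chainCone C) where
  lift s := Classical.choice ((exists_hom_qOb_iff _ s.pt).2 fun x hx => by
    obtain ⟨J, hJ, hxJ⟩ := (Submodule.mem_sSup_of_directed hne hd).1 hx
    exact (exists_hom_qOb_iff J s.pt).1 ⟨s.π.app (OrderDual.toDual ⟨J, hJ⟩)⟩ x hxJ)
  fac _ _ := qOb_hom_ext _ _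
  uniq _ _ _ := qOb_hom_ext _ _

/-- Base change to the closed subscheme of an ideal is not representable. -/
def NonSchQ (X : Sp (Spec A)) (q : X ⟶ (yon (Spec A)).obj (Over.mk (𝟙 (Spec A)))) (I : Ideal A) : Prop :=
  ∀ (P : Sp (Spec A)) (fst : P ⟶ X) (snd : P ⟶ (yon (Spec A)).obj (qOb I)),
    IsPullback fst snd q ((yon (Spec A)).map (Over.homMk (qOb I).hom)) → ¬ P.obj.IsRepresentable

theorem exists_maximal_nonSch (X : Sp (Spec A)) (hX : IsAlgSpace X)
    (q : X ⟶ (yon (Spec A)).obj (Over.mk (𝟙 (Spec A)))) (hqc : IsQuasiCompactMor q)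
    (hqs : IsQuasiSeparatedMor q) (hnX : ¬ X.obj.IsRepresentable) :
    ∃ I : Ideal A, NonSchQ X q I ∧ ∀ J, I < J → ¬ NonSchQ X q J := by
  classical
  have hbot : NonSchQ X q ⊥ := fun P fst snd sq h => by
    haveI : IsIso (qOb (⊥ : Ideal A)).hom := by
      haveI : IsIso (CommRingCat.ofHom (Ideal.Quotient.mk (⊥ : Ideal A))) :=
        (ConcreteCategory.isIso_iff_bijective _).2
          ⟨fun a b hab => by simpa [sub_eq_zero] using Ideal.Quotient.eq.1 hab, Ideal.Quotient.mk_surjective⟩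
      exact inferInstanceAs (IsIso (Spec.map _))
    haveI : IsIso (Over.homMk (qOb (⊥ : Ideal A)).hom : qOb ⊥ ⟶ Over.mk (𝟙 (Spec A))) := by
      haveI : IsIso ((Over.forget (Spec A)).map (Over.homMk (qOb (⊥ : Ideal A)).hom : qOb ⊥ ⟶ Over.mk (𝟙 (Spec A)))) :=
        inferInstanceAs (IsIso (qOb (⊥ : Ideal A)).hom)
      exact isIso_of_reflects_iso _ (Over.forget (Spec A))
    haveI := sq.isIso_fst_of_isIso
    obtain ⟨T, ⟨e⟩⟩ := exists_iso_of_isRepresentable h
    exact hnX (representableByOfIso (e ≪≫ asIso fst)).isRepresentable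
  obtain ⟨I, -, hI⟩ := zorn_le_nonempty₀ {I | NonSchQ X q I} (fun C hCF hC J hJ => by
    refine ⟨sSup C, ?_, fun I hI => le_sSup hI⟩
    intro P fst snd sq hP
    haveI : Nonempty (↥C)ᵒᵈ := ⟨OrderDual.toDual ⟨J, hJ⟩⟩
    haveI : IsCofiltered (↥C)ᵒᵈ := by
      haveI : IsCodirectedOrder (↥C)ᵒᵈ := ⟨fun a b => by
        obtain ⟨k, hk, h1, h2⟩ := hC.directedOn _ (OrderDual.ofDual a).2 _ (OrderDual.ofDual b).2
        exact ⟨OrderDual.toDual ⟨k, hk⟩, h1, h2⟩⟩
      infer_instance
    let D := chainDiag C ⋙ yon (Spec A)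
    let c := (yon (Spec A)).mapCone (chainCone C)
    have hc : IsLimit c := isLimitOfPreserves _ (chainConeIsLimit C hC.directedOn ⟨J, hJ⟩)
    let t : D ⟶ (Functor.const (↥C)ᵒᵈ).obj ((yon (Spec A)).obj (Over.mk (𝟙 (Spec A)))) :=
      { app := fun I => (yon (Spec A)).map (Over.homMk (qOb (OrderDual.ofDual I).1).hom)
        naturality := fun a b φ => by
          change (yon _).map _ ≫ (yon _).map _ = (yon _).map _ ≫ 𝟙 _
          rw [Category.comp_id, ← Functor.map_comp]
          refine congrArg _ (Over.OverMorphism.ext ?_)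
          exact Over.w ((chainDiag C).map φ) }
    obtain ⟨Q, cQ, hcQ, v, r, f, s, sqk, sqlim, sqtr, -, -, -⟩ :=
      exists_pullback_system t hc ((yon (Spec A)).map (Over.homMk (qOb (sSup C)).hom)) (fun I => by
        change (yon _).map _ ≫ (yon _).map _ = _
        rw [← Functor.map_comp]
        exact congrArg _ (Over.OverMorphism.ext (Over.w ((chainCone C).π.app I)))) q
    have hcl : ∀ I : Ideal A, RepWith @IsClosedImmersion
        ((yon (Spec A)).map (Over.homMk (qOb I).hom : qOb I ⟶ Over.mk (𝟙 (Spec A)))) := fun I =>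
      (repWith_yon_map_iff _ _).2 (inferInstanceAs (IsClosedImmersion (qOb I).hom))
    have hr : ∀ k, RepWith @IsClosedImmersion (r k) := fun k =>
      AlgSpLib.repWith_of_isPullback (sqk k) (hcl _)
    have hQA : ∀ k, IsAlgSpace (Q.obj k) := fun k =>
      AlgSpLib.isAlgSpace_of_representable hX (r k) (hr k).rep
    haveI : IsAffine (Over.mk (𝟙 (Spec A))).left := inferInstanceAs (IsAffine (Spec A))
    have hXqc : IsQuasiCompactSp X :=
      AlgSpLib.isQuasiCompactSp_source (IsAlgSpace.yon_obj _) hqc (AlgSpLib.isQuasiCompactSp_yon _)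
    have hXqs : IsQuasiSeparatedSp X := AlgSpLib.isQuasiSeparatedSp_of_mor hqs (isQuasiSeparatedSp_yon _)
    obtain ⟨T, ⟨e⟩⟩ := exists_iso_of_isRepresentable hP
    let e' : (yon (Spec A)).obj T ≅ cQ.pt := e ≪≫ sq.flip.isoIsPullback _ _ sqlim
    obtain ⟨k, W, ⟨eW⟩⟩ := exists_representable_stage Q hQA
      (fun a b φ => AlgSpLib.isAffineMor_iff.2 (AlgSpLib.repWith_of_isPullback (sqtr φ)
        ((repWith_yon_map_iff _ _).2 (inferInstanceAs (IsAffineHom (Spec.map _))))))
      (fun k => AlgSpLib.isQuasiCompactSp_of_mor hX (AlgSpLib.isQuasiCompactMor_of_repWith (hQA k) hX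
        (AlgSpLib.repWith_mono (fun _ _ g (_ : IsClosedImmersion g) => (inferInstance : QuasiCompact g)) (hr k)))
        hXqc)
      (fun k => by
        haveI : Mono (r k) := AlgSpLib.mono_of_repWith (fun g (_ : IsClosedImmersion g) => inferInstance) (hr k)
        exact AlgSpLib.isQuasiSeparatedSp_of_mor (isQuasiSeparatedMor_of_mono (r k)) hXqs)
      cQ hcQ T e'
    exact hCF (OrderDual.ofDual k).2 _ _ _ (sqk k).flip (representableByOfIso eW).isRepresentable) ⊥ hbot
  exact ⟨I, hI.1, fun J hJ h => hJ.not_ge (hI.2 h hJ.le)⟩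

end Groth.Agent.MonoPtLib
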