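import Groth.Agent.AlgSpLib.ZarQsCover
import Groth.Agent.MonoPtLib.Basic
import Groth.Agent.MiscFlat6.FiniteOverOpen
import Mathlib.AlgebraicGeometry.IdealSheaf.Functorial

/-!
# Locally Noetherian decent spaces are quasi-separated
-/

set_option autoImplicit false
set_option backward.isDefEq.respectTransparency false
set_option backward.isDefEq.respectTransparency.types false

universe u

open CategoryTheory CategoryTheory.Limits AlgebraicGeometry Opposite AlgSp Topology AlgSpLib TopologicalSpace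

namespace MonoPtLib

/-- The first factor of a finite restriction is finite when the second factor is separated. -/
lemma isFinite_restrict_left {A B C : Scheme.{u}} (a : A ⟶ B) (b : B ⟶ C) [IsSeparated b] (O : C.Opens)
    [IsFinite ((a ≫ b) ∣_ O)] : IsFinite (a ∣_ (b ⁻¹ᵁ O)) := by
  haveI : IsFinite (a ∣_ (b ⁻¹ᵁ O) ≫ b ∣_ O) := by
    rw [← morphismRestrict_comp]; infer_instance
  exact MorphismProperty.of_postcomp @IsFinite (a ∣_ (b ⁻¹ᵁ O)) (b ∣_ O)
    (inferInstance : IsSeparated (b ∣_ O)) ‹_›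

lemma compactSpace_restrict_source {A B C : Scheme.{u}} (a : A ⟶ B) (b : B ⟶ C) (O : C.Opens)
    [IsFinite ((a ≫ b) ∣_ O)] [CompactSpace O.toScheme] : CompactSpace (a ⁻¹ᵁ (b ⁻¹ᵁ O)).toScheme :=
  QuasiCompact.compactSpace_of_compactSpace ((a ≫ b) ∣_ O)

/-- A separated flat quasi-finite morphism of finite presentation with finite fibres has compact source over
a Noetherian base. -/
theorem compactSpace_of_finite_fibres {R U : Scheme.{u}} (g : R ⟶ U) [IsSeparated g] [Flat g]
    [LocallyOfFinitePresentation g] [LocallyQuasiFinite g] [NoetherianSpace U]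
    (hfin : ∀ u, (g ⁻¹' {u}).Finite) : CompactSpace R := by
  suffices h : ∀ Z : Closeds U, IsCompact (g ⁻¹' (Z : Set U)) by
    refine ⟨?_⟩
    have := h ⊤
    rwa [Closeds.coe_top, Set.preimage_univ] at this
  intro Z
  induction Z using WellFoundedLT.induction with
  | ind Z ih =>
  let I := Scheme.IdealSheafData.vanishingIdeal Z
  let i := I.subschemeι
  have hi : Set.range i = (Z : Set U) := by
    rw [Scheme.IdealSheafData.range_subschemeι, Scheme.IdealSheafData.coe_support_vanishingIdeal]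
  rcases (Z : Set U).eq_empty_or_nonempty with hZ | ⟨z₀, hz₀⟩
  · rw [hZ, Set.preimage_empty]; exact isCompact_empty
  haveI : Nonempty I.subscheme := by
    rw [← hi] at hz₀
    exact ⟨hz₀.choose⟩
  haveI : NoetherianSpace I.subscheme := i.isEmbedding.isInducing.noetherianSpace
  haveI : QuasiSeparatedSpace I.subscheme := ⟨fun _ _ _ _ _ _ => NoetherianSpace.isCompact _⟩
  let g' := pullback.snd g i
  let q := pullback.fst g i
  haveI : IsPreimmersion q := MorphismProperty.pullback_fst (P := @IsPreimmersion) g i inferInstance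
  have hfin' : ∀ z, (g' ⁻¹' {z}).Finite := fun z => by
    refine ((hfin (i z)).preimage q.isEmbedding.injective.injOn).subset fun w (hw : g' w = z) => ?_
    change g (q w) = i z
    rw [← Scheme.Hom.comp_apply, pullback.condition, Scheme.Hom.comp_apply]
    exact congrArg i hw
  -- a generic point and an open in which it is the only maximal point
  let z₁ : I.subscheme := Classical.arbitrary _
  let C := irreducibleComponent z₁
  have hC : C ∈ irreducibleComponents I.subscheme := irreducibleComponent_mem_irreducibleComponents z₁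
  obtain ⟨o, ho, hone, hoC⟩ := NoetherianSpace.exists_isOpen_nonempty_subset_irreducibleComponent C hC
  have hη : IsGenericPoint hC.1.genericPoint C := by
    have := hC.1.isGenericPoint_genericPoint_closure
    rwa [(isClosed_of_mem_irreducibleComponents C hC).closure_eq] at this
  let η := hC.1.genericPoint
  have hηmem : ∀ o' : Set I.subscheme, IsOpen o' → o' ⊆ o → o'.Nonempty → η ∈ o' := fun o' ho' hsub ⟨y, hy⟩ =>
    (hη.mem_open_set_iff ho').2 ⟨y, hoC (hsub hy), hy⟩
  -- a quasi-compact open containing the generic fibre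
  choose A hA hxA _ using fun r : (pullback g i : Scheme.{u}) =>
    exists_isAffineOpen_mem_and_subset (U := ⊤) (x := r) trivial
  let W : (pullback g i : Scheme.{u}).Opens :=
    ⟨⋃ r ∈ g' ⁻¹' {η}, (A r : Set _), isOpen_biUnion fun r _ => (A r).isOpen⟩
  haveI : CompactSpace W.toScheme :=
    isCompact_iff_compactSpace.1 ((hfin' η).isCompact_biUnion fun r _ => (hA r).isCompact)
  haveI : QuasiCompact (W.ι ≫ g') := quasiCompact_of_compactSpace _
  obtain ⟨O, hOo, hOne, hOfin⟩ := MiscFlat6.exists_open_finite (W.ι ≫ g') ⟨o, ho⟩ hone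
  let j := W.ι ∣_ (g' ⁻¹ᵁ O)
  haveI := hOfin
  haveI : IsFinite j := isFinite_restrict_left W.ι g' O
  have hsurj : Function.Surjective j := by
    by_contra hne
    obtain ⟨p₀, hp₀⟩ := Classical.not_forall.1 hne
    have hopen : IsOpen (((g' ⁻¹ᵁ O).ι ≫ g') '' (Set.range j)ᶜ) :=
      ((g' ⁻¹ᵁ O).ι ≫ g').isOpenMap _ j.isClosedMap.isClosed_range.isOpen_compl
    have hsub : ((g' ⁻¹ᵁ O).ι ≫ g') '' (Set.range j)ᶜ ⊆ o := by
      rintro _ ⟨p, -, rfl⟩
      rw [Scheme.Hom.comp_apply]
      exact hOo (show g' p.1 ∈ O from p.2)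
    obtain ⟨p, hp, hpη⟩ := hηmem _ hopen hsub ⟨_, p₀, fun ⟨y, hy⟩ => hp₀ ⟨y, hy⟩, rfl⟩
    rw [Scheme.Hom.comp_apply] at hpη
    have hpW : p.1 ∈ W := Set.mem_iUnion₂.2 ⟨p.1, hpη, hxA p.1⟩
    refine hp ⟨⟨⟨p.1, hpW⟩, p.2⟩, Subtype.ext ?_⟩
    rw [morphismRestrict_base_coe]
    rfl
  haveI : CompactSpace O.toScheme := isCompact_iff_compactSpace.1 (NoetherianSpace.isCompact _)
  haveI : CompactSpace (W.ι ⁻¹ᵁ (g' ⁻¹ᵁ O)).toScheme := compactSpace_restrict_source W.ι g' O
  have hcO : IsCompact (g' ⁻¹' (O : Set I.subscheme)) := by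
    have : IsCompact (Set.univ : Set (g' ⁻¹ᵁ O).toScheme) := hsurj.range_eq ▸ isCompact_range j.continuous
    have := this.image (g' ⁻¹ᵁ O).ι.continuous
    rwa [Set.image_univ, Scheme.Opens.range_ι] at this
  -- the rest
  let Z₂ : Closeds U := ⟨i '' (O : Set I.subscheme)ᶜ, i.isClosedEmbedding.isClosedMap _ O.isOpen.isClosed_compl⟩
  have hlt : Z₂ < Z := by
    refine lt_of_le_of_ne (fun y hy => ?_) fun he => ?_
    · obtain ⟨w, -, rfl⟩ := hy
      change i w ∈ (Z : Set U)
      rw [← hi]; exact Set.mem_range_self w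
    · obtain ⟨w, hw⟩ := hOne
      have : i w ∈ (Z₂ : Set U) := by rw [he, ← hi]; exact Set.mem_range_self w
      obtain ⟨w', hw', he'⟩ := this
      exact hw' (i.isEmbedding.injective he' ▸ hw)
  have heq : g ⁻¹' (Z : Set U) = g ⁻¹' (Z₂ : Set U) ∪ q '' (g' ⁻¹' (O : Set I.subscheme)) := by
    ext r
    constructor
    · intro hr
      obtain ⟨w, hw⟩ : g r ∈ Set.range i := hi.symm ▸ hr
      by_cases hwO : w ∈ O
      · obtain ⟨v, hv1, hv2⟩ := Scheme.Pullback.exists_preimage_pullback (f := g) (g := i) r w hw.symm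
        exact Or.inr ⟨v, show g' v ∈ O from hv2.symm ▸ hwO, hv1⟩
      · exact Or.inl ⟨w, hwO, hw⟩
    · rintro (hr | ⟨v, -, rfl⟩)
      · exact hlt.le hr
      · change g (q v) ∈ (Z : Set U)
        rw [← Scheme.Hom.comp_apply, pullback.condition, Scheme.Hom.comp_apply, ← hi]
        exact Set.mem_range_self _
  rw [heq]
  exact (ih Z₂ hlt).union (hcO.image q.continuous)

variable {S : Scheme.{u}}

/-- For a decent space, a point of one chart is related to finitely many points of an affine part of a chart. -/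
lemma finite_related_affine {X : Sp S} (hd : IsDecent X) {U : Over S} {p : (yon S).obj U ⟶ X}
    (hp : RepWith @Etale p) {R : Over S} {t s : R ⟶ U}
    (sq : IsPullback ((yon S).map t) ((yon S).map s) p p) (u : U.left) {O : U.left.Opens} (hO : IsAffineOpen O) :
    {r : R.left | t.left r = u ∧ s.left r ∈ O}.Finite := by
  obtain ⟨q, hq, hm, hqc⟩ := hd (Points.ofPt p u)
  let V : Over S := Over.mk (O.ι ≫ U.hom)
  let j : V ⟶ U := Over.homMk O.ι rfl
  haveI : IsAffine V.left := hO
  have hj : RepWith @Etale ((yon S).map j ≫ p) :=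
    repWith_comp ((repWith_yon_map_iff (P := (@Etale : MorphismProperty Scheme.{u})) j).2
      (inferInstanceAs (Etale O.ι))) hp
  have hfin := finite_fibre_of_qc_point hqc hj
  rw [hq] at hfin
  refine (hfin.biUnion fun o ho => finite_pairs_of_mono (u := j.left o) (u' := u) ⟨q, hq, hm⟩ hp
    ((ofPt_yon_comp j p o).symm.trans ho) rfl sq).subset ?_
  rintro r ⟨hrt, hrs⟩
  refine Set.mem_iUnion₂.2 ⟨⟨s.left r, hrs⟩, ?_, rfl, hrt⟩
  rw [Set.mem_preimage, Set.mem_singleton_iff, ofPt_yon_comp]
  change Points.ofPt p (s.left r) = _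
  rw [← hrt, ← ofPt_yon_comp, ← sq.w, ofPt_yon_comp]

/-- The relation of an atlas of a locally Noetherian decent space is quasi-compact in the product. -/
lemma quasiCompact_lift_of_noeth_decent {X : Sp S} (hN : IsLocNoethSp X) (hd : IsDecent X) {U : Over S}
    {p : (yon S).obj U ⟶ X} (hp : RepWith @Etale p) {R : Over S} {t s : R ⟶ U}
    (sq : IsPullback ((yon S).map t) ((yon S).map s) p p) :
    QuasiCompact (pullback.lift t.left s.left ((Over.w t).trans (Over.w s).symm)) := by
  haveI := isLocallyNoetherian_of_chart hN hp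
  haveI : Etale t.left := etale_left (repWith_of_isPullback sq.flip hp)
  let f := pullback.lift t.left s.left ((Over.w t).trans (Over.w s).symm)
  haveI : Mono f := ⟨fun α β h => kp_ext sq
    (by simpa [f] using congrArg (· ≫ pullback.fst _ _) h)
    (by simpa [f] using congrArg (· ≫ pullback.snd _ _) h)⟩
  let 𝒜 := U.left.affineCover
  let 𝒰 := Scheme.Pullback.openCoverOfLeftRight 𝒜 𝒜 U.hom U.hom
  refine IsZariskiLocalAtTarget.of_openCover (P := @QuasiCompact) 𝒰 fun ij => ?_
  obtain ⟨i, k⟩ := ij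
  let π : 𝒰.X (i, k) ⟶ 𝒜.X i := pullback.fst (𝒜.f i ≫ U.hom) (𝒜.f k ≫ U.hom)
  let π' : 𝒰.X (i, k) ⟶ 𝒜.X k := pullback.snd (𝒜.f i ≫ U.hom) (𝒜.f k ≫ U.hom)
  have hπ : 𝒰.f (i, k) ≫ pullback.fst U.hom U.hom = π ≫ 𝒜.f i := pullback.lift_fst _ _ _
  have hπ' : 𝒰.f (i, k) ≫ pullback.snd U.hom U.hom = π' ≫ 𝒜.f k := pullback.lift_snd _ _ _
  haveI : IsAffine (𝒜.X i) := inferInstanceAs (IsAffine (U.left.affineCover.X i))
  haveI : IsAffine (𝒜.X k) := inferInstanceAs (IsAffine (U.left.affineCover.X k))
  haveI : IsSeparated (𝒜.f k ≫ U.hom) := inferInstance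
  haveI : IsSeparated π := MorphismProperty.pullback_fst (P := @IsSeparated) _ _ ‹_›
  haveI : QuasiSeparatedSpace (𝒰.X (i, k)) := quasiSeparatedSpace_of_quasiSeparated π
  let P := pullback f (𝒰.f (i, k))
  let p₁ : P ⟶ R.left := pullback.fst f (𝒰.f (i, k))
  let p₂ : P ⟶ 𝒰.X (i, k) := pullback.snd f (𝒰.f (i, k))
  haveI : Mono p₂ := inferInstance
  let g := p₂ ≫ π
  have hg : g ≫ 𝒜.f i = p₁ ≫ t.left := by
    rw [Category.assoc, ← hπ, ← pullback.condition_assoc, pullback.lift_fst]
  have hg' : (p₂ ≫ π') ≫ 𝒜.f k = p₁ ≫ s.left := by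
    rw [Category.assoc, ← hπ', ← pullback.condition_assoc, pullback.lift_snd]
  haveI : IsOpenImmersion p₁ := inferInstance
  haveI : Etale (g ≫ 𝒜.f i) := by rw [hg]; infer_instance
  haveI : Etale g := Etale.of_comp g (𝒜.f i)
  haveI : LocallyQuasiFinite g := locallyQuasiFinite_of_etale g
  haveI : IsLocallyNoetherian (𝒜.X i) := LocallyOfFiniteType.isLocallyNoetherian (𝒜.f i)
  haveI : IsNoetherian (𝒜.X i) := ⟨⟩
  haveI : CompactSpace P := by
    refine compactSpace_of_finite_fibres g fun x => ?_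
    refine ((finite_related_affine hd hp sq (𝒜.f i x) (isAffineOpen_opensRange (𝒜.f k))).preimage
      p₁.isOpenEmbedding.injective.injOn).subset fun w (hw : g w = x) => ⟨?_, ?_⟩
    · rw [← Scheme.Hom.comp_apply, ← hg, Scheme.Hom.comp_apply, hw]
    · rw [← Scheme.Hom.comp_apply, ← hg', Scheme.Hom.comp_apply]
      exact ⟨_, rfl⟩
  show QuasiCompact p₂
  exact quasiCompact_of_compactSpace p₂

/-- A locally Noetherian decent space is quasi-separated. -/
theorem isQuasiSeparatedSp_of_noeth_decent {X : Sp S} (hX : IsAlgSpace X) (hN : IsLocNoethSp X)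
    (hd : IsDecent X) : IsQuasiSeparatedSp X := by
  obtain ⟨U, p, he, hs⟩ := hX.atlas
  obtain ⟨R, t, s, sq⟩ := exists_isPullback_yon p p he.rep
  have hXX := isAlgSpace_prod hX hX
  have hUU := isAlgSpace_prod (IsAlgSpace.yon_obj U) (IsAlgSpace.yon_obj U)
  have hpp := repWith_prod_map he he
  have hppo : IsUnivOpenMor (prod.map p p) := isUnivOpenMor_of_flat_lfp hUU hXX
    (locP_of_repWith (repWith_mono (fun _ _ g (_ : Etale g) => (inferInstance : Flat g)) hpp))
    (locP_of_repWith (repWith_mono (fun _ _ g (_ : Etale g) => (inferInstance : LocallyOfFinitePresentation g)) hpp))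
  have hlift : RepWith @QuasiCompact (prod.lift ((yon S).map t) ((yon S).map s)) := by
    have e : prod.lift ((yon S).map t) ((yon S).map s) =
        (yon S).map (prod.lift t s) ≫ prodComparison (yon S) U U := by
      apply prod.hom_ext <;> simp [← Functor.map_comp]
    rw [e]
    refine MorphismProperty.RespectsIso.postcomp _ _ _ ((repWith_yon_map_iff _ _).2 ?_)
    have e2 : (prod.lift t s).left ≫ (Over.prodLeftIsoPullback U U).hom =
        pullback.lift t.left s.left ((Over.w t).trans (Over.w s).symm) := by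
      apply pullback.hom_ext
      · rw [Category.assoc, Over.prodLeftIsoPullback_hom_fst, pullback.lift_fst, ← Over.comp_left, prod.lift_fst]
      · rw [Category.assoc, Over.prodLeftIsoPullback_hom_snd, pullback.lift_snd, ← Over.comp_left, prod.lift_snd]
    have := quasiCompact_lift_of_noeth_decent hN hd he sq
    rw [← e2] at this
    exact (MorphismProperty.cancel_right_of_respectsIso @QuasiCompact _ _).1 this
  refine (repWith_quasiCompact_iff hX hXX hX.diag).2 ?_
  exact isQuasiCompactMor_of_base_change hX hXX hUU hppo (map_surjective_of_repWith (repWith_prod_map hs hs))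
    (isPullback_diag_prodMap sq) (isQuasiCompactMor_of_repWith (IsAlgSpace.yon_obj _) hUU hlift)

end MonoPtLib
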