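import Groth.Agent.MonoPtLib.Basic
import Groth.Agent.AlgSpLib.PointFactor
import Groth.Agent.AlgSpLib.OnePoint
import Groth.Agent.AlgSpLib.DecentPack
import Groth.Agent.AlgSpLib.FormalLocal
import Groth.Agent.AlgSpLib.Reduced
import Mathlib.AlgebraicGeometry.IdealSheaf.Functorial
import Mathlib.RingTheory.Ideal.MinimalPrime.Localization
import Mathlib.RingTheory.Ideal.MinimalPrime.Noetherian

/-!
# Residual spaces of locally Noetherian spaces
-/

set_option autoImplicit false
set_option backward.isDefEq.respectTransparency false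
set_option backward.isDefEq.respectTransparency.types false

universe u

open CategoryTheory CategoryTheory.Limits AlgebraicGeometry Opposite AlgSp Topology AlgSpLib TopologicalSpace

namespace MonoPtLib

/-- An image without specializations of an affine scheme in a Noetherian affine scheme is finite. -/
theorem finite_range_of_no_specializations {T V : Scheme.{u}} [IsAffine T] [IsAffine V] [IsLocallyNoetherian V]
    (h : T ⟶ V) (hns : ∀ t t', h t ⤳ h t' → h t = h t') : (Set.range h).Finite := by
  haveI : IsNoetherianRing Γ(V, ⊤) := IsLocallyNoetherian.component_noetherian ⟨⊤, isAffineOpen_top V⟩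
  let φ := h.appTop.hom
  let m : PrimeSpectrum Γ(T, ⊤) → PrimeSpectrum Γ(V, ⊤) := PrimeSpectrum.comap φ
  have hm : ∀ t, m (T.isoSpec.hom t) = V.isoSpec.hom (h t) := fun t => by
    have e := Scheme.isoSpec_hom_naturality h
    rw [← Scheme.Hom.comp_apply h, ← e, Scheme.Hom.comp_apply]
    rfl
  have hns' : ∀ q q', m q ⤳ m q' → m q = m q' := fun q q' hqq' => by
    obtain ⟨t, rfl⟩ := T.isoSpec.hom.surjective q
    obtain ⟨t', rfl⟩ := T.isoSpec.hom.surjective q'
    rw [hm, hm] at hqq' ⊢
    exact congrArg _ (hns t t' (V.isoSpec.hom.homeomorph.isInducing.specializes_iff.1 hqq'))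
  have hrange : Set.range m ⊆ {p | p.asIdeal ∈ (RingHom.ker φ).minimalPrimes} := by
    rintro _ ⟨q, rfl⟩
    have hle : RingHom.ker φ ≤ (m q).asIdeal := fun a (ha : φ a = 0) => by
      show φ a ∈ q.asIdeal
      rw [ha]; exact zero_mem _
    obtain ⟨p, hp, hple⟩ := Ideal.exists_minimalPrimes_le hle
    have hp' : p ∈ ((⊥ : Ideal Γ(T, ⊤)).comap φ).minimalPrimes := hp
    obtain ⟨p', hp'p, -, he⟩ := Ideal.exists_comap_eq_of_mem_minimalPrimes φ p hp'
    have e : m ⟨p', hp'p⟩ = m q :=
      hns' _ _ ((PrimeSpectrum.le_iff_specializes _ _).1 (show (m ⟨p', hp'p⟩).asIdeal ≤ (m q).asIdeal by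
        rw [show (m ⟨p', hp'p⟩).asIdeal = p from he]; exact hple))
    rw [Set.mem_setOf_eq, ← e, show (m ⟨p', hp'p⟩).asIdeal = p from he]
    exact hp
  have hfin : (Set.range m).Finite :=
    ((Ideal.finite_minimalPrimes_of_isNoetherianRing _ _).preimage
      fun _ _ _ _ h => PrimeSpectrum.ext h).subset hrange
  refine (hfin.preimage V.isoSpec.hom.homeomorph.injective.injOn).subset ?_
  rintro _ ⟨t, rfl⟩
  exact ⟨T.isoSpec.hom t, hm t⟩

/-- The reduced structure on a closed set. -/
theorem isReduced_vanishingIdeal' {X : Scheme.{u}} (F : Closeds X) :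
    IsReduced (Scheme.IdealSheafData.vanishingIdeal F).subscheme := by
  have : ∀ i, IsReduced ((Scheme.IdealSheafData.vanishingIdeal F).subschemeCover.openCover.X i) :=
    fun (U : X.affineOpens) => by
    change IsReduced (Spec (CommRingCat.of
      (Γ(X, U) ⧸ (Scheme.IdealSheafData.vanishingIdeal F).ideal U)))
    have : _root_.IsReduced (Γ(X, U) ⧸ (Scheme.IdealSheafData.vanishingIdeal F).ideal U) :=
      (Ideal.isRadical_iff_quotient_reduced _).1 (by
        rw [Scheme.IdealSheafData.vanishingIdeal_ideal]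
        exact PrimeSpectrum.isRadical_vanishingIdeal _)
    infer_instance
  exact IsReduced.of_openCover (𝒰 := (Scheme.IdealSheafData.vanishingIdeal F).subschemeCover.openCover)

variable {S : Scheme.{u}}

/-- A field-valued point at `x` factors through the residual space. -/
theorem exists_factor_residual_field {X Z : Sp S} (hX : IsAlgSpace X) (hZ : IsAlgSpace Z) {x : Points X}
    {i : Z ⟶ X} [Mono i] (hi : Set.range (Points.map i) = {x})
    {k : Type u} [Field k] {str : Spec (CommRingCat.of k) ⟶ S} {p : (yon S).obj (Over.mk str) ⟶ Z}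
    (hp₁ : LocP @LocallyOfFinitePresentation p) (hp₂ : LocP @Flat p) (hps : IsSurjectiveMor p)
    {K : Type u} [Field K] {strK : Spec (CommRingCat.of K) ⟶ S} (q : (yon S).obj (Over.mk strK) ⟶ X)
    (hq : Points.ofPt q (IsLocalRing.closedPoint K) = x) : ∃ l, l ≫ i = q := by
  have hK := IsAlgSpace.yon_obj (S := S) (Over.mk strK)
  have sq := IsPullback.of_hasPullback i q
  have hP := isAlgSpace_of_isPullback hZ hK hX sq
  obtain ⟨z, hz⟩ : x ∈ Set.range (Points.map i) := hi ▸ rfl
  obtain ⟨w, -, -⟩ := exists_point_isPullback sq z (Points.schemeHomeo (Over.mk strK) (IsLocalRing.closedPoint K))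
    (by rw [hz, ← hq]; exact congrFun (ofPt_comp_ofScheme q) _)
  haveI : Mono (pullback.snd i q) := inferInstance
  haveI : MorphismProperty.ContainsIdentities (C := Scheme.{u}) @LocallyOfFinitePresentation :=
    ⟨fun _ => inferInstance⟩
  haveI : MorphismProperty.ContainsIdentities (C := Scheme.{u}) @Flat := ⟨fun _ => inferInstance⟩
  have hid : RepWith @Surjective (𝟙 ((yon S).obj (Over.mk strK))) := repWith_id _ _
  haveI : IsIso (pullback.snd i q) :=
    (isEmpty_or_isIso_of_mono hP hK _ (k := K) (str := strK) (p := 𝟙 _) (locP_of_repWith (repWith_id _ _))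
      (locP_of_repWith (repWith_id _ _)) (map_surjective_of_repWith hid)).resolve_left fun h => h.false w
  exact ⟨inv (pullback.snd i q) ≫ pullback.fst i q, by
    rw [Category.assoc, pullback.condition, IsIso.inv_hom_id_assoc]⟩

/-- Morphisms from reduced schemes to a locally Noetherian space with image one point factor through its
residual space. -/
theorem exists_factor_residual_scheme {X Z : Sp S} (hX : IsAlgSpace X) (hN : IsLocNoethSp X) (hZ : IsAlgSpace Z)
    {x : Points X} {i : Z ⟶ X} [Mono i] (hi : Set.range (Points.map i) = {x})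
    {k : Type u} [Field k] {str : Spec (CommRingCat.of k) ⟶ S} {p : (yon S).obj (Over.mk str) ⟶ Z}
    (hp₁ : LocP @LocallyOfFinitePresentation p) (hp₂ : LocP @Flat p) (hps : IsSurjectiveMor p)
    {T : Over S} [IsReduced T.left] (g : (yon S).obj T ⟶ X) (hg : ∀ t, Points.ofPt g t = x) :
    ∃ l, l ≫ i = g := by
  obtain ⟨U, a, ha, has⟩ := hX.atlas
  haveI := isLocallyNoetherian_of_chart hN ha
  obtain ⟨W, wU, wT, sq⟩ := exists_isPullback_yon a g ha.rep
  haveI : Etale wT.left := etale_left (repWith_of_isPullback sq ha)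
  haveI : Surjective wT.left := surjective_left (repWith_of_isPullback sq has)
  haveI : IsReduced W.left := isReduced_of_smooth wT.left
  have hx : ∀ w, Points.ofPt a (wU.left w) = x := fun w =>
    ((ofPt_eq_ofPt_iff sq (wU.left w) (wT.left w)).2 ⟨w, rfl, rfl⟩).trans (hg _)
  -- around every point the chart is constant on an open
  have key : ∀ w : W.left, ∃ O : W.left.Opens, w ∈ O ∧ ∀ w' ∈ O, wU.left w' = wU.left w := fun w => by
    obtain ⟨V, hV, hwV, -⟩ := exists_isAffineOpen_mem_and_subset (U := ⊤) (x := wU.left w) trivial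
    obtain ⟨O, hO, hwO, hOV⟩ := exists_isAffineOpen_mem_and_subset (U := wU.left ⁻¹ᵁ V) (x := w) hwV
    haveI : IsAffine O.toScheme := hO
    haveI : IsAffine V.toScheme := hV
    haveI : IsLocallyNoetherian V.toScheme := LocallyOfFiniteType.isLocallyNoetherian V.ι
    let h : O.toScheme ⟶ V.toScheme := wU.left.resLE V O hOV
    have hh : ∀ o : O.toScheme, (h o).1 = wU.left o.1 := fun o => by
      have : h ≫ V.ι = O.ι ≫ wU.left := Scheme.Hom.resLE_comp_ι _ _
      exact congrArg (fun m : O.toScheme ⟶ U.left => m o) this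
    have hns : ∀ o o', h o ⤳ h o' → h o = h o' := fun o o' hs => by
      refine Subtype.ext (eq_of_specializes_of_noeth hN ha ?_ (hs.map continuous_subtype_val)).symm
      rw [hh, hh, hx, hx]
    have hfin := finite_range_of_no_specializations h hns
    let c := h ⟨w, hwO⟩
    let B := ⋃ v ∈ Set.range h \ {c}, closure ({v} : Set V.toScheme)
    have hB : IsClosed B := hfin.sdiff.isClosed_biUnion fun _ _ => isClosed_closure
    refine ⟨O.ι ''ᵁ (h ⁻¹ᵁ ⟨Bᶜ, hB.isOpen_compl⟩), ⟨⟨w, hwO⟩, fun hc => ?_, rfl⟩, ?_⟩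
    · obtain ⟨v, ⟨⟨o, rfl⟩, hne⟩, hcl⟩ := Set.mem_iUnion₂.1 hc
      exact hne (hns o ⟨w, hwO⟩ (specializes_iff_mem_closure.2 hcl))
    · rintro _ ⟨o, ho, rfl⟩
      have ho' : h o = c := by
        by_contra hne
        exact ho (Set.mem_iUnion₂.2 ⟨h o, ⟨⟨o, rfl⟩, hne⟩, subset_closure rfl⟩)
      have := congrArg Subtype.val ho'
      rw [hh, hh] at this
      exact this
  choose O hwO hO using key
  let Tk : W.left → Over S := fun w => Over.mk ((O w).ι ≫ W.hom)
  let jk : ∀ w, Tk w ⟶ W := fun w => Over.homMk (O w).ι rfl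
  let c : ∀ w, Tk w ⟶ T := fun w => jk w ≫ wT
  have hl : ∀ w, ∃ l, l ≫ i = (yon S).map (c w) ≫ g := fun w => by
    haveI : IsReduced (O w).toScheme := isReduced_of_isOpenImmersion (O w).ι
    obtain ⟨r, hr⟩ := exists_factor_residueField ((O w).ι ≫ wU.left) (wU.left w) fun t => by
      rw [Scheme.Hom.comp_apply]; exact hO w t.1 t.2
    let r' : Tk w ⟶ resPt (wU.left w) := Over.homMk r (by
      change r ≫ U.left.fromSpecResidueField _ ≫ U.hom = (O w).ι ≫ W.hom
      rw [← Category.assoc, hr, Category.assoc, Over.w wU])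
    have hr' : r' ≫ resι (wU.left w) = jk w ≫ wU := Over.OverMorphism.ext hr
    obtain ⟨l, hl⟩ := exists_factor_residual_field hX hZ hi hp₁ hp₂ hps
      (K := U.left.residueField (wU.left w)) ((yon S).map (resι (wU.left w)) ≫ a) (by
        rw [ofPt_yon_comp]
        exact (congrArg _ (resι_apply _ _)).trans (hx w))
    refine ⟨(yon S).map r' ≫ l, ?_⟩
    rw [Category.assoc, hl, ← Functor.map_comp_assoc, hr', Functor.map_comp_assoc, sq.w, ← Functor.map_comp_assoc]
  choose l hl using hl
  have hflat : ∀ w, Flat (c w).left := fun w => inferInstanceAs (Flat ((O w).ι ≫ wT.left))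
  have hlfp : ∀ w, LocallyOfFinitePresentation (c w).left := fun w =>
    inferInstanceAs (LocallyOfFinitePresentation ((O w).ι ≫ wT.left))
  have hcov : ∀ t : T.left, ∃ w, t ∈ Set.range (c w).left := fun t => by
    obtain ⟨w, hw⟩ := wT.left.surjective t
    exact ⟨w, ⟨w, hwO w⟩, (Scheme.Hom.comp_apply (O w).ι wT.left _).trans hw⟩
  obtain ⟨b, hb⟩ := exists_amalgamation c hflat hlfp hcov l fun w w' R gi gj e => by
    rw [← cancel_mono i, Category.assoc, Category.assoc, hl, hl, ← Functor.map_comp_assoc, e,
      Functor.map_comp_assoc]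
  exact ⟨b, hom_ext_of_cover c hflat hlfp hcov fun w => by rw [← Category.assoc, hb, hl]⟩

/-- The residual space of a closed point of a locally Noetherian space is a closed subspace. -/
theorem repWith_closedImmersion_residual {X Z : Sp S} (hX : IsAlgSpace X) (hN : IsLocNoethSp X) (hZ : IsAlgSpace Z)
    {x : Points X} (hx : IsClosed ({x} : Set (Points X))) {i : Z ⟶ X} [Mono i] (hi : Set.range (Points.map i) = {x})
    {k : Type u} [Field k] {str : Spec (CommRingCat.of k) ⟶ S} {p : (yon S).obj (Over.mk str) ⟶ Z}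
    (hp₁ : LocP @LocallyOfFinitePresentation p) (hp₂ : LocP @Flat p) (hps : IsSurjectiveMor p) :
    RepWith @IsClosedImmersion i := by
  obtain ⟨U, a, ha, has⟩ := hX.atlas
  let F : Closeds U.left := ⟨Points.ofPt a ⁻¹' {x}, hx.preimage (Points.continuous_ofPt a)⟩
  let I := Scheme.IdealSheafData.vanishingIdeal F
  have hI : Set.range I.subschemeι = (F : Set U.left) := by
    rw [Scheme.IdealSheafData.range_subschemeι, Scheme.IdealSheafData.coe_support_vanishingIdeal]
  let W : Over S := Over.mk (I.subschemeι ≫ U.hom)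
  let j : W ⟶ U := Over.homMk I.subschemeι rfl
  haveI : IsClosedImmersion j.left := inferInstanceAs (IsClosedImmersion I.subschemeι)
  haveI : IsReduced W.left := isReduced_vanishingIdeal' F
  haveI : Mono j := (Over.forget S).mono_of_mono_map (inferInstanceAs (Mono j.left))
  obtain ⟨l, hl⟩ := exists_factor_residual_scheme hX hN hZ hi hp₁ hp₂ hps ((yon S).map j ≫ a) fun w => by
    rw [ofPt_yon_comp]
    have : j.left w ∈ (F : Set U.left) := hI ▸ Set.mem_range_self w
    exact this
  have sq := IsPullback.of_hasPullback i a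
  let m := sq.lift l ((yon S).map j) hl
  haveI : Mono m := mono_of_mono_fac (sq.lift_snd _ _ _)
  have hP := isAlgSpace_of_isPullback hZ (IsAlgSpace.yon_obj U) hX sq
  obtain ⟨A, α, hα, hαs⟩ := hP.atlas
  haveI : IsReduced A.left := isReduced_of_chart
    ((onePoint_reduced_iff hZ).2 ⟨k, inferInstance, str, p, hp₂, hps⟩).1
    (repWith_comp hα (repWith_of_isPullback sq.flip ha))
  obtain ⟨β, hβ⟩ := (yon S).map_surjective (α ≫ pullback.snd i a)
  have hβF : ∀ t, β.left t ∈ Set.range j.left := fun t => by
    change β.left t ∈ Set.range I.subschemeι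
    rw [hI]
    change Points.ofPt a (β.left t) = x
    rw [← ofPt_yon_comp, hβ, Category.assoc, ← sq.w, ← Category.assoc, ← Points.map_ofPt]
    exact Set.mem_singleton_iff.1 (hi ▸ Set.mem_range_self _)
  haveI : IsClosedImmersion (pullback.fst β.left j.left) :=
    MorphismProperty.pullback_fst (P := @IsClosedImmersion) _ _ ‹_›
  haveI : Surjective (pullback.fst β.left j.left) := ⟨fun t => by
    obtain ⟨w, hw⟩ := hβF t
    obtain ⟨v, hv, -⟩ := Scheme.Pullback.exists_preimage_pullback (f := β.left) (g := j.left) t w hw.symm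
    exact ⟨v, hv⟩⟩
  haveI : IsIso (pullback.fst β.left j.left) := isIso_of_isClosedImmersion_of_surjective _
  let γ : A ⟶ W := Over.homMk (inv (pullback.fst β.left j.left) ≫ pullback.snd β.left j.left) (by
    change _ ≫ j.left ≫ U.hom = A.hom
    rw [Category.assoc, ← pullback.condition_assoc, IsIso.inv_hom_id_assoc, Over.w β])
  have hγ : γ ≫ j = β := Over.OverMorphism.ext (by
    change (inv (pullback.fst β.left j.left) ≫ pullback.snd β.left j.left) ≫ j.left = β.left
    rw [Category.assoc, ← pullback.condition, IsIso.inv_hom_id_assoc])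
  have hγm : (yon S).map γ ≫ m = α := by
    have h2 : ((yon S).map γ ≫ m) ≫ pullback.snd i a = α ≫ pullback.snd i a := by
      rw [Category.assoc, sq.lift_snd, ← Functor.map_comp, hγ, hβ]
    refine sq.hom_ext ((cancel_mono i).1 ?_) h2
    rw [Category.assoc, Category.assoc α, sq.w, ← Category.assoc, h2, Category.assoc]
  haveI : Sheaf.IsLocallySurjective α := isLocallySurjective_of_repWith
    (repWith_mono (fun _ _ g (_ : Etale g) => (inferInstance : Flat g)) hα)
    (repWith_mono (fun _ _ g (_ : Etale g) => (inferInstance : LocallyOfFinitePresentation g)) hα) hαs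
  haveI : Epi m := epi_of_epi_fac hγm
  haveI : IsIso m := isIso_of_mono_of_epi m
  have hsnd : pullback.snd i a = inv m ≫ (yon S).map j := by
    rw [IsIso.eq_inv_comp, sq.lift_snd]
  refine repWith_of_etale_cover (P := (@IsClosedImmersion : MorphismProperty Scheme.{u}))
    (fun _ _ g (_ : IsClosedImmersion g) => (inferInstance : IsAffineHom g)) ha has sq ?_
  rw [hsnd]
  exact MorphismProperty.RespectsIso.precomp _ _ _
    ((repWith_yon_map_iff (P := (@IsClosedImmersion : MorphismProperty Scheme.{u})) j).2 inferInstance)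

/-- A closed one-point subspace has closed point. -/
theorem isClosed_of_closedImmersion {X Z : Sp S} (hX : IsAlgSpace X) {x : Points X} {i : Z ⟶ X}
    (hi : Set.range (Points.map i) = {x}) (h : RepWith @IsClosedImmersion i) : IsClosed ({x} : Set (Points X)) := by
  obtain ⟨U, a, ha, has⟩ := hX.atlas
  rw [← (isQuotientMap_ofPt ha has).isClosed_preimage]
  have sq := h.rep.isPullback a
  have : Points.ofPt a ⁻¹' {x} = Set.range (h.rep.snd a).left := by
    rw [← hi]
    ext u
    constructor
    · rintro ⟨z, hz⟩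
      obtain ⟨w, -, hw⟩ := exists_point_isPullback sq z (Points.schemeHomeo U u)
        (hz.trans (congrFun (ofPt_comp_ofScheme a) u))
      obtain ⟨w, rfl⟩ := (Points.schemeHomeo _).surjective w
      rw [Points.map_yon_map_apply] at hw
      exact ⟨w, (Points.schemeHomeo U).injective hw⟩
    · rintro ⟨w, rfl⟩
      refine ⟨Points.ofPt (h.rep.fst a) w, ?_⟩
      rw [Points.map_ofPt, h.rep.w, ofPt_yon_comp]
  rw [this]
  haveI : IsClosedImmersion (h.rep.snd a).left := h.property_snd a
  exact (h.rep.snd a).left.isClosedEmbedding.isClosed_range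

end MonoPtLib
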